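import Cfsg.Agent.Lib.Lie.Chev.InvolutionFrame

/-! Finite checks saying that a root system is simply laced, and what they give for root elements
in characteristic two. -/

set_option autoImplicit false

namespace Cfsg.Agent.Lie.Chev

open Cfsg.Lie

namespace Tables

variable (T : Tables)

/-- Positive roots. -/
def posList : List ℕ := List.range' T.h T.h

/-- The difference `s - r` read from a row of differences. -/
def diffGet (diff : List ℕ) (r s : ℕ) : ℕ := field 8 (diff.getD (r - T.h) 0) (s - T.h)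

/-- The root `s` exceeds `r` by a positive root. -/
def diffOK (diff : List ℕ) (r s : ℕ) : Bool :=
  let t := T.diffGet diff r s
  Nat.ble T.h t && Nat.blt t T.n && !(Nat.beq t r) &&
    match T.commTerms r t with
    | [(k, _, _, _)] => Nat.beq k s
    | _ => false

/-- A pair of positive roots of a simply laced system. -/
def pairOK (diff : List ℕ) (r s : ℕ) : Bool :=
  intBeq (T.pairing s r) (T.pairing r s) &&
    match T.commTerms r s with
    | [] => (intBeq (T.pairing r s) 0 && T.strong r s) ||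
        (intBeq (T.pairing r s) 1 && (Nat.blt s r || T.diffOK diff r s))
    | [(_, z, i, j)] => intBeq (T.pairing r s) (-1) && isOdd z && Nat.beq i 1 && Nat.beq j 1
    | _ => false

/-- The root system is simply laced. -/
def checkSimply (diff : List ℕ) : Bool :=
  T.checkPairNeg && T.posList.all fun r => T.posList.all fun s => Nat.beq s r || T.pairOK diff r s

end Tables

/-- A table with the check that it is simply laced. -/
structure Simply (D : ChevalleyDatum) extends CertFull D where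
  diff : List ℕ
  simply : toCertFull.T.checkSimply diff = true

namespace Simply

variable {D : ChevalleyDatum} (c : Simply D)
include c

theorem hneg : c.T.checkPairNeg = true := by
  have h := c.simply
  simp only [Tables.checkSimply, Bool.and_eq_true] at h
  exact h.1

theorem pair_ok {r s : ℕ} (hr : c.Pos r) (hs : c.Pos s) (hne : s ≠ r) :
    c.T.pairOK c.diff r s = true := by
  have h := c.simply
  have hh := c.h_add_h
  have hr' := hr.2
  have hs' := hs.2
  simp only [Tables.checkSimply, Bool.and_eq_true, List.all_eq_true, Tables.posList,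
    List.mem_range'_1, Bool.or_eq_true, Nat.beq_eq] at h
  exact (h.2 r ⟨hr.1, by omega⟩ s ⟨hs.1, by omega⟩).resolve_left hne

theorem pairing_symm {r s : ℕ} (hr : c.Pos r) (hs : c.Pos s) (hne : s ≠ r) :
    c.T.pairing s r = c.T.pairing r s := by
  have h := c.pair_ok hr hs hne
  simp only [Tables.pairOK, Bool.and_eq_true] at h
  exact CertFull.intBeq_imp_eq h.1

theorem pairing_self {r : ℕ} (hr : r < D.nroots) : c.T.pairing r r = 2 :=
  c.pairing_self_two c.hneg hr

/-- The three possibilities for a pair of positive roots. -/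
theorem cases {r s : ℕ} (hr : c.Pos r) (hs : c.Pos s) (hne : s ≠ r) :
    (c.T.pairing r s = 0 ∧ c.T.commTerms r s = [] ∧ c.Orth r s) ∨
    (c.T.pairing r s = 1 ∧ c.T.commTerms r s = []) ∨
    (c.T.pairing r s = -1 ∧ ∃ (k : ℕ) (z : ℤ), c.T.commTerms r s = [(k, z, 1, 1)] ∧ z % 2 = 1) := by
  have h := c.pair_ok hr hs hne
  simp only [Tables.pairOK, Bool.and_eq_true] at h
  have h2 := h.2
  rcases hc : c.T.commTerms r s with _ | ⟨⟨k, z, i, j⟩, _ | ⟨x, L⟩⟩
  · simp only [hc, Bool.or_eq_true, Bool.and_eq_true] at h2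
    rcases h2 with ⟨e, e'⟩ | ⟨e, -⟩
    · exact Or.inl ⟨CertFull.intBeq_imp_eq e, rfl, c.orth_of_strong hr.2 hs.2 e'⟩
    · exact Or.inr (Or.inl ⟨CertFull.intBeq_imp_eq e, rfl⟩)
  · simp only [hc, Bool.and_eq_true, Nat.beq_eq] at h2
    obtain ⟨⟨⟨e, ez⟩, rfl⟩, rfl⟩ := h2
    exact Or.inr (Or.inr ⟨CertFull.intBeq_imp_eq e, k, z, rfl, isOdd_iff.1 ez⟩)
  · simp [hc] at h2

/-- The code of a sum. -/
def Sum (r s k : ℕ) : Prop := c.Pos k ∧ c.T.code k = c.T.code r + c.T.code s

theorem sum_of_terms {r s k : ℕ} {z : ℤ} (hr : c.Pos r) (hs : c.Pos s)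
    (h : c.T.commTerms r s = [(k, z, 1, 1)]) : c.Sum r s k := by
  obtain ⟨h1, -, -, h4⟩ := c.mem_commTerms hr.2 hs.2 (x := (k, z, 1, 1)) (by simp [h])
  refine ⟨(c.commTerms_gt hr hs (x := (k, z, 1, 1)) (by simp [h])).1, ?_⟩
  simp only at h4
  rw [h4]
  push_cast
  ring

theorem sum_pairing {q r s k : ℕ} (hr : r < D.nroots) (hs : s < D.nroots) (h : c.Sum r s k) :
    c.T.pairing q k = c.T.pairing q r + c.T.pairing q s := by
  rw [c.pairing_eq_sum, c.pairing_eq_sum, c.pairing_eq_sum, ← Finset.sum_add_distrib]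
  refine Finset.sum_congr rfl fun i hi => ?_
  rw [c.cartan_add h.1.2 hr hs h.2 (Finset.mem_range.1 hi), mul_add]

theorem sum_lt {r s k : ℕ} (hr : c.Pos r) (hs : c.Pos s) (h : c.Sum r s k) : r < k ∧ s < k := by
  have h1 := (c.pos_iff_code hr.2).1 hr
  have h2 := (c.pos_iff_code hs.2).1 hs
  constructor
  · by_contra hle
    have := (c.code_le_iff h.1.2 hr.2).2 (by omega)
    rw [h.2] at this
    omega
  · by_contra hle
    have := (c.code_le_iff h.1.2 hs.2).2 (by omega)
    rw [h.2] at this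
    omega

theorem sum_symm {r s k : ℕ} (h : c.Sum r s k) : c.Sum s r k := ⟨h.1, by rw [h.2, add_comm]⟩

theorem sum_unique {r s k k' : ℕ} (h : c.Sum r s k) (h' : c.Sum r s k') : k = k' :=
  c.code_inj h.1.2 h'.1.2 (h.2.trans h'.2.symm)

/-- Sums are monotone. -/
theorem sum_mono {r s k r' s' k' : ℕ} (hr : r' < D.nroots) (hs : s' < D.nroots)
    (hr0 : r < D.nroots) (hs0 : s < D.nroots) (h : c.Sum r s k) (h' : c.Sum r' s' k') (h1 : r ≤ r')
    (h2 : s ≤ s') (h3 : r < r' ∨ s < s') : k < k' := by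
  have e1 := (c.code_le_iff hr0 hr).2 h1
  have e2 := (c.code_le_iff hs0 hs).2 h2
  by_contra hle
  have e3 := (c.code_le_iff h'.1.2 h.1.2).2 (by omega)
  rw [h.2, h'.2] at e3
  rcases h3 with h3 | h3
  · have := c.code_lt h3 hr; omega
  · have := c.code_lt h3 hs; omega

/-- A difference of positive roots at pairing one. -/
theorem exists_diff {r s : ℕ} (hr : c.Pos r) (hs : c.Pos s) (hrs : r < s)
    (hp : c.T.pairing r s = 1) :
    ∃ t, c.Pos t ∧ t ≠ r ∧ c.Sum r t s ∧ c.T.pairing r t = -1 := by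
  have h := c.pair_ok hr hs (by omega)
  simp only [Tables.pairOK, Bool.and_eq_true] at h
  have h2 := h.2
  have hc : c.T.commTerms r s = [] := by
    rcases c.cases hr hs (by omega) with ⟨e, -⟩ | ⟨-, e⟩ | ⟨e, -⟩
    · omega
    · exact e
    · omega
  simp only [hc, Bool.or_eq_true, Bool.and_eq_true, Nat.blt_eq] at h2
  rcases h2 with ⟨e, -⟩ | ⟨-, e | e⟩
  · have := CertFull.intBeq_imp_eq e; omega
  · omega
  simp only [Tables.diffOK, Bool.and_eq_true, Nat.ble_eq, Nat.blt_eq, Bool.not_eq_true'] at e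
  obtain ⟨⟨⟨t1, t2⟩, t3⟩, t4⟩ := e
  set t := c.T.diffGet c.diff r s
  have ht : c.Pos t := ⟨t1, c.nroots_eq ▸ t2⟩
  have htr : t ≠ r := fun e => by rw [e] at t3; simp at t3
  rcases c.cases hr ht htr with ⟨-, e, -⟩ | ⟨-, e⟩ | ⟨e0, k, z, e, -⟩
  · simp [e] at t4
  · simp [e] at t4
  · simp only [e, Nat.beq_eq] at t4
    exact ⟨t, ht, htr, t4 ▸ c.sum_of_terms hr ht e, e0⟩

section Elements

variable {F : Type*} [Field F] [CharP F 2]

theorem xg_inv_self (r : ℕ) (t : F) : (c.xg r t)⁻¹ = c.xg r t := by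
  rw [c.xg_inv, CharTwo.neg_eq]

theorem xg_mul_self (r : ℕ) (t : F) : c.xg r t * c.xg r t = 1 := by
  rw [← c.xg_add, CharTwo.add_self_eq_zero, c.xg_zero]

omit c in
theorem intCast_odd {z : ℤ} (h : z % 2 = 1) : (z : F) = 1 := by
  have e : z = 2 * (z / 2) + 1 := by omega
  rw [e]
  push_cast
  rw [CharTwo.two_eq_zero, zero_mul, zero_add]

theorem ne_neg_of_pos {r s : ℕ} (hr : c.Pos r) (hs : c.Pos s) : s ≠ D.neg r :=
  fun e => ((c.not_pos_iff hr.2).2 (e ▸ hs)) hr

theorem commute_of_pairing {r s : ℕ} (hr : c.Pos r) (hs : c.Pos s) (h : c.T.pairing r s ≠ -1)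
    (t u : F) : Commute (c.xg r t) (c.xg s u) := by
  by_cases hne : s = r
  · subst hne
    show c.xg s t * c.xg s u = c.xg s u * c.xg s t
    rw [← c.xg_add, ← c.xg_add, add_comm]
  have key : c.T.commTerms r s = [] → Commute (c.xg r t) (c.xg s u) := fun e => by
    have h' := c.xg_comm hr.2 hs.2 hne (c.ne_neg_of_pos hr hs) t u
    rw [e, List.map_nil, List.prod_nil, mul_one] at h'
    exact h'.symm
  rcases c.cases hr hs hne with ⟨-, e, -⟩ | ⟨-, e⟩ | ⟨e, -⟩
  · exact key e
  · exact key e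
  · exact absurd e h

theorem exists_sum {r s : ℕ} (hr : c.Pos r) (hs : c.Pos s) (h : c.T.pairing r s = -1) :
    ∃ k, c.Sum r s k ∧ ∀ t u : F,
      c.xg s u * c.xg r t = c.xg r t * c.xg s u * c.xg k (t * u) := by
  have hne : s ≠ r := fun e => by
    rw [e, c.pairing_self hr.2] at h
    omega
  rcases c.cases hr hs hne with ⟨e, -, -⟩ | ⟨e, -⟩ | ⟨-, k, z, e, hz⟩
  · omega
  · omega
  refine ⟨k, c.sum_of_terms hr hs e, fun t u => ?_⟩
  rw [c.xg_comm hr.2 hs.2 hne (c.ne_neg_of_pos hr hs) t u, e]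
  simp [intCast_odd hz, CharTwo.neg_eq]

/-- Conjugation of a root element. -/
theorem conj_sum {r s : ℕ} (hr : c.Pos r) (hs : c.Pos s) (h : c.T.pairing r s = -1) :
    ∃ k, c.Sum r s k ∧ ∀ t u : F,
      c.xg s u * c.xg r t * c.xg s u = c.xg r t * c.xg k (t * u) := by
  obtain ⟨k, hk, e⟩ := c.exists_sum (F := F) hr hs h
  refine ⟨k, hk, fun t u => ?_⟩
  have hcom : Commute (c.xg k (t * u)) (c.xg s u) := by
    refine c.commute_of_pairing hk.1 hs ?_ _ _
    have hne : s ≠ k := (c.sum_lt hr hs hk).2.ne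
    rw [← c.pairing_symm hk.1 hs hne, c.sum_pairing hr.2 hs.2 hk, c.pairing_self hs.2,
      c.pairing_symm hr hs (fun e => by rw [e, c.pairing_self hr.2] at h; omega), h]
    omega
  rw [e, mul_assoc, hcom.eq, mul_assoc, ← mul_assoc (c.xg s u), c.xg_mul_self, one_mul]

end Elements

end Simply

end Cfsg.Agent.Lie.Chev
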