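import Cfsg.Agent.Lib.Lie.Chev.EvenInv.Reduce
import Cfsg.Agent.Lib.Lie.Chev.BorelTits

/-! Sets of orthogonal roots up to signs and the Weyl group, and the resulting representatives of
the involutions in characteristic two. -/

set_option autoImplicit false

namespace Cfsg.Agent.Lie.Chev

open Cfsg.Lie

/-- Certificates for the classes of sets of orthogonal roots: representatives, the extension of
each by an orthogonal root, and the fate of each representative. -/
structure OrthData where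
  reps : List (List ℕ)
  ext : List (List (ℕ × List ℕ × ℕ))
  fate : List (Sum (List ℕ × ℕ) (List ℕ × List ℕ))
  targets : List (List ℕ)

namespace Tables

variable (T : Tables)

/-- The positive root of a pair. -/
def posr (r : ℕ) : ℕ := bif Nat.ble T.h r then r else T.neg r

/-- A root is orthogonal to all members of a list. -/
def orthTo (R : List ℕ) (s : ℕ) : Bool := R.all fun r => !(Nat.beq r s) && intZero (T.pairing r s)

/-- A list of pairwise orthogonal positive roots. -/
def orthSet : List ℕ → Bool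
  | [] => true
  | r :: R => Nat.ble T.h r && Nat.blt r T.n && T.orthTo R r && orthSet R

/-- A word moves one list to another up to signs. -/
def moves (L A B : List ℕ) : Bool :=
  (L.all fun p => Nat.blt p T.l) && (A.map fun x => T.posr (T.wlT L x)).isPerm B

/-- Multiply a normal form by a root element, over the field of two elements. -/
def push : ℕ → ℕ → List ℕ → List ℕ
  | 0, r, L => r :: L
  | _ + 1, r, [] => [r]
  | fuel + 1, r, a :: L =>
    bif Nat.blt r a then r :: a :: L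
    else bif Nat.beq r a then L
    else match T.commTerms a r with
      | [] => a :: push fuel r L
      | [(k, _, _, _)] => a :: push fuel r (push fuel k L)
      | _ => r :: a :: L

/-- The normal form of a word. -/
def collect (w : List ℕ) : List ℕ := w.foldr (T.push (2 * T.h)) []

/-- Valid positive roots. -/
def allPos (w : List ℕ) : Bool := w.all fun r => Nat.ble T.h r && Nat.blt r T.n

/-- The check of the certificates. -/
def checkOrth (d : OrthData) : Bool :=
  (d.reps.getD 0 [0]).isEmpty &&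
  (List.range d.reps.length).all fun i =>
    let R := d.reps.getD i []
    T.orthSet R &&
    (T.posList.all fun s => !(T.orthTo R s) ||
      match (d.ext.getD i []).find? (fun e => Nat.beq e.1 s) with
      | some e => Nat.blt e.2.2 d.reps.length && T.moves e.2.1 (s :: R) (d.reps.getD e.2.2 [])
      | none => false) &&
    (R.isEmpty || match d.fate.getD i (.inl ([], d.targets.length)) with
      | .inl (L, j) => Nat.blt j d.targets.length && T.moves L R (d.targets.getD j [])
      | .inr (ts, O) => T.allPos ts && T.orthSet O && !O.isEmpty && Nat.blt O.length R.length &&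
          decide (T.collect (ts ++ R ++ ts.reverse) = T.collect O))

end Tables

/-- Conjugate in the group. -/
def GConj (D : ChevalleyDatum) (F : Type*) [Field F] (g h : GL D.Idx F) : Prop :=
  ∃ x ∈ D.group F, x * g * x⁻¹ = h

theorem GConj.trans {D : ChevalleyDatum} {F : Type*} [Field F] {g h k : GL D.Idx F}
    (h1 : GConj D F g h) (h2 : GConj D F h k) : GConj D F g k := by
  obtain ⟨x, hx, rfl⟩ := h1
  obtain ⟨y, hy, rfl⟩ := h2
  exact ⟨y * x, mul_mem hy hx, by group⟩

namespace Simply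

variable {D : ChevalleyDatum} (c : Simply D)
include c

theorem posr_pos {r : ℕ} (hr : r < D.nroots) : c.Pos (c.T.posr r) := by
  have hh := c.h_add_h
  have hn := c.nroots_eq
  unfold Tables.posr Cert.Pos
  cases h : Nat.ble c.T.h r
  · have : ¬ c.T.h ≤ r := fun h' => by simp [Nat.ble_eq_true_of_le h'] at h
    simp only [cond_false, Tables.neg]
    omega
  · rw [Nat.ble_eq] at h
    exact ⟨h, hr⟩

theorem posr_eq {r : ℕ} (hr : r < D.nroots) :
    (c.Pos r ∧ c.T.posr r = r) ∨ (c.Pos (D.neg r) ∧ c.T.posr r = D.neg r) := by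
  unfold Tables.posr
  cases h : Nat.ble c.T.h r
  · refine Or.inr ⟨(c.not_pos_iff hr).1 fun h' => by simp [Nat.ble_eq_true_of_le h'.1] at h, ?_⟩
    rw [cond_false, c.neg_eq hr]
  · exact Or.inl ⟨⟨Nat.le_of_ble_eq_true h, hr⟩, rfl⟩

theorem posr_of_pos {r : ℕ} (hr : c.Pos r) : c.T.posr r = r := by
  simp [Tables.posr, Nat.ble_eq_true_of_le hr.1]

theorem posr_neg {r : ℕ} (hr : r < D.nroots) : c.T.posr (D.neg r) = c.T.posr r := by
  have hne : ∀ {x : ℕ}, c.Pos x → ¬ c.Pos (D.neg x) := fun {x} hx h =>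
    ((c.not_pos_iff hx.2).2 h) hx
  rcases c.posr_eq hr with ⟨h1, e1⟩ | ⟨h1, e1⟩
  · rcases c.posr_eq (c.neg_lt hr) with ⟨h2, -⟩ | ⟨-, e2⟩
    · exact absurd h2 (hne h1)
    · rw [e2, c.neg_neg hr, e1]
  · rw [c.posr_of_pos h1, e1]

theorem posr_eq_posr {r s : ℕ} (hr : r < D.nroots) (hs : s < D.nroots)
    (h : c.T.posr r = c.T.posr s) : r = s ∨ r = D.neg s := by
  rcases c.posr_eq hr with ⟨-, e1⟩ | ⟨-, e1⟩ <;> rcases c.posr_eq hs with ⟨-, e2⟩ | ⟨-, e2⟩ <;>
    rw [e1, e2] at h
  · exact Or.inl h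
  · exact Or.inr h
  · right; rw [← h, c.neg_neg hr]
  · exact Or.inl (c.neg_inj hr hs h)

theorem pairing_posr {r s : ℕ} (hr : r < D.nroots) (hs : s < D.nroots) :
    c.T.pairing (c.T.posr r) (c.T.posr s) = 0 ↔ c.T.pairing r s = 0 := by
  rcases c.posr_eq hr with ⟨-, e1⟩ | ⟨-, e1⟩ <;> rcases c.posr_eq hs with ⟨-, e2⟩ | ⟨-, e2⟩ <;>
    rw [e1, e2] <;>
    simp [c.pairing_neg_left c.hneg hr, c.toCertFull.pairing_neg_right, hs]

/-- Distinct orthogonal roots up to signs. -/
def Perp (r s : ℕ) : Prop :=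
  r < D.nroots ∧ s < D.nroots ∧ c.T.posr r ≠ c.T.posr s ∧ c.T.pairing r s = 0

theorem Perp.symm {r s : ℕ} (h : c.Perp r s) : c.Perp s r := by
  obtain ⟨hr, hs, hne, h0⟩ := h
  refine ⟨hs, hr, hne.symm, ?_⟩
  rw [← c.pairing_posr hs hr, c.pairing_symm (c.posr_pos hr) (c.posr_pos hs) hne.symm,
    c.pairing_posr hr hs]
  exact h0

theorem perp_of_pos {r s : ℕ} (hr : c.Pos r) (hs : c.Pos s) (hne : r ≠ s)
    (h : c.T.pairing r s = 0) : c.Perp r s :=
  ⟨hr.2, hs.2, by rwa [c.posr_of_pos hr, c.posr_of_pos hs], h⟩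

theorem Perp.map {r s : ℕ} (h : c.Perp r s) {L : List ℕ} (hL : ∀ p ∈ L, p < D.rank) :
    c.Perp (c.wl L r) (c.wl L s) := by
  obtain ⟨hr, hs, hne, h0⟩ := h
  refine ⟨c.wl_lt hL hr, c.wl_lt hL hs, fun e => ?_, by rw [c.pairing_wl hL hr hs, h0]⟩
  rcases c.posr_eq_posr (c.wl_lt hL hr) (c.wl_lt hL hs) e with e | e
  · exact hne (by rw [c.wl_inj hL hr hs e])
  · rw [← c.wl_neg hL hs] at e
    exact hne (by rw [c.wl_inj hL hr (c.neg_lt hs) e, c.posr_neg hs])

theorem Perp.posr {r s : ℕ} (h : c.Perp r s) : c.Perp (c.T.posr r) (c.T.posr s) := by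
  obtain ⟨hr, hs, hne, h0⟩ := h
  refine c.perp_of_pos (c.posr_pos hr) (c.posr_pos hs) hne ((c.pairing_posr hr hs).2 h0)

variable {F : Type*} [Field F] [CharP F 2]

theorem Perp.commute {r s : ℕ} (h : c.Perp r s) (a b : F) :
    Commute (c.xg r a) (c.xg s b) ∧ Commute (c.xg (D.neg r) a) (c.xg s b) := by
  obtain ⟨hr, hs, hne, h0⟩ := h
  have h0' := (c.pairing_posr hr hs).2 h0
  have ho : c.Orth (c.T.posr r) (c.T.posr s) := by
    rcases c.cases (c.posr_pos hr) (c.posr_pos hs) (Ne.symm hne) with ⟨-, -, h⟩ | ⟨h, -⟩ | ⟨h, -⟩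
    · exact h
    · omega
    · omega
  obtain ⟨h1, h2, h3, h4⟩ := c.xg_commute_strong (c.posr_pos hr).2 (c.posr_pos hs).2 ho a b
  have nr := c.neg_neg hr
  have ns := c.neg_neg hs
  rcases c.posr_eq hr with ⟨-, e1⟩ | ⟨-, e1⟩ <;> rcases c.posr_eq hs with ⟨-, e2⟩ | ⟨-, e2⟩ <;>
    rw [e1, e2] at h1 h2 h3 h4 <;> (try rw [nr] at h3 h4) <;> (try rw [ns] at h2 h4)
  · exact ⟨h1, h3⟩
  · exact ⟨h2, h4⟩
  · exact ⟨h3, h1⟩
  · exact ⟨h4, h2⟩

variable (F) in
/-- The product over a list of roots with all coefficients one. -/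
def prod1 (O : List ℕ) : GL D.Idx F := (O.map fun r => c.xg r (1 : F)).prod

omit [CharP F 2] in
theorem conj_prod {L : List ℕ} {x : GL D.Idx F} {f g : ℕ → GL D.Idx F}
    (h : ∀ r ∈ L, x * f r * x⁻¹ = g r) : x * (L.map f).prod * x⁻¹ = (L.map g).prod := by
  have e := map_list_prod (MulAut.conj x) (L.map f)
  rw [MulAut.conj_apply] at e
  rw [e, List.map_map]
  exact congrArg List.prod (List.map_congr_left fun r hr => by simpa using h r hr)

theorem prod1_perm {A B : List ℕ} (hp : A.Perm B) (hA : A.Pairwise c.Perp) :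
    c.prod1 F A = c.prod1 F B := by
  refine (hp.map _).prod_eq' ?_
  rw [List.pairwise_map]
  exact hA.imp fun h => (Perp.commute c h 1 1).1

theorem flip_signs : ∀ L : List ℕ, (∀ r ∈ L, r < D.nroots) → L.Pairwise c.Perp →
    ∃ x ∈ D.group F, (∀ r ∈ L, x * c.xg r (1 : F) * x⁻¹ = c.xg (c.T.posr r) 1) ∧
      ∀ q, (∀ r ∈ L, c.Perp r q) → ∀ t : F, x * c.xg q t * x⁻¹ = c.xg q t := by
  intro L
  induction L with
  | nil => exact fun _ _ => ⟨1, one_mem _, by simp, by simp⟩
  | cons r L ih =>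
    intro hlt hL
    obtain ⟨hr, hlt⟩ := List.forall_mem_cons.1 hlt
    obtain ⟨hrL, hL⟩ := List.pairwise_cons.1 hL
    obtain ⟨x, hx, hxL, hxq⟩ := ih hlt hL
    have hxr : ∀ t : F, x * c.xg r t * x⁻¹ = c.xg r t :=
      hxq r fun s hs => Perp.symm c (hrL s hs)
    rcases c.posr_eq hr with ⟨-, e⟩ | ⟨-, e⟩
    · refine ⟨x, hx, List.forall_mem_cons.2 ⟨by rw [hxr, e], hxL⟩,
        fun q hq => hxq q fun s hs => hq s (by simp [hs])⟩
    have hn : c.ng r (1 : F) ∈ D.group F := by
      simp only [Cert.ng]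
      exact mul_mem (mul_mem (c.xg_mem_group hr _) (c.xg_mem_group (c.neg_lt hr) _))
        (c.xg_mem_group hr _)
    have hcom : ∀ q, c.Perp r q → ∀ t : F, Commute (c.ng r (1 : F)) (c.xg q t) := by
      intro q hq t
      simp only [Cert.ng]
      exact ((Perp.commute c hq _ _).1.mul_left (Perp.commute c hq _ _).2).mul_left
        (Perp.commute c hq _ _).1
    refine ⟨c.ng r (1 : F) * x, mul_mem hn hx, List.forall_mem_cons.2 ⟨?_, fun s hs => ?_⟩,
      fun q hq t => ?_⟩
    · rw [show c.ng r (1 : F) * x * c.xg r 1 * (c.ng r 1 * x)⁻¹ =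
        c.ng r (1 : F) * (x * c.xg r 1 * x⁻¹) * (c.ng r 1)⁻¹ by group, hxr, c.ng_one_xg hr,
        mul_inv_cancel_right, e, CharTwo.neg_eq]
    · rw [show c.ng r (1 : F) * x * c.xg s 1 * (c.ng r 1 * x)⁻¹ =
        c.ng r (1 : F) * (x * c.xg s 1 * x⁻¹) * (c.ng r 1)⁻¹ by group, hxL s hs]
      have hps : c.Perp r (c.T.posr s) := by
        rcases c.posr_eq (hlt s hs) with ⟨-, e'⟩ | ⟨-, e'⟩ <;> rw [e']
        · exact hrL s hs
        · obtain ⟨h1, h2, h3, h4⟩ := hrL s hs
          exact ⟨h1, c.neg_lt h2, by rwa [c.posr_neg h2],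
            by rw [c.toCertFull.pairing_neg_right r h2, h4, neg_zero]⟩
      rw [(hcom _ hps 1).eq, mul_inv_cancel_right]
    · rw [show c.ng r (1 : F) * x * c.xg q t * (c.ng r 1 * x)⁻¹ =
        c.ng r (1 : F) * (x * c.xg q t * x⁻¹) * (c.ng r 1)⁻¹ by group,
        hxq q (fun s hs => hq s (by simp [hs])), (hcom q (hq r (by simp)) t).eq,
        mul_inv_cancel_right]

/-- Moving a set by a word. -/
theorem conj_moves {L A B : List ℕ} (hm : c.T.moves L A B = true) (hpos : ∀ r ∈ A, c.Pos r)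
    (hA : A.Pairwise c.Perp) : GConj D F (c.prod1 F A) (c.prod1 F B) := by
  simp only [Tables.moves, Bool.and_eq_true, List.all_eq_true, Nat.blt_eq,
    List.isPerm_iff] at hm
  obtain ⟨hL', hperm⟩ := hm
  have hL : ∀ p ∈ L, p < D.rank := fun p hp => by rw [c.rank_eq]; exact hL' p hp
  have hn : c.nw F L ∈ D.group F := c.N_le_group (c.nw_mem_N hL)
  have h1 : GConj D F (c.prod1 F A) (c.prod1 F (A.map (c.wl L))) := by
    refine ⟨_, hn, ?_⟩
    rw [prod1, prod1, List.map_map]
    refine c.conj_prod fun r hr => ?_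
    have hw : (c.wsign L r : F) = 1 := by
      have h2 : ((c.wsign L r : F) - 1) * ((c.wsign L r : F) - 1) = 0 := by
        linear_combination c.wsign_sq (F := F) L r +
          (1 - (c.wsign L r : F)) * CharTwo.two_eq_zero (R := F)
      exact sub_eq_zero.1 (mul_self_eq_zero.1 h2)
    rw [c.nw_mul_xg hL (hpos r hr).2, hw, one_mul, mul_inv_cancel_right]
    rfl
  have hlt : ∀ r ∈ A.map (c.wl L), r < D.nroots := fun r hr => by
    obtain ⟨s, hs, rfl⟩ := List.mem_map.1 hr
    exact c.wl_lt hL (hpos s hs).2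
  have hpair : (A.map (c.wl L)).Pairwise c.Perp :=
    List.pairwise_map.2 (hA.imp fun h => Perp.map c h hL)
  obtain ⟨x, hx, hxL, -⟩ := c.flip_signs (F := F) _ hlt hpair
  refine h1.trans ⟨x, hx, ?_⟩
  rw [prod1, c.conj_prod (g := fun r => c.xg (c.T.posr r) (1 : F)) hxL]
  have e : ((A.map (c.wl L)).map fun r => c.xg (c.T.posr r) (1 : F)).prod =
      c.prod1 F ((A.map (c.wl L)).map c.T.posr) := by simp [prod1, List.map_map, Function.comp_def]
  rw [e]
  refine c.prod1_perm ?_ (List.pairwise_map.2 (hpair.imp fun h => Perp.posr c h))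
  have e2 : (A.map (c.wl L)).map c.T.posr = A.map fun x => c.T.posr (c.T.wlT L x) := by
    rw [List.map_map]
    exact List.map_congr_left fun r _ => by simp [c.wlT_eq]
  rw [e2]
  exact hperm

omit [CharP F 2] in
theorem orthSet_spec : ∀ {R : List ℕ}, c.T.orthSet R = true →
    (∀ r ∈ R, c.Pos r) ∧ R.Pairwise c.Perp
  | [], _ => by simp
  | r :: R, h => by
    simp only [Tables.orthSet, Bool.and_eq_true, Nat.ble_eq, Nat.blt_eq, Tables.orthTo,
      List.all_eq_true, Bool.not_eq_true', intZero_iff] at h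
    obtain ⟨⟨⟨h1, h2⟩, h3⟩, h4⟩ := h
    obtain ⟨i1, i2⟩ := orthSet_spec h4
    have hr : c.Pos r := ⟨h1, c.nroots_eq ▸ h2⟩
    refine ⟨List.forall_mem_cons.2 ⟨hr, i1⟩, List.pairwise_cons.2 ⟨fun s hs => ?_, i2⟩⟩
    refine Perp.symm c (c.perp_of_pos (i1 s hs) hr (fun e => ?_) (h3 s hs).2)
    have := (h3 s hs).1
    rw [e] at this
    simp at this

/-- Every set of orthogonal roots is moved to a representative. -/
theorem exists_rep {d : OrthData} (hd : c.T.checkOrth d = true) :
    ∀ O : List ℕ, (∀ r ∈ O, c.Pos r) → O.Pairwise c.Perp →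
      ∃ i < d.reps.length, ∃ L, c.T.moves L O (d.reps.getD i []) = true := by
  simp only [Tables.checkOrth, Bool.and_eq_true, List.all_eq_true, List.mem_range] at hd
  intro O
  induction O with
  | nil =>
    intro _ _
    have h0 := hd.1
    rcases hreps : d.reps with _ | ⟨R, Rs⟩
    · rw [hreps] at h0; simp at h0
    · rw [hreps] at h0
      obtain rfl : R = [] := by simpa [List.isEmpty_iff] using h0
      exact ⟨0, by simp, [], by simp [Tables.moves, List.isPerm]⟩
  | cons r O ih =>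
    intro hpos hO
    obtain ⟨hr, hpos⟩ := List.forall_mem_cons.1 hpos
    obtain ⟨hrO, hO⟩ := List.pairwise_cons.1 hO
    obtain ⟨i, hi, L, hm⟩ := ih hpos hO
    simp only [Tables.moves, Bool.and_eq_true, List.all_eq_true, Nat.blt_eq, List.isPerm_iff] at hm
    obtain ⟨hL', hperm⟩ := hm
    have hL : ∀ p ∈ L, p < D.rank := fun p hp => by rw [c.rank_eq]; exact hL' p hp
    set s := c.T.posr (c.T.wlT L r) with hsdef
    have hs : c.Pos s := by
      rw [hsdef, c.wlT_eq]; exact c.posr_pos (c.wl_lt hL hr.2)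
    have ho : c.T.orthTo (d.reps.getD i []) s = true := by
      simp only [Tables.orthTo, List.all_eq_true, Bool.and_eq_true, Bool.not_eq_true',
        intZero_iff]
      intro y hy
      obtain ⟨q, hq, rfl⟩ := List.mem_map.1 (hperm.mem_iff.2 hy)
      have hp := Perp.posr c (Perp.map c (Perp.symm c (hrO q hq)) hL)
      rw [← c.wlT_eq, ← c.wlT_eq, ← hsdef] at hp
      refine ⟨?_, hp.2.2.2⟩
      have hne := hp.2.2.1
      cases h : Nat.beq (c.T.posr (c.T.wlT L q)) s
      · rfl
      · rw [Nat.beq_eq] at h; exact absurd (congrArg c.T.posr h) hne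
    have h2 := (hd.2 i hi).1.2 s (by
      have hh := c.h_add_h
      have hsh := hs.2
      simp only [Tables.posList, List.mem_range'_1]
      exact ⟨hs.1, by omega⟩)
    simp only [ho, Bool.not_true, Bool.false_or] at h2
    rcases hf : (d.ext.getD i []).find? (fun e => Nat.beq e.1 s) with _ | ⟨e, M, j⟩
    · rw [hf] at h2; simp at h2
    rw [hf] at h2
    simp only [Bool.and_eq_true, Nat.blt_eq] at h2
    obtain ⟨hj, hM⟩ := h2
    simp only [Tables.moves, Bool.and_eq_true, List.all_eq_true, Nat.blt_eq,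
      List.isPerm_iff] at hM
    have hM' : ∀ p ∈ M, p < D.rank := fun p hp => by rw [c.rank_eq]; exact hM.1 p hp
    refine ⟨j, hj, M ++ L, ?_⟩
    simp only [Tables.moves, Bool.and_eq_true, List.all_eq_true, Nat.blt_eq, List.isPerm_iff]
    refine ⟨fun p hp => ?_, ?_⟩
    · rcases List.mem_append.1 hp with h | h
      · exact hM.1 p h
      · exact hL' p h
    have key : ∀ x, x < D.nroots → c.T.posr (c.T.wlT (M ++ L) x) =
        c.T.posr (c.T.wlT M (c.T.posr (c.T.wlT L x))) := by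
      intro x hx
      rw [c.wlT_eq, c.wlT_eq, c.wlT_eq, c.wl_append]
      have hx' := c.wl_lt hL hx
      rcases c.posr_eq hx' with ⟨-, e⟩ | ⟨-, e⟩ <;> rw [e]
      rw [c.wl_neg hM' hx', c.posr_neg (c.wl_lt hM' hx')]
    refine List.Perm.trans ?_ hM.2
    rw [List.map_cons, List.map_cons, key r hr.2, ← hsdef]
    refine List.Perm.cons _ ?_
    rw [show O.map (fun x => c.T.posr (c.T.wlT (M ++ L) x)) =
      (O.map fun x => c.T.posr (c.T.wlT L x)).map fun y => c.T.posr (c.T.wlT M y) by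
        rw [List.map_map]; exact List.map_congr_left fun x hx => key x (hpos x hx).2]
    exact hperm.map _

theorem push_spec : ∀ (fuel r : ℕ) (L : List ℕ), c.Pos r → (∀ x ∈ L, c.Pos x) →
    c.prod1 F (c.T.push fuel r L) = c.xg r (1 : F) * c.prod1 F L ∧
      ∀ x ∈ c.T.push fuel r L, c.Pos x := by
  intro fuel
  induction fuel with
  | zero =>
    intro r L hr hL
    exact ⟨by simp [Tables.push, prod1], List.forall_mem_cons.2 ⟨hr, hL⟩⟩
  | succ fuel ih =>
    intro r L hr hL
    rcases L with _ | ⟨a, L⟩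
    · exact ⟨by simp [Tables.push, prod1], by simpa [Tables.push] using hr⟩
    obtain ⟨ha, hL'⟩ := List.forall_mem_cons.1 hL
    rw [Tables.push]
    cases h1 : Nat.blt r a
    swap
    · exact ⟨by simp [prod1], List.forall_mem_cons.2 ⟨hr, hL⟩⟩
    cases h2 : Nat.beq r a
    swap
    · rw [Nat.beq_eq] at h2
      subst h2
      refine ⟨?_, by simpa using hL'⟩
      simp only [cond_true, cond_false, prod1, List.map_cons, List.prod_cons, ← mul_assoc,
        c.xg_mul_self, one_mul]
    have hne : r ≠ a := fun e => by rw [e] at h2; simp at h2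
    simp only [cond_false]
    rcases c.cases ha hr hne with ⟨hp, e, -⟩ | ⟨hp, e⟩ | ⟨hp, k, z, e, hz⟩
    all_goals simp only [e]
    · obtain ⟨i1, i2⟩ := ih r L hr hL'
      refine ⟨?_, List.forall_mem_cons.2 ⟨ha, i2⟩⟩
      simp only [prod1, List.map_cons, List.prod_cons] at i1 ⊢
      rw [i1, ← mul_assoc, ← mul_assoc,
        (c.commute_of_pairing ha hr (by omega) (1 : F) 1).eq]
    · obtain ⟨i1, i2⟩ := ih r L hr hL'
      refine ⟨?_, List.forall_mem_cons.2 ⟨ha, i2⟩⟩
      simp only [prod1, List.map_cons, List.prod_cons] at i1 ⊢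
      rw [i1, ← mul_assoc, ← mul_assoc,
        (c.commute_of_pairing ha hr (by omega) (1 : F) 1).eq]
    · obtain ⟨k', hk', hswap⟩ := c.exists_sum (F := F) ha hr hp
      obtain rfl : k' = k := c.sum_unique hk' (c.sum_of_terms ha hr e)
      obtain ⟨j1, j2⟩ := ih k' L hk'.1 hL'
      obtain ⟨i1, i2⟩ := ih r _ hr j2
      refine ⟨?_, List.forall_mem_cons.2 ⟨ha, i2⟩⟩
      simp only [prod1, List.map_cons, List.prod_cons] at i1 j1 ⊢
      rw [i1, j1, ← mul_assoc (c.xg r (1 : F)) (c.xg a 1), hswap 1 1, mul_one]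
      simp only [mul_assoc]

theorem collect_spec : ∀ w : List ℕ, (∀ x ∈ w, c.Pos x) →
    c.prod1 F (c.T.collect w) = c.prod1 F w ∧ ∀ x ∈ c.T.collect w, c.Pos x := by
  intro w
  induction w with
  | nil => exact fun _ => ⟨rfl, by simp [Tables.collect]⟩
  | cons r w ih =>
    intro hw
    obtain ⟨hr, hw⟩ := List.forall_mem_cons.1 hw
    obtain ⟨i1, i2⟩ := ih hw
    obtain ⟨j1, j2⟩ := c.push_spec (F := F) (2 * c.T.h) r _ hr i2
    refine ⟨?_, j2⟩
    show c.prod1 F (c.T.push (2 * c.T.h) r (c.T.collect w)) = _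
    rw [j1, i1]
    simp [prod1]

theorem prod1_append (A B : List ℕ) :
    c.prod1 F (A ++ B) = c.prod1 F A * c.prod1 F B := by simp [prod1]

theorem prod1_reverse (A : List ℕ) : c.prod1 F A.reverse = (c.prod1 F A)⁻¹ := by
  induction A with
  | nil => simp [prod1]
  | cons a A ih =>
    rw [List.reverse_cons, c.prod1_append, ih]
    simp [prod1, c.xg_inv_self]

/-- A product over orthogonal roots is conjugate to a target. -/
theorem exists_target {d : OrthData} (hd : c.T.checkOrth d = true) :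
    ∀ (n : ℕ) (O : List ℕ), O.length = n → O ≠ [] → (∀ r ∈ O, c.Pos r) → O.Pairwise c.Perp →
      ∃ j < d.targets.length, GConj D F (c.prod1 F O) (c.prod1 F (d.targets.getD j [])) := by
  intro n
  induction n using Nat.strong_induction_on with
  | _ n ih =>
    intro O hn hne hpos hO
    obtain ⟨i, hi, L, hm⟩ := c.exists_rep hd O hpos hO
    have h1 := c.conj_moves (F := F) hm hpos hO
    have hlen : (d.reps.getD i []).length = O.length := by
      simp only [Tables.moves, Bool.and_eq_true, List.isPerm_iff] at hm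
      rw [← hm.2.length_eq, List.length_map]
    have hd' := hd
    simp only [Tables.checkOrth, Bool.and_eq_true, List.all_eq_true, List.mem_range] at hd'
    obtain ⟨⟨hR, -⟩, hf⟩ := hd'.2 i hi
    obtain ⟨hRpos, hRperp⟩ := c.orthSet_spec hR
    have hRne : (d.reps.getD i []).isEmpty = false := by
      rw [List.isEmpty_eq_false_iff]
      exact fun e => hne (List.eq_nil_of_length_eq_zero (by rw [← hlen, e]; rfl))
    rw [hRne, Bool.false_or] at hf
    rcases hfate : d.fate.getD i (.inl ([], d.targets.length)) with ⟨M, j⟩ | ⟨ts, O'⟩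
    · simp only [hfate, Bool.and_eq_true, Nat.blt_eq] at hf
      exact ⟨j, hf.1, h1.trans (c.conj_moves hf.2 hRpos hRperp)⟩
    simp only [hfate, Bool.and_eq_true, Bool.not_eq_true', Nat.blt_eq, decide_eq_true_eq] at hf
    obtain ⟨⟨⟨⟨hts, hO'⟩, hne'⟩, hlt⟩, heq⟩ := hf
    obtain ⟨hpos', hperp'⟩ := c.orthSet_spec hO'
    have htspos : ∀ x ∈ ts, c.Pos x := by
      simp only [Tables.allPos, List.all_eq_true, Bool.and_eq_true, Nat.ble_eq, Nat.blt_eq] at hts
      exact fun x hx => ⟨(hts x hx).1, c.nroots_eq ▸ (hts x hx).2⟩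
    have h2 : GConj D F (c.prod1 F (d.reps.getD i [])) (c.prod1 F O') := by
      refine ⟨c.prod1 F ts, list_prod_mem fun g hg => ?_, ?_⟩
      · obtain ⟨x, hx, rfl⟩ := List.mem_map.1 hg
        exact c.xg_mem_group (htspos x hx).2 _
      rw [← c.prod1_reverse, ← c.prod1_append, ← c.prod1_append, ← (c.collect_spec (F := F) _
        (fun x hx => ?_)).1, heq, (c.collect_spec (F := F) _ hpos').1]
      simp only [List.mem_append, List.mem_reverse] at hx
      rcases hx with (h | h) | h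
      · exact htspos x h
      · exact hRpos x h
      · exact htspos x h
    obtain ⟨j, hj, h3⟩ := ih O'.length (by omega) O' rfl
      (by simpa using hne') hpos' hperp'
    exact ⟨j, hj, (h1.trans h2).trans h3⟩

/-- Coefficients can be scaled to one. -/
theorem exists_scale [Fintype F] : ∀ O : List (ℕ × F), c.OrthList O →
    ∃ x ∈ D.group F, (∀ p ∈ O, x * c.xg p.1 p.2 * x⁻¹ = c.xg p.1 1) ∧
      ∀ q, (∀ p ∈ O, q < D.nroots ∧ c.T.pairing p.1 q = 0) → ∀ t : F,
        x * c.xg q t * x⁻¹ = c.xg q t := by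
  intro O
  induction O with
  | nil => exact fun _ => ⟨1, one_mem _, by simp, by simp⟩
  | cons p O ih =>
    rintro ⟨hpos, hO⟩
    obtain ⟨hp, hpos⟩ := List.forall_mem_cons.1 hpos
    obtain ⟨hpO, hO⟩ := List.pairwise_cons.1 hO
    obtain ⟨x, hx, hxO, hxq⟩ := ih ⟨hpos, hO⟩
    have hxp : ∀ t : F, x * c.xg p.1 t * x⁻¹ = c.xg p.1 t := hxq p.1 fun s hs => ⟨hp.1.2, by
      rw [c.pairing_symm hp.1 (hpos s hs).1 (fun e => (hpO s hs).1 e.symm)]
      exact (hpO s hs).2⟩
    obtain ⟨v, hv⟩ := FiniteField.isSquare_of_char_two (ringChar.eq F 2) p.2⁻¹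
    have hv0 : v ≠ 0 := fun e => inv_ne_zero hp.2 (by rw [hv, e, mul_zero])
    have hh : c.hg p.1 v ∈ D.group F :=
      c.B_le_group (c.H_le_B (c.hg_mem hp.1.2 hv0))
    have key : ∀ q, q < D.nroots → ∀ t : F, c.hg p.1 v * c.xg q t * (c.hg p.1 v)⁻¹ =
        c.xg q ((((Units.mk0 v hv0) ^ c.T.pairing p.1 q : Fˣ) : F) * t) := by
      intro q hq t
      have e := c.hg_mul_xg hp.1.2 hq (Units.mk0 v hv0) t
      rw [Units.val_mk0] at e
      rw [e, mul_inv_cancel_right]
    refine ⟨c.hg p.1 v * x, mul_mem hh hx, List.forall_mem_cons.2 ⟨?_, fun s hs => ?_⟩,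
      fun q hq t => ?_⟩
    · rw [show c.hg p.1 v * x * c.xg p.1 p.2 * (c.hg p.1 v * x)⁻¹ =
        c.hg p.1 v * (x * c.xg p.1 p.2 * x⁻¹) * (c.hg p.1 v)⁻¹ by group, hxp, key _ hp.1.2,
        c.pairing_self hp.1.2]
      congr 1
      simp only [zpow_two, Units.val_mul, Units.val_mk0, ← hv]
      exact inv_mul_cancel₀ hp.2
    · rw [show c.hg p.1 v * x * c.xg s.1 s.2 * (c.hg p.1 v * x)⁻¹ =
        c.hg p.1 v * (x * c.xg s.1 s.2 * x⁻¹) * (c.hg p.1 v)⁻¹ by group, hxO s hs,
        key _ (hpos s hs).1.2, (hpO s hs).2, zpow_zero, Units.val_one, one_mul]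
    · rw [show c.hg p.1 v * x * c.xg q t * (c.hg p.1 v * x)⁻¹ =
        c.hg p.1 v * (x * c.xg q t * x⁻¹) * (c.hg p.1 v)⁻¹ by group,
        hxq q (fun s hs => hq s (by simp [hs])), key q (hq p (by simp)).1,
        (hq p (by simp)).2, zpow_zero, Units.val_one, one_mul]

/-- Every involution is conjugate to one of the targets. -/
theorem involution_target [Fintype F] {d : OrthData} (hd : c.T.checkOrth d = true)
    {g : GL D.Idx F} (hg : g ∈ D.group F) (ho : orderOf g = 2) :
    ∃ j < d.targets.length, GConj D F g (c.prod1 F (d.targets.getD j [])) := by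
  have hR : IsPGroup 2 ↥(Subgroup.zpowers g) :=
    IsPGroup.of_card (n := 1) (by rw [Nat.card_zpowers, ho, pow_one])
  obtain ⟨y, hy, h⟩ := c.exists_conj_into_U (p := 2) (by rw [Subgroup.zpowers_le]; exact hg) hR
  have hU := h g (Subgroup.mem_zpowers g)
  have h2 : g * g = 1 := by rw [← pow_two, ← ho, pow_orderOf_eq_one]
  set u := y⁻¹ * g * y with hu
  have hu2 : u * u = 1 := by
    rw [hu, show y⁻¹ * g * y * (y⁻¹ * g * y) = y⁻¹ * (g * g) * y by group, h2]; group
  have huS : u ∈ c.Sub F (fun q => True ∧ c.T.h ≤ q) := by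
    rw [c.posUnipotent_eq] at hU
    refine (Subgroup.closure_le _).2 ?_ hU
    rintro _ ⟨r, t, hr, -, rfl⟩
    exact c.mem_Sub hr ⟨trivial, hr.1⟩ t
  obtain ⟨x, hx, O, hO, -, e⟩ := c.exists_orth _ c.T.h rfl le_rfl (fun _ => True)
    (fun _ _ _ _ _ _ _ _ _ => trivial) (fun _ _ _ _ _ _ _ _ _ _ => trivial) u huS hu2
  obtain ⟨z, hz, hzO, -⟩ := c.exists_scale O hO
  have hconj : GConj D F g (c.prod1 F (O.map Prod.fst)) := by
    refine ⟨z * x * y⁻¹, mul_mem (mul_mem hz (c.Sub_le_group _ hx)) (inv_mem hy), ?_⟩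
    rw [show z * x * y⁻¹ * g * (z * x * y⁻¹)⁻¹ = z * (x * (y⁻¹ * g * y) * x⁻¹) * z⁻¹ by group,
      ← hu, e, prodO, prod1, List.map_map]
    have em := map_list_prod (MulAut.conj z) (O.map fun p => c.xg p.1 p.2)
    rw [MulAut.conj_apply] at em
    rw [em, List.map_map]
    exact congrArg List.prod (List.map_congr_left fun p hp => by simpa using hzO p hp)
  have hne : O.map Prod.fst ≠ [] := fun e' => by
    obtain ⟨w, hw, ew⟩ := hconj
    rw [e'] at ew
    simp only [prod1, List.map_nil, List.prod_nil] at ew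
    have : g = 1 := by
      calc g = w⁻¹ * (w * g * w⁻¹) * w := by group
        _ = 1 := by rw [ew]; group
    rw [this, orderOf_one] at ho
    omega
  obtain ⟨j, hj, h3⟩ := c.exists_target (F := F) hd _ (O.map Prod.fst) rfl hne
    (fun r hr => by obtain ⟨p, hp, rfl⟩ := List.mem_map.1 hr; exact (hO.1 p hp).1)
    (List.pairwise_map.2 (hO.2.imp_of_mem fun hp hq h =>
      c.perp_of_pos (hO.1 _ hp).1 (hO.1 _ hq).1 h.1 h.2))
  exact ⟨j, hj, hconj.trans h3⟩

end Simply

end Cfsg.Agent.Lie.Chev
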