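import Cfsg.Agent.Lib.Lie.Chev.EvenInv.Search

/-! Generated data: the search for the involutions of F4 in characteristic two. -/

set_option autoImplicit false
set_option maxRecDepth 20000

namespace Cfsg.Agent.Lie.Chev

/-- The surviving words, the representatives first. -/
def evenWordsF4 : List (List ℕ) := [
  [47], [44], [47, 44], [39, 45], [46], [45], [44, 47], [44, 46], [44, 45], [43], [43, 44],
  [43, 45], [42], [42, 44], [42, 46], [41], [41, 44], [41, 47], [40], [40, 47], [40, 46],
  [40, 45], [40, 43], [40, 43, 44, 45], [40, 43, 45], [40, 42], [40, 42, 44, 46], [40, 42, 46],
  [40, 41], [40, 41, 44, 47], [40, 41, 47], [39], [39, 47], [39, 46], [39, 43], [39, 43, 44, 45],
  [39, 43, 45], [39, 42], [39, 42, 44, 46], [39, 42, 46], [39, 41], [39, 41, 44, 47],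
  [39, 41, 47], [38], [38, 47], [38, 46], [38, 45], [39, 45, 46], [38, 45, 46], [38, 43],
  [38, 43, 44, 45], [38, 43, 45], [38, 42], [38, 42, 44, 46], [38, 42, 46], [39, 42, 43],
  [38, 42, 43], [40, 42, 43], [40, 42, 43, 44, 45], [39, 42, 43, 44, 45], [38, 42, 43, 44, 46],
  [38, 42, 43, 46], [38, 41], [38, 41, 44, 47], [38, 41, 47], [37], [37, 47], [37, 46],
  [38, 46, 47], [37, 46, 47], [37, 45], [37, 45, 47], [37, 43], [37, 43, 44, 45], [37, 43, 45],
  [37, 42], [37, 42, 44, 46], [37, 42, 46], [37, 41], [37, 41, 44, 47], [37, 41, 47],
  [37, 41, 43], [37, 41, 43, 44, 47], [37, 41, 43, 47], [38, 41, 42], [37, 41, 42], [40, 41, 43],
  [40, 41, 43, 44, 45], [39, 41, 43, 44, 45], [38, 41, 42, 44, 46], [37, 41, 42, 44, 47],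
  [37, 41, 42, 47], [36], [36, 47], [36, 46], [36, 45], [36, 43], [36, 43, 46], [36, 43, 44, 45],
  [36, 43, 45], [36, 42], [36, 42, 44, 46], [36, 42, 46], [36, 42, 45], [36, 42, 44, 45, 46],
  [36, 42, 45, 46], [36, 41], [36, 41, 44, 47], [36, 41, 47], [35], [35, 47], [35, 46],
  [36, 46, 47], [35, 46, 47], [35, 45], [35, 43], [35, 43, 47], [35, 43, 44, 45], [35, 43, 45],
  [35, 42], [35, 42, 44, 46], [35, 42, 46], [35, 41], [35, 41, 44, 47], [35, 41, 47],
  [35, 41, 45], [35, 41, 44, 45, 47], [35, 41, 45, 47], [36, 41, 42], [35, 41, 42],
  [36, 41, 42, 44, 46], [35, 41, 42, 44, 47], [35, 41, 42, 47], [34], [34, 47], [34, 46],
  [34, 45], [34, 45, 47], [35, 45, 46], [34, 45, 46], [34, 43], [34, 43, 44, 45], [34, 43, 45],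
  [34, 42], [34, 42, 47], [34, 42, 44, 46], [34, 42, 46], [35, 42, 43], [34, 42, 43],
  [37, 42, 43], [37, 42, 43, 44, 45], [35, 42, 43, 44, 45], [34, 42, 43, 44, 46],
  [34, 42, 43, 46], [34, 41], [34, 41, 44, 47], [34, 41, 47], [34, 41, 46], [34, 41, 44, 46, 47],
  [34, 41, 46, 47], [34, 41, 43], [34, 41, 43, 44, 47], [34, 41, 43, 47], [33], [33, 47],
  [33, 46], [33, 45], [33, 43], [33, 43, 47], [33, 43, 46], [33, 43, 44, 45], [33, 43, 45],
  [33, 42], [33, 42, 47], [33, 42, 44, 46], [33, 42, 46], [33, 42, 45], [33, 42, 44, 45, 46],
  [33, 42, 45, 46], [33, 41], [33, 41, 44, 47], [33, 41, 47], [33, 41, 46], [33, 41, 44, 46, 47],
  [33, 41, 46, 47], [33, 41, 45], [33, 41, 44, 45, 47], [33, 41, 45, 47], [32], [32, 40],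
  [32, 45], [32, 44], [32, 44, 45], [32, 39], [32, 43], [39, 40, 45], [39, 40, 43], [32, 39, 44],
  [32, 43, 44], [32, 43, 45], [31, 39], [32, 38], [32, 38, 40], [32, 38, 45], [32, 38, 39, 47],
  [32, 38, 43, 47], [32, 38, 43], [32, 38, 43, 44, 45, 47], [32, 38, 43, 44, 45],
  [32, 38, 43, 45], [32, 37], [32, 37, 40], [32, 37, 45], [32, 37, 39, 46], [32, 37, 43, 46],
  [32, 37, 43], [32, 37, 43, 44, 45, 46], [32, 37, 43, 44, 45], [32, 37, 43, 45], [32, 36],
  [32, 36, 40, 47], [32, 36, 45, 47], [32, 36, 45], [32, 36, 39], [32, 36, 43],
  [32, 36, 39, 40, 43, 44, 47], [32, 36, 39, 40, 43, 44], [32, 36, 39, 43, 45], [32, 36, 43, 45],
  [32, 35], [32, 35, 40, 46], [32, 35, 45, 46], [32, 35, 45], [32, 35, 39], [32, 35, 43],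
  [32, 35, 39, 40, 43, 44, 46], [32, 35, 39, 40, 43, 44], [32, 35, 39, 43, 45], [32, 35, 43, 45],
  [31], [31, 40], [31, 46], [31, 44], [31, 44, 46], [31, 38], [31, 42], [31, 38, 44],
  [31, 42, 44], [31, 42, 46], [31, 39, 40], [31, 39, 46], [31, 38, 39, 47], [31, 39, 42, 47],
  [31, 39, 42], [31, 39, 40, 42, 47], [31, 39, 40, 42], [31, 39, 42, 46], [31, 37], [31, 37, 40],
  [31, 37, 46], [31, 37, 38, 45], [31, 37, 42, 45], [31, 37, 42], [31, 37, 42, 44, 45, 46],
  [31, 37, 42, 44, 46], [31, 37, 42, 46], [31, 36], [31, 36, 40, 47], [31, 36, 46, 47],
  [31, 36, 46], [31, 36, 38], [31, 36, 42], [31, 36, 38, 40, 42, 44, 47],
  [31, 36, 38, 40, 42, 44], [31, 36, 38, 42, 46], [31, 36, 42, 46], [31, 34], [31, 34, 40, 45],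
  [31, 34, 45, 46], [31, 34, 46], [31, 34, 38], [31, 34, 42], [31, 34, 38, 40, 42, 44, 45],
  [31, 34, 38, 40, 42, 44], [31, 34, 38, 42, 46], [31, 34, 42, 46], [30], [30, 40], [30, 47],
  [30, 44], [30, 44, 47], [30, 37], [30, 41], [30, 37, 44], [30, 41, 44], [30, 41, 47], [30, 39],
  [30, 39, 40], [30, 39, 47], [30, 37, 39, 46], [30, 39, 41, 46], [30, 39, 41],
  [30, 39, 40, 41, 46], [30, 39, 40, 41], [30, 39, 41, 47], [30, 38], [30, 38, 40], [30, 38, 47],
  [30, 37, 38, 45], [30, 38, 41, 45], [30, 38, 41], [30, 38, 40, 41, 45], [30, 38, 40, 41],
  [30, 38, 41, 47], [30, 35], [30, 35, 40, 46], [30, 35, 46, 47], [30, 35, 47], [30, 35, 37],
  [30, 35, 41], [30, 35, 37, 40, 41, 44, 46], [30, 35, 37, 40, 41, 44], [30, 35, 37, 41, 47],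
  [30, 35, 41, 47], [30, 34], [30, 34, 40, 45], [30, 34, 45, 47], [30, 34, 47], [30, 34, 37],
  [30, 34, 41], [30, 34, 37, 40, 41, 44, 45], [30, 34, 37, 40, 41, 44], [30, 34, 37, 41, 47],
  [30, 34, 41, 47], [29], [29, 47], [29, 46], [29, 45], [29, 43], [29, 43, 44, 45],
  [29, 43, 44, 45, 47], [29, 43, 45], [29, 42], [29, 42, 44, 46], [29, 42, 44, 46, 47],
  [29, 42, 46], [29, 32], [29, 32, 46], [29, 32, 40, 45], [29, 32, 45], [29, 32, 43],
  [29, 32, 39, 40, 43, 44, 47], [29, 32, 39, 43, 45, 47], [29, 32, 39, 43, 45], [29, 32, 43, 45],
  [29, 31], [29, 31, 40, 46], [29, 31, 46], [29, 31, 45], [29, 31, 40, 45, 46], [29, 31, 45, 46],
  [29, 31, 42], [29, 31, 38, 40, 42, 44, 47], [29, 31, 38, 42, 46, 47], [29, 31, 38, 42, 46],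
  [29, 31, 42, 46], [29, 30], [29, 30, 40, 47], [29, 30, 47], [28], [28, 47], [28, 46],
  [29, 46, 47], [28, 46, 47], [28, 45], [28, 43], [28, 43, 44, 45], [28, 43, 44, 45, 46],
  [28, 43, 45], [28, 41], [28, 41, 44, 47], [28, 41, 44, 46, 47], [28, 41, 47], [28, 32],
  [28, 32, 47], [28, 32, 40, 45], [28, 32, 45], [28, 32, 43], [28, 32, 39, 40, 43, 44, 46],
  [28, 32, 39, 43, 45, 46], [28, 32, 39, 43, 45], [28, 32, 43, 45], [28, 31], [28, 31, 40, 46],
  [28, 31, 46], [28, 30], [28, 30, 40, 47], [28, 30, 47], [28, 30, 45], [28, 30, 40, 45, 47],
  [28, 30, 45, 47], [28, 30, 41], [28, 30, 37, 40, 41, 44, 46], [28, 30, 37, 41, 46, 47],
  [28, 30, 37, 41, 47], [28, 30, 41, 47], [29, 30, 31], [28, 30, 31], [29, 30, 31, 40, 46],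
  [28, 30, 31, 40, 47], [28, 30, 31, 47], [27], [27, 47], [27, 46], [27, 45], [27, 45, 47],
  [28, 45, 46], [27, 45, 46], [27, 42], [27, 42, 44, 46], [27, 42, 44, 45, 46], [27, 42, 46],
  [27, 41], [27, 41, 44, 47], [27, 41, 44, 45, 47], [27, 41, 47], [27, 32], [27, 32, 40, 45],
  [27, 32, 45], [27, 31], [27, 31, 47], [27, 31, 40, 46], [27, 31, 46], [27, 31, 42],
  [27, 31, 38, 40, 42, 44, 45], [27, 31, 38, 42, 45, 46], [27, 31, 38, 42, 46], [27, 31, 42, 46],
  [28, 31, 32], [27, 31, 32], [28, 31, 32, 40, 45], [27, 31, 32, 40, 46], [27, 31, 32, 46],
  [27, 30], [27, 30, 40, 47], [27, 30, 47], [27, 30, 46], [27, 30, 40, 46, 47], [27, 30, 46, 47],
  [27, 30, 41], [27, 30, 37, 40, 41, 44, 45], [27, 30, 37, 41, 45, 47], [27, 30, 37, 41, 47],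
  [27, 30, 41, 47], [27, 30, 32], [27, 30, 32, 40, 47], [27, 30, 32, 47], [26], [26, 39],
  [26, 46], [26, 44], [26, 44, 46], [26, 36], [26, 42], [26, 36, 44], [26, 42, 44], [26, 42, 46],
  [26, 40], [26, 39, 40], [26, 40, 46], [26, 36, 40, 47], [26, 40, 42, 47], [26, 40, 42],
  [26, 36, 40, 44, 47], [26, 40, 42, 44, 47], [26, 40, 42, 46, 47], [26, 40, 42, 46], [24, 40],
  [24, 39], [26, 38], [26, 38, 39, 47], [26, 38, 46, 47], [26, 38, 46], [26, 36, 38],
  [26, 38, 42], [26, 38, 42, 46], [26, 35], [26, 35, 39], [26, 35, 46], [26, 35, 36, 43],
  [26, 35, 42, 43], [26, 35, 42], [26, 35, 42, 44, 46], [26, 35, 42, 46], [26, 33],
  [26, 33, 39, 43], [26, 33, 43, 46], [26, 33, 46], [26, 33, 36], [26, 33, 42],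
  [26, 33, 36, 39, 42, 43, 44], [26, 33, 36, 39, 42, 44], [26, 33, 36, 42, 46], [26, 33, 42, 46],
  [26, 29], [26, 31], [26, 29, 40], [26, 31, 40], [26, 31, 46], [38, 39, 46], [38, 39, 45],
  [36, 40, 43], [29, 32, 44], [29, 31, 44], [26, 29, 44], [26, 31, 44], [36, 38, 46, 47],
  [36, 38, 39, 46], [36, 38, 39, 45], [36, 38, 40, 43], [29, 32, 38, 44], [29, 31, 39, 44],
  [26, 29, 40, 44], [26, 31, 40, 44], [26, 31, 44, 46], [29, 36, 42], [29, 31, 36], [26, 29, 38],
  [26, 31, 38], [26, 31, 42], [29, 36, 42, 44, 46, 47], [29, 31, 36, 40, 46, 47],
  [26, 29, 38, 39, 46, 47], [26, 29, 38, 46], [26, 31, 38, 46], [26, 31, 42, 46], [26, 28],
  [26, 28, 39], [26, 28, 46], [26, 28, 29, 32], [26, 28, 31, 32], [26, 28, 31],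
  [26, 28, 31, 40, 46], [26, 28, 31, 46], [25], [25, 39], [25, 47], [25, 44], [25, 44, 47],
  [25, 35], [25, 41], [25, 35, 44], [25, 41, 44], [25, 41, 47], [25, 40], [25, 39, 40],
  [25, 40, 47], [25, 35, 40, 46], [25, 40, 41, 46], [25, 40, 41], [25, 35, 40, 44, 46],
  [25, 40, 41, 44, 46], [25, 40, 41, 46, 47], [25, 40, 41, 47], [25, 37], [25, 37, 39, 46],
  [25, 37, 46, 47], [25, 37, 47], [25, 35, 37], [25, 37, 41], [25, 37, 41, 47], [25, 36],
  [25, 36, 39], [25, 36, 47], [25, 35, 36, 43], [25, 36, 41, 43], [25, 36, 41], [25, 36, 39, 41],
  [25, 36, 41, 47], [25, 33], [25, 33, 39, 43], [25, 33, 43, 47], [25, 33, 47], [25, 33, 35],
  [25, 33, 41], [25, 33, 35, 39, 41, 43, 44], [25, 33, 35, 39, 41, 44], [25, 33, 35, 41, 47],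
  [25, 33, 41, 47], [25, 28], [25, 30], [25, 28, 40], [25, 30, 40], [25, 30, 47], [25, 28, 44],
  [25, 30, 44], [25, 28, 40, 44], [25, 30, 40, 44], [25, 30, 44, 47], [28, 35, 41], [28, 30, 35],
  [25, 28, 37], [25, 30, 37], [25, 30, 41], [28, 35, 41, 44, 46, 47], [28, 30, 35, 40, 46, 47],
  [25, 28, 37, 39, 46, 47], [25, 28, 37, 47], [25, 30, 37, 47], [25, 30, 41, 47], [25, 29],
  [25, 29, 39], [25, 29, 47], [25, 28, 29, 32], [25, 29, 30, 32], [25, 29, 30], [25, 29, 30, 39],
  [25, 29, 30, 47], [24], [24, 38], [24, 45], [24, 44], [24, 44, 45], [24, 36], [24, 43],
  [24, 36, 44], [24, 43, 44], [24, 43, 45], [24, 38, 40], [24, 40, 45], [24, 36, 40, 47],
  [24, 40, 43, 47], [24, 40, 43], [24, 36, 40, 44, 47], [24, 40, 43, 44, 47],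
  [24, 40, 43, 45, 47], [24, 40, 43, 45], [24, 38, 39, 47], [24, 39, 45, 47], [24, 39, 45],
  [24, 36, 39], [24, 39, 43], [24, 39, 43, 45], [24, 34], [24, 34, 38], [24, 34, 45],
  [24, 34, 36, 42], [24, 34, 42, 43], [24, 34, 43], [24, 34, 42, 43, 44, 45],
  [24, 34, 42, 43, 45], [24, 34, 43, 45], [24, 33], [24, 33, 38, 42], [24, 33, 42, 45],
  [24, 33, 45], [24, 33, 36], [24, 33, 43], [24, 33, 36, 38, 42, 43, 44],
  [24, 33, 36, 42, 43, 45], [24, 33, 42, 43, 45], [24, 33, 43, 45], [24, 29], [24, 32],
  [24, 29, 40], [24, 32, 40], [24, 32, 45], [24, 29, 44], [24, 32, 44], [24, 29, 40, 44],
  [24, 32, 40, 44], [24, 32, 44, 45], [24, 29, 39], [24, 32, 39], [24, 32, 43], [24, 29, 39, 45],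
  [24, 32, 39, 45], [24, 32, 43, 45], [24, 27], [24, 27, 38], [24, 27, 45], [24, 27, 29, 31],
  [24, 27, 31, 32], [24, 27, 32], [24, 27, 32, 40, 45], [24, 27, 32, 45]]

/-- The moves connecting the words. -/
def evenEdgesF4 : List (ℕ × RootMove) := [
  (0, .weyl 3), (4, .weyl 2), (2, .root 24), (6, .weyl 3), (7, .weyl 2), (5, .weyl 1),
  (8, .weyl 1), (10, .root 27), (9, .weyl 2), (10, .weyl 2), (13, .root 28), (12, .weyl 3),
  (13, .weyl 3), (16, .root 29), (1, .weyl 0), (6, .weyl 0), (19, .weyl 3), (20, .weyl 2),
  (3, .weyl 1), (22, .root 27), (23, .root 33), (22, .weyl 2), (25, .root 28), (26, .root 33),
  (25, .weyl 3), (28, .root 29), (29, .root 33), (18, .weyl 1), (19, .weyl 1), (32, .weyl 3),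
  (21, .weyl 1), (23, .weyl 1), (35, .root 34), (25, .weyl 1), (37, .root 28), (38, .root 34),
  (37, .weyl 3), (40, .root 29), (41, .root 34), (31, .weyl 2), (32, .weyl 2), (3, .weyl 2),
  (33, .weyl 2), (3, .root 25), (47, .weyl 2), (37, .weyl 2), (49, .root 27), (50, .root 35),
  (34, .weyl 2), (35, .weyl 2), (53, .root 35), (37, .root 25), (55, .weyl 2), (25, .root 25),
  (57, .root 27), (58, .weyl 1), (59, .weyl 2), (60, .root 35), (40, .weyl 2), (62, .root 29),
  (63, .root 35), (43, .weyl 3), (45, .weyl 3), (44, .weyl 3), (45, .root 24), (68, .weyl 3),
  (67, .weyl 2), (48, .weyl 3), (49, .weyl 3), (72, .root 27), (73, .root 36), (72, .weyl 2),
  (75, .root 28), (76, .root 36), (52, .weyl 3), (53, .weyl 3), (79, .root 36), (56, .weyl 3),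
  (60, .weyl 3), (82, .root 36), (62, .root 24), (84, .weyl 3), (28, .root 26), (86, .root 27),
  (87, .weyl 1), (88, .weyl 2), (89, .weyl 3), (90, .root 36), (43, .weyl 1), (44, .weyl 1),
  (45, .weyl 1), (94, .weyl 2), (46, .weyl 1), (48, .weyl 1), (50, .weyl 1), (98, .root 37),
  (96, .weyl 2), (53, .weyl 1), (101, .root 37), (97, .weyl 2), (60, .weyl 1), (104, .root 37),
  (62, .weyl 1), (106, .root 29), (107, .root 37), (92, .weyl 3), (94, .weyl 3), (93, .weyl 3),
  (94, .root 24), (112, .weyl 3), (95, .weyl 3), (70, .weyl 1), (97, .weyl 3), (73, .weyl 1),
  (117, .root 38), (75, .weyl 1), (119, .root 28), (120, .root 38), (100, .weyl 3),
  (101, .weyl 3), (123, .root 38), (103, .weyl 3), (104, .weyl 3), (126, .root 38),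
  (106, .root 24), (128, .weyl 3), (89, .weyl 1), (130, .weyl 3), (131, .root 38),
  (109, .weyl 2), (110, .weyl 2), (114, .weyl 2), (111, .weyl 2), (113, .weyl 2),
  (114, .root 25), (138, .weyl 2), (119, .weyl 2), (140, .root 27), (141, .root 39),
  (115, .weyl 2), (116, .weyl 2), (117, .weyl 2), (145, .root 39), (119, .root 25),
  (147, .weyl 2), (75, .root 25), (149, .root 27), (150, .weyl 1), (151, .weyl 2),
  (152, .root 39), (143, .weyl 3), (123, .weyl 2), (155, .root 39), (125, .weyl 2),
  (126, .weyl 2), (158, .root 39), (129, .weyl 2), (131, .weyl 2), (161, .root 39),
  (133, .weyl 1), (134, .weyl 1), (135, .weyl 1), (165, .weyl 2), (136, .weyl 1), (137, .weyl 1),
  (139, .weyl 1), (141, .weyl 1), (170, .root 40), (167, .weyl 2), (144, .weyl 1),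
  (145, .weyl 1), (174, .root 40), (169, .weyl 2), (152, .weyl 1), (177, .root 40),
  (172, .weyl 3), (155, .weyl 1), (180, .root 40), (157, .weyl 1), (158, .weyl 1),
  (183, .root 40), (182, .weyl 2), (161, .weyl 1), (186, .root 40), (9, .weyl 0), (10, .weyl 0),
  (189, .root 34), (22, .weyl 0), (24, .weyl 0), (34, .weyl 0), (193, .root 33), (3, .root 27),
  (195, .weyl 1), (196, .weyl 0), (197, .root 33), (198, .root 27), (37, .weyl 0),
  (200, .weyl 2), (201, .root 28), (202, .root 34), (201, .root 25), (204, .root 33),
  (205, .root 31), (205, .root 27), (207, .root 26), (208, .root 35), (201, .weyl 3),
  (210, .root 29), (211, .root 34), (210, .root 26), (213, .root 33), (214, .root 30),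
  (214, .root 27), (216, .root 25), (217, .root 36), (201, .weyl 1), (219, .root 30),
  (220, .root 34), (221, .root 26), (219, .root 28), (223, .root 33), (220, .root 33),
  (225, .root 31), (226, .root 34), (227, .root 28), (219, .weyl 3), (229, .root 31),
  (230, .root 34), (231, .root 25), (229, .root 29), (233, .root 33), (230, .root 33),
  (235, .root 30), (236, .root 34), (237, .root 29), (188, .weyl 2), (189, .weyl 2),
  (240, .root 35), (191, .weyl 2), (27, .weyl 0), (193, .weyl 2), (244, .root 33),
  (197, .weyl 2), (246, .root 33), (247, .root 28), (200, .root 27), (249, .root 35),
  (204, .weyl 2), (251, .root 33), (252, .root 32), (252, .root 27), (254, .root 32),
  (255, .root 35), (210, .weyl 2), (257, .root 29), (258, .root 35), (257, .root 24),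
  (260, .root 33), (261, .root 30), (261, .root 28), (263, .root 30), (264, .root 36),
  (219, .weyl 2), (266, .root 30), (267, .root 35), (268, .root 24), (266, .root 27),
  (270, .root 33), (267, .root 33), (272, .root 32), (273, .root 35), (274, .root 27),
  (229, .weyl 2), (276, .root 32), (277, .root 35), (278, .root 41), (276, .root 29),
  (280, .root 33), (277, .root 33), (282, .root 30), (283, .root 35), (284, .root 29),
  (239, .weyl 3), (240, .weyl 3), (287, .root 36), (242, .weyl 3), (30, .weyl 0), (244, .weyl 3),
  (291, .root 33), (246, .weyl 3), (293, .root 33), (294, .root 29), (200, .weyl 3),
  (296, .root 27), (297, .root 36), (251, .weyl 3), (299, .root 33), (300, .root 32),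
  (300, .root 27), (302, .root 32), (303, .root 36), (296, .weyl 2), (305, .root 28),
  (306, .root 36), (260, .weyl 3), (308, .root 33), (309, .root 31), (309, .root 28),
  (311, .root 31), (312, .root 36), (266, .weyl 3), (314, .root 31), (315, .root 36),
  (316, .root 43), (314, .root 27), (318, .root 33), (315, .root 33), (320, .root 32),
  (321, .root 36), (322, .root 27), (314, .weyl 2), (324, .root 32), (325, .root 36),
  (326, .root 42), (324, .root 28), (328, .root 33), (325, .root 33), (330, .root 31),
  (331, .root 36), (332, .root 28), (92, .weyl 0), (93, .weyl 0), (94, .weyl 0), (336, .weyl 2),
  (337, .weyl 1), (338, .root 27), (339, .root 26), (340, .root 41), (338, .weyl 2),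
  (342, .root 28), (343, .root 24), (344, .root 41), (96, .weyl 0), (97, .weyl 0), (98, .weyl 0),
  (348, .root 37), (224, .weyl 0), (225, .weyl 0), (351, .root 27), (352, .root 26),
  (353, .root 35), (346, .weyl 2), (101, .weyl 0), (356, .root 37), (347, .weyl 2),
  (104, .weyl 0), (359, .root 37), (271, .weyl 0), (272, .weyl 0), (362, .root 28),
  (363, .root 24), (364, .root 34), (106, .weyl 0), (366, .root 36), (367, .root 37),
  (334, .weyl 3), (336, .weyl 3), (335, .weyl 3), (336, .root 24), (372, .weyl 3),
  (337, .weyl 3), (338, .weyl 3), (375, .root 27), (376, .root 25), (377, .root 42),
  (342, .weyl 3), (379, .root 29), (380, .root 32), (381, .root 42), (115, .weyl 0),
  (347, .weyl 3), (117, .weyl 0), (385, .root 38), (234, .weyl 0), (235, .weyl 0),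
  (388, .root 27), (389, .root 25), (390, .root 36), (119, .weyl 0), (392, .root 35),
  (393, .root 38), (355, .weyl 3), (356, .weyl 3), (396, .root 38), (358, .weyl 3),
  (359, .weyl 3), (399, .root 38), (319, .weyl 0), (320, .weyl 0), (402, .root 29),
  (403, .root 32), (404, .root 34), (366, .root 24), (406, .weyl 3), (130, .weyl 0),
  (408, .weyl 3), (409, .root 38), (369, .weyl 2), (370, .weyl 2), (374, .weyl 2),
  (371, .weyl 2), (373, .weyl 2), (374, .root 25), (416, .weyl 2), (375, .weyl 2),
  (418, .root 28), (419, .root 30), (420, .root 43), (379, .weyl 2), (422, .root 29),
  (423, .root 31), (424, .root 43), (392, .weyl 2), (426, .root 34), (427, .root 39),
  (383, .weyl 2), (384, .weyl 2), (385, .weyl 2), (431, .root 39), (281, .weyl 0),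
  (282, .weyl 0), (434, .root 28), (435, .root 30), (436, .root 36), (392, .root 25),
  (438, .weyl 2), (151, .weyl 0), (440, .weyl 2), (441, .root 39), (429, .weyl 3),
  (396, .weyl 2), (444, .root 39), (398, .weyl 2), (399, .weyl 2), (447, .root 39),
  (329, .weyl 0), (330, .weyl 0), (450, .root 29), (451, .root 31), (452, .root 35),
  (407, .weyl 2), (409, .weyl 2), (455, .root 39), (239, .weyl 1), (240, .weyl 1),
  (458, .root 37), (242, .weyl 1), (243, .weyl 1), (244, .weyl 1), (462, .root 34),
  (246, .weyl 1), (464, .root 34), (465, .root 28), (460, .weyl 0), (249, .weyl 1),
  (468, .root 37), (251, .weyl 1), (470, .root 34), (471, .root 32), (470, .root 33),
  (473, .root 34), (474, .root 28), (475, .root 24), (467, .weyl 2), (477, .weyl 1),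
  (478, .weyl 2), (479, .root 25), (480, .root 37), (481, .root 24), (270, .weyl 1),
  (483, .root 34), (275, .weyl 1), (257, .weyl 1), (486, .root 29), (487, .root 37),
  (486, .root 24), (489, .root 34), (490, .root 25), (491, .root 28), (492, .root 38),
  (276, .weyl 1), (494, .root 32), (495, .root 37), (496, .root 41), (494, .root 29),
  (498, .root 34), (495, .root 34), (500, .root 25), (501, .root 37), (502, .root 29),
  (355, .weyl 1), (504, .root 27), (464, .weyl 0), (506, .root 27), (507, .root 35),
  (68, .root 25), (509, .weyl 2), (510, .weyl 1), (511, .weyl 0), (512, .weyl 2), (513, .weyl 1),
  (514, .root 27), (112, .root 27), (516, .root 25), (517, .weyl 2), (518, .weyl 1),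
  (519, .weyl 0), (520, .weyl 2), (521, .weyl 1), (522, .root 27), (523, .root 35),
  (342, .root 33), (525, .weyl 0), (526, .weyl 1), (527, .root 27), (528, .root 33),
  (344, .root 33), (530, .weyl 0), (531, .weyl 1), (532, .root 25), (533, .root 27),
  (534, .root 33), (486, .weyl 0), (536, .root 36), (537, .root 37), (536, .root 24),
  (539, .root 27), (540, .root 25), (541, .root 35), (542, .root 38), (457, .weyl 3),
  (458, .weyl 3), (545, .root 38), (460, .weyl 3), (290, .weyl 1), (462, .weyl 3),
  (549, .root 34), (464, .weyl 3), (551, .root 34), (552, .root 29), (467, .weyl 3),
  (297, .weyl 1), (555, .root 38), (470, .weyl 3), (557, .root 34), (558, .root 32),
  (557, .root 33), (560, .root 34), (561, .root 29), (562, .root 32), (479, .weyl 3),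
  (564, .root 26), (565, .root 38), (566, .root 45), (318, .weyl 1), (568, .root 34),
  (323, .weyl 1), (305, .weyl 1), (571, .root 28), (572, .root 38), (489, .weyl 3),
  (574, .root 34), (575, .root 26), (576, .root 28), (577, .root 38), (324, .weyl 1),
  (579, .root 32), (580, .root 38), (581, .root 42), (579, .root 28), (583, .root 34),
  (580, .root 34), (585, .root 26), (586, .root 38), (587, .root 28), (504, .weyl 3),
  (589, .root 27), (506, .weyl 3), (591, .root 27), (592, .root 36), (514, .weyl 3),
  (594, .root 27), (522, .weyl 3), (596, .root 27), (597, .root 36), (379, .root 33),
  (599, .weyl 0), (600, .weyl 1), (601, .root 27), (602, .root 33), (381, .root 33),
  (604, .weyl 0), (605, .weyl 1), (606, .root 26), (607, .root 27), (608, .root 33),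
  (571, .weyl 0), (610, .root 35), (611, .root 38), (539, .weyl 3), (613, .root 27),
  (614, .root 26), (615, .root 35), (616, .root 38), (457, .weyl 2), (458, .weyl 2),
  (619, .root 37), (460, .weyl 2), (461, .weyl 2), (462, .weyl 2), (623, .root 35),
  (464, .weyl 2), (625, .root 35), (626, .root 27), (468, .weyl 2), (628, .root 37),
  (470, .weyl 2), (630, .root 35), (631, .root 31), (630, .root 33), (633, .root 35),
  (634, .root 27), (635, .root 26), (480, .weyl 2), (637, .root 37), (638, .root 26),
  (628, .weyl 1), (640, .root 35), (485, .weyl 2), (486, .weyl 2), (643, .root 29),
  (644, .root 37), (643, .root 26), (646, .root 35), (647, .root 41), (647, .root 27),
  (649, .root 39), (650, .root 41), (494, .weyl 2), (652, .root 31), (653, .root 37),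
  (654, .root 41), (652, .root 29), (656, .root 35), (653, .root 35), (658, .root 37),
  (659, .root 29), (660, .root 41), (504, .weyl 2), (662, .root 28), (506, .weyl 2),
  (664, .root 28), (665, .root 34), (514, .weyl 2), (667, .root 28), (522, .weyl 2),
  (669, .root 28), (670, .root 34), (664, .weyl 1), (672, .root 28), (673, .root 33),
  (533, .weyl 2), (675, .root 28), (676, .root 33), (536, .weyl 2), (678, .root 36),
  (679, .root 37), (678, .root 26), (681, .root 28), (682, .root 30), (683, .root 34),
  (684, .root 39)]

/-- The search tree. -/
def evenTreeF4 : SearchTree :=
(.scale [0, 0, -1, 0]
 (.scale [0, -1, 0, 0]
  (.scale [0, -1, 0, 0]
   (.scale [-1, 0, 0, 0]
    (.scale [-1, 0, 0, 0]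
     (.scale [-1, 0, 0, 0]
      (.scale [-1, 0, 0, 0]
       (.scale [-1, 0, 0, 0]
        (.scale [-1, 0, 0, 0]
         (.scale [-1, 0, 0, 0]
          (.scale [-1, 0, 0, 0]
           (.scale [-1, 0, 0, 0]
            (.scale [-1, 0, 0, 0]
             (.scale [0, -1, 0, 0]
              (.scale [0, -1, 0, 0]
               (.scale [0, -1, 0, 0]
                (.scale [-1, 0, 0, 0]
                 (.scale [-1, 0, 0, 0]
                  (.scale [-1, 0, 0, 0]
                   (.scale [-1, 0, 0, 0]
                    (.scale [-1, 0, 0, 0]
                    (.scale [0, -1, 0, 0]
                    (.scale [0, 0, -1, 0]
                    (.scale [0, 0, 0, -1]
                    (.leaf 0)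
                    (.leaf 0))
                    (.drop 24
                    (.leaf 4)))
                    (.drop 25
                    (.drop 26
                    (.leaf 5))))
                    (.scale [0, -1, 0, 0]
                    (.scale [0, 0, -1, 0]
                    (.scale [0, 0, 0, -1]
                    (.leaf 1)
                    (.leaf 6))
                    (.drop 24
                    (.leaf 7)))
                    (.drop 25
                    (.drop 26
                    (.leaf 8)))))
                    (.drop 27
                    (.scale [-1, -1, 0, 0]
                    (.drop 30
                    (.drop 31
                    (.leaf 9)))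
                    (.drop 25
                    (.drop 26
                    (.leaf 11))))))
                   (.drop 25
                    (.drop 28
                    (.drop 30
                    (.scale [-1, 0, -2, 0]
                    (.drop 32
                    (.leaf 12))
                    (.drop 24
                    (.leaf 14)))))))
                  (.drop 24
                   (.drop 26
                    (.drop 29
                    (.drop 31
                    (.drop 32
                    (.scale [-1, 0, 0, -2]
                    (.leaf 15)
                    (.leaf 17))))))))
                 (.scale [0, 0, 0, -1]
                  (.scale [0, 0, -1, 0]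
                   (.scale [0, 0, -1, 0]
                    (.drop 33
                    (.scale [0, 0, -1, 0]
                    (.scale [0, 0, -1, 0]
                    (.scale [0, 0, 0, -1]
                    (.leaf 18)
                    (.leaf 19))
                    (.drop 24
                    (.leaf 20)))
                    (.drop 25
                    (.drop 26
                    (.leaf 21)))))
                    (.drop 27
                    (.scale [-1, -1, 0, 0]
                    (.drop 30
                    (.drop 31
                    (.leaf 22)))
                    (.drop 25
                    (.drop 26
                    (.leaf 24))))))
                   (.drop 25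
                    (.drop 28
                    (.drop 30
                    (.scale [-1, -1, -2, 0]
                    (.drop 32
                    (.leaf 25))
                    (.drop 24
                    (.leaf 27)))))))
                  (.drop 24
                   (.drop 26
                    (.drop 29
                    (.drop 31
                    (.drop 32
                    (.scale [-1, -1, 0, -2]
                    (.leaf 28)
                    (.leaf 30)))))))))
                (.drop 27
                 (.scale [-1, 0, 0, 0]
                  (.scale [-1, 0, 0, 0]
                   (.scale [-1, 0, 0, 0]
                    (.drop 34
                    (.scale [0, -1, -1, 0]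
                    (.scale [0, 0, 0, -1]
                    (.scale [0, 0, 0, -1]
                    (.leaf 31)
                    (.leaf 32))
                    (.drop 24
                    (.leaf 33)))
                    (.drop 25
                    (.drop 26
                    (.leaf 3)))))
                    (.drop 34
                    (.scale [-1, -2, -2, 0]
                    (.drop 30
                    (.drop 31
                    (.leaf 34)))
                    (.drop 25
                    (.drop 26
                    (.leaf 36))))))
                   (.drop 25
                    (.drop 28
                    (.drop 30
                    (.scale [-1, 0, 0, 2]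
                    (.drop 32
                    (.leaf 37))
                    (.drop 24
                    (.leaf 39)))))))
                  (.drop 24
                   (.drop 26
                    (.drop 29
                    (.drop 31
                    (.drop 32
                    (.scale [-1, 0, 0, -2]
                    (.leaf 40)
                    (.leaf 42))))))))))
               (.drop 25
                (.drop 28
                 (.scale [-1, 0, 0, 0]
                  (.scale [-1, 0, 0, 0]
                   (.scale [-1, 0, 0, 0]
                    (.drop 35
                    (.scale [0, -1, -1, 0]
                    (.scale [0, -1, -1, 0]
                    (.scale [0, -1, 0, 1]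
                    (.leaf 43)
                    (.leaf 44))
                    (.drop 24
                    (.leaf 45)))
                    (.scale [0, -1, -2, -1]
                    (.drop 26
                    (.leaf 46))
                    (.drop 24
                    (.leaf 48)))))
                    (.drop 27
                    (.scale [-1, -1, 0, 1]
                    (.drop 30
                    (.drop 31
                    (.leaf 49)))
                    (.drop 30
                    (.drop 26
                    (.leaf 51))))))
                   (.scale [0, 0, -1, -1]
                    (.drop 35
                    (.drop 30
                    (.scale [-1, -2, -2, 0]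
                    (.drop 32
                    (.leaf 52))
                    (.drop 24
                    (.leaf 54)))))
                    (.drop 27
                    (.drop 30
                    (.scale [-1, -2, -2, 0]
                    (.drop 31
                    (.leaf 56))
                    (.drop 24
                    (.leaf 61)))))))
                  (.drop 24
                   (.drop 26
                    (.drop 29
                    (.drop 31
                    (.drop 32
                    (.scale [-1, 0, -2, -2]
                    (.leaf 62)
                    (.leaf 64)))))))))))
              (.drop 24
               (.drop 26
                (.drop 29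
                 (.scale [-1, 0, 0, 0]
                  (.scale [-1, 0, 0, 0]
                   (.scale [-1, 0, 0, 0]
                    (.drop 36
                    (.scale [0, 0, -1, 0]
                    (.scale [0, 0, -1, 0]
                    (.scale [0, -1, 0, -1]
                    (.leaf 65)
                    (.leaf 66))
                    (.scale [0, -1, -1, -1]
                    (.leaf 67)
                    (.leaf 69)))
                    (.drop 25
                    (.scale [0, -1, -2, -1]
                    (.leaf 70)
                    (.leaf 71)))))
                    (.drop 27
                    (.scale [-1, -1, 0, -1]
                    (.drop 30
                    (.drop 31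
                    (.leaf 72)))
                    (.drop 25
                    (.drop 31
                    (.leaf 74))))))
                   (.drop 25
                    (.drop 28
                    (.drop 30
                    (.scale [-1, 0, -2, 0]
                    (.drop 32
                    (.leaf 75))
                    (.drop 32
                    (.leaf 77)))))))
                  (.scale [0, 0, -1, 0]
                   (.scale [0, 0, -1, 0]
                    (.drop 36
                    (.drop 31
                    (.drop 32
                    (.scale [-1, -2, 0, -2]
                    (.leaf 78)
                    (.leaf 80)))))
                    (.drop 27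
                    (.drop 31
                    (.drop 30
                    (.scale [-1, -2, -2, -2]
                    (.leaf 81)
                    (.leaf 83))))))
                   (.drop 25
                    (.drop 28
                    (.drop 30
                    (.drop 32
                    (.scale [-1, -2, -4, -2]
                    (.leaf 85)
                    (.leaf 91))))))))))))
             (.kill 44
              (.drop 27
               (.drop 28
                (.drop 30
                 (.scale [-1, -1, 0, 0]
                  (.scale [0, 0, -1, 0]
                   (.scale [0, 0, -1, 0]
                    (.drop 37
                    (.scale [0, 0, -1, 0]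
                    (.scale [0, 0, -1, 0]
                    (.scale [-1, 0, 0, 1]
                    (.leaf 92)
                    (.leaf 93))
                    (.drop 24
                    (.leaf 94)))
                    (.drop 25
                    (.drop 26
                    (.leaf 95)))))
                    (.drop 37
                    (.scale [-1, -1, 0, 0]
                    (.scale [-1, 0, 2, 1]
                    (.drop 31
                    (.leaf 96))
                    (.drop 24
                    (.leaf 97)))
                    (.drop 25
                    (.drop 26
                    (.leaf 99))))))
                   (.drop 25
                    (.drop 37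
                    (.scale [-1, 0, -1, 1]
                    (.scale [-1, 0, -1, 1]
                    (.drop 32
                    (.leaf 100))
                    (.drop 24
                    (.leaf 102)))
                    (.scale [-1, -1, -2, 0]
                    (.drop 26
                    (.leaf 103))
                    (.drop 24
                    (.leaf 105)))))))
                  (.drop 24
                   (.drop 26
                    (.drop 29
                    (.drop 31
                    (.drop 32
                    (.scale [-1, -3, 0, -2]
                    (.leaf 106)
                    (.leaf 108)))))))))))))
            (.drop 24
             (.drop 27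
              (.kill 44
               (.drop 29
                (.drop 31
                 (.scale [-1, -1, 0, 0]
                  (.scale [-1, -1, 0, 0]
                   (.scale [-1, 0, 0, -1]
                    (.drop 38
                    (.scale [-1, -1, 0, 0]
                    (.scale [-1, 0, 0, -1]
                    (.scale [-1, 0, 0, -1]
                    (.leaf 109)
                    (.leaf 110))
                    (.scale [0, 0, -1, -1]
                    (.leaf 111)
                    (.leaf 113)))
                    (.drop 25
                    (.drop 26
                    (.leaf 114)))))
                    (.drop 38
                    (.scale [-1, -1, 0, 0]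
                    (.drop 30
                    (.scale [-1, 0, 2, 1]
                    (.leaf 115)
                    (.leaf 116)))
                    (.drop 25
                    (.drop 26
                    (.leaf 118))))))
                   (.drop 25
                    (.drop 28
                    (.drop 30
                    (.scale [-1, -3, -2, 0]
                    (.drop 32
                    (.leaf 119))
                    (.drop 32
                    (.leaf 121)))))))
                  (.scale [0, -1, -1, 0]
                   (.drop 26
                    (.drop 38
                    (.scale [0, -1, -1, 0]
                    (.drop 32
                    (.scale [-1, 0, -1, -2]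
                    (.leaf 122)
                    (.leaf 124)))
                    (.drop 25
                    (.scale [-1, -1, -2, -2]
                    (.leaf 125)
                    (.leaf 127))))))
                   (.drop 25
                    (.drop 28
                    (.drop 30
                    (.drop 32
                    (.scale [-1, -3, -4, -2]
                    (.leaf 129)
                    (.leaf 132))))))))))))))
           (.drop 25
            (.drop 26
             (.drop 28
              (.drop 29
               (.kill 44
                (.drop 32
                 (.scale [0, 0, 0, -1]
                  (.scale [0, 0, 0, -1]
                   (.scale [-1, 1, 0, 0]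
                    (.drop 39
                    (.scale [-1, 0, -1, 0]
                    (.scale [0, 0, 0, -1]
                    (.scale [0, 0, 0, -1]
                    (.leaf 133)
                    (.leaf 134))
                    (.drop 24
                    (.leaf 135)))
                    (.scale [0, 0, 0, -1]
                    (.scale [0, 0, 0, -1]
                    (.leaf 136)
                    (.leaf 137))
                    (.drop 24
                    (.leaf 139)))))
                    (.drop 27
                    (.scale [-1, -3, -4, 0]
                    (.drop 30
                    (.drop 31
                    (.leaf 140)))
                    (.drop 30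
                    (.drop 31
                    (.leaf 142))))))
                   (.scale [0, -1, -1, -1]
                    (.drop 39
                    (.drop 30
                    (.scale [-1, 0, -1, 1]
                    (.scale [-1, 0, -1, 1]
                    (.leaf 143)
                    (.leaf 144))
                    (.drop 24
                    (.leaf 146)))))
                    (.drop 27
                    (.drop 30
                    (.scale [-1, -3, -4, -2]
                    (.drop 31
                    (.leaf 148))
                    (.drop 24
                    (.leaf 153)))))))
                  (.drop 24
                   (.scale [0, -1, -1, 0]
                    (.drop 39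
                    (.drop 31
                    (.scale [0, -1, -1, 0]
                    (.scale [-1, 0, -1, -2]
                    (.leaf 154)
                    (.leaf 156))
                    (.scale [-1, -1, -2, -2]
                    (.leaf 157)
                    (.leaf 159)))))
                    (.drop 27
                    (.drop 31
                    (.drop 30
                    (.scale [-1, -3, -4, -2]
                    (.leaf 160)
                    (.leaf 162)))))))))))))))
          (.drop 27
           (.drop 28
            (.drop 29
             (.drop 30
              (.drop 31
               (.drop 32
                (.kill 44
                 (.scale [0, 0, 0, -1]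
                  (.scale [0, 0, -1, 0]
                   (.scale [0, 0, -1, 0]
                    (.drop 40
                    (.scale [0, 0, -1, 0]
                    (.scale [0, 0, -1, 0]
                    (.scale [0, 0, 0, -1]
                    (.leaf 163)
                    (.leaf 164))
                    (.drop 24
                    (.leaf 165)))
                    (.drop 25
                    (.drop 26
                    (.leaf 166)))))
                    (.drop 40
                    (.scale [-1, -2, -2, 0]
                    (.scale [0, 0, 0, -1]
                    (.scale [0, 0, 0, -1]
                    (.leaf 167)
                    (.leaf 168))
                    (.drop 24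
                    (.leaf 169)))
                    (.drop 25
                    (.drop 26
                    (.leaf 171))))))
                   (.drop 25
                    (.drop 40
                    (.scale [0, 0, -1, -1]
                    (.scale [-1, -2, -2, 0]
                    (.scale [0, 0, -1, -1]
                    (.leaf 172)
                    (.leaf 173))
                    (.drop 24
                    (.leaf 175)))
                    (.scale [-1, -2, -4, -2]
                    (.drop 26
                    (.leaf 176))
                    (.drop 24
                    (.leaf 178)))))))
                  (.drop 24
                   (.drop 26
                    (.drop 40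
                    (.scale [0, 0, -1, 0]
                    (.scale [0, 0, -1, 0]
                    (.scale [-1, -2, 0, -2]
                    (.leaf 179)
                    (.leaf 181))
                    (.scale [-1, -2, -2, -2]
                    (.leaf 182)
                    (.leaf 184)))
                    (.drop 25
                    (.scale [-1, -2, -4, -2]
                    (.leaf 185)
                    (.leaf 187))))))))))))))))
         (.kill 39
          (.kill 40
           (.scale [0, -1, 0, 0]
            (.scale [0, -1, 0, 0]
             (.scale [0, -1, 0, 0]
              (.scale [0, -1, 0, 0]
               (.drop 33
                (.drop 34
                 (.kill 46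
                  (.kill 47
                   (.scale [0, -1, 0, 0]
                    (.scale [-1, 0, -2, 0]
                    (.scale [0, -1, 0, 0]
                    (.drop 41
                    (.drop 42
                    (.leaf 188)))
                    (.drop 25
                    (.drop 26
                    (.leaf 190))))
                    (.scale [0, -1, 0, 0]
                    (.drop 41
                    (.drop 42
                    (.leaf 191)))
                    (.drop 25
                    (.drop 26
                    (.leaf 192)))))
                    (.drop 27
                    (.scale [-1, -2, -2, 0]
                    (.drop 30
                    (.drop 31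
                    (.leaf 194)))
                    (.drop 25
                    (.drop 26
                    (.leaf 199))))))))))
               (.drop 25
                (.drop 28
                 (.kill 46
                  (.kill 47
                   (.scale [0, -1, 0, 1]
                    (.drop 35
                    (.scale [0, -1, 0, 1]
                    (.drop 41
                    (.drop 42
                    (.leaf 201)))
                    (.drop 41
                    (.drop 26
                    (.leaf 203)))))
                    (.drop 27
                    (.scale [-1, -2, -2, 0]
                    (.drop 30
                    (.drop 31
                    (.leaf 206)))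
                    (.drop 30
                    (.drop 26
                    (.leaf 209)))))))))))
              (.drop 24
               (.drop 26
                (.drop 29
                 (.kill 46
                  (.kill 47
                   (.scale [0, -1, 0, -1]
                    (.drop 36
                    (.scale [0, -1, 0, -1]
                    (.drop 41
                    (.drop 42
                    (.leaf 210)))
                    (.drop 25
                    (.drop 42
                    (.leaf 212)))))
                    (.drop 27
                    (.scale [-1, -2, -2, -2]
                    (.drop 30
                    (.drop 31
                    (.leaf 215)))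
                    (.drop 25
                    (.drop 31
                    (.leaf 218))))))))))))
             (.kill 44
              (.drop 27
               (.drop 28
                (.drop 30
                 (.kill 46
                  (.kill 47
                   (.scale [0, -1, 0, -1]
                    (.drop 37
                    (.scale [0, -1, 0, -1]
                    (.drop 41
                    (.drop 42
                    (.leaf 219)))
                    (.drop 25
                    (.drop 26
                    (.leaf 222)))))
                    (.drop 37
                    (.scale [-1, -2, -2, -1]
                    (.drop 41
                    (.drop 31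
                    (.leaf 224)))
                    (.drop 25
                    (.drop 26
                    (.leaf 228)))))))))))))
            (.drop 24
             (.drop 27
              (.kill 44
               (.drop 29
                (.drop 31
                 (.kill 46
                  (.kill 47
                   (.scale [0, -1, 0, 1]
                    (.drop 38
                    (.scale [0, -1, 0, 1]
                    (.drop 41
                    (.drop 42
                    (.leaf 229)))
                    (.drop 25
                    (.drop 26
                    (.leaf 232)))))
                    (.drop 38
                    (.scale [-1, -2, -2, -1]
                    (.drop 30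
                    (.drop 42
                    (.leaf 234)))
                    (.drop 25
                    (.drop 26
                    (.leaf 238)))))))))))))))))
        (.drop 25
         (.kill 38
          (.scale [-1, -1, 0, 0]
           (.kill 40
            (.scale [0, 0, -1, -1]
             (.scale [-1, -1, 0, 0]
              (.drop 33
               (.scale [-1, -1, 0, 0]
                (.drop 35
                 (.kill 45
                  (.scale [-1, -1, 0, 0]
                   (.kill 47
                    (.scale [-1, -1, 0, 0]
                    (.drop 41
                    (.scale [-1, 0, 0, -2]
                    (.drop 43
                    (.leaf 239))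
                    (.drop 24
                    (.leaf 241))))
                    (.drop 41
                    (.scale [0, -1, -2, 0]
                    (.drop 43
                    (.leaf 242))
                    (.drop 24
                    (.leaf 243))))))
                   (.kill 47
                    (.drop 28
                    (.drop 30
                    (.scale [-1, -2, -2, 0]
                    (.drop 32
                    (.leaf 245))
                    (.drop 24
                    (.leaf 248)))))))))
                (.drop 27
                 (.kill 45
                  (.scale [-1, 0, 0, -2]
                   (.kill 47
                    (.drop 34
                    (.drop 41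
                    (.scale [-1, 0, 0, -2]
                    (.drop 43
                    (.leaf 200))
                    (.drop 24
                    (.leaf 250))))))
                   (.kill 47
                    (.drop 28
                    (.drop 30
                    (.scale [-1, -2, -2, 0]
                    (.drop 32
                    (.leaf 253))
                    (.drop 24
                    (.leaf 256)))))))))))
              (.drop 24
               (.drop 26
                (.drop 29
                 (.kill 45
                  (.scale [-1, 0, 2, 0]
                   (.kill 47
                    (.drop 36
                    (.drop 41
                    (.scale [-1, 0, 2, 0]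
                    (.drop 43
                    (.leaf 257))
                    (.drop 43
                    (.leaf 259))))))
                   (.kill 47
                    (.drop 28
                    (.drop 30
                    (.scale [-1, -2, -4, -2]
                    (.drop 32
                    (.leaf 262))
                    (.drop 32
                    (.leaf 265))))))))))))
             (.kill 44
              (.drop 27
               (.drop 28
                (.drop 30
                 (.kill 45
                  (.scale [-1, -1, 0, 0]
                   (.kill 47
                    (.drop 37
                    (.drop 41
                    (.scale [-1, 0, 3, 1]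
                    (.drop 43
                    (.leaf 266))
                    (.drop 24
                    (.leaf 269))))))
                   (.kill 47
                    (.drop 37
                    (.drop 41
                    (.scale [-1, -2, -3, -1]
                    (.drop 32
                    (.leaf 271))
                    (.drop 24
                    (.leaf 275))))))))))))))
           (.kill 40
            (.drop 26
             (.drop 28
              (.drop 29
               (.kill 44
                (.drop 32
                 (.kill 45
                  (.scale [0, -1, -1, 1]
                   (.kill 47
                    (.drop 39
                    (.drop 41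
                    (.scale [0, -1, -1, 1]
                    (.drop 43
                    (.leaf 276))
                    (.drop 24
                    (.leaf 279))))))
                   (.kill 47
                    (.drop 39
                    (.drop 30
                    (.scale [-1, -2, -3, -1]
                    (.drop 43
                    (.leaf 281))
                    (.drop 24
                    (.leaf 285))))))))))))))))))
       (.drop 24
        (.drop 26
         (.kill 37
          (.scale [0, 0, -1, 0]
           (.scale [0, 0, -1, 0]
            (.kill 40
             (.drop 33
              (.scale [0, 0, -1, 0]
               (.scale [0, 0, -1, 0]
                (.drop 36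
                 (.scale [-1, -1, 0, 0]
                  (.kill 45
                   (.kill 46
                    (.scale [-1, -1, 0, 0]
                    (.drop 42
                    (.drop 43
                    (.scale [-1, 0, 0, 2]
                    (.leaf 286)
                    (.leaf 288))))
                    (.drop 42
                    (.drop 43
                    (.scale [0, -1, 0, -2]
                    (.leaf 289)
                    (.leaf 290)))))))
                  (.kill 45
                   (.kill 46
                    (.drop 29
                    (.drop 31
                    (.drop 32
                    (.scale [-1, -2, 0, -2]
                    (.leaf 292)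
                    (.leaf 295)))))))))
                (.drop 27
                 (.scale [-1, -1, -1, 0]
                  (.kill 45
                   (.kill 46
                    (.drop 34
                    (.drop 42
                    (.drop 43
                    (.scale [-1, 0, 0, 2]
                    (.leaf 296)
                    (.leaf 298)))))))
                  (.kill 45
                   (.kill 46
                    (.drop 29
                    (.drop 31
                    (.drop 32
                    (.scale [-1, -2, -2, -2]
                    (.leaf 301)
                    (.leaf 304))))))))))
               (.drop 25
                (.drop 28
                 (.scale [-1, -1, -1, 0]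
                  (.kill 45
                   (.kill 46
                    (.drop 35
                    (.drop 42
                    (.drop 43
                    (.scale [-1, 0, 2, 2]
                    (.leaf 305)
                    (.leaf 307)))))))
                  (.kill 45
                   (.kill 46
                    (.drop 29
                    (.drop 31
                    (.drop 32
                    (.scale [-1, -2, -4, -2]
                    (.leaf 310)
                    (.leaf 313)))))))))))))
            (.kill 40
             (.drop 27
              (.kill 44
               (.drop 29
                (.drop 31
                 (.scale [-1, -1, 0, 0]
                  (.kill 45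
                   (.kill 46
                    (.drop 38
                    (.drop 42
                    (.drop 43
                    (.scale [-1, 0, 3, 2]
                    (.leaf 314)
                    (.leaf 317)))))))
                  (.kill 45
                   (.kill 46
                    (.drop 38
                    (.drop 42
                    (.drop 32
                    (.scale [-1, -2, -3, -2]
                    (.leaf 319)
                    (.leaf 323))))))))))))))
           (.drop 25
            (.kill 40
             (.drop 28
              (.drop 29
               (.kill 44
                (.drop 32
                 (.scale [-1, -1, -2, 0]
                  (.kill 45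
                   (.kill 46
                    (.drop 39
                    (.drop 42
                    (.drop 43
                    (.scale [-1, 0, -1, 2]
                    (.leaf 324)
                    (.leaf 327)))))))
                  (.kill 45
                   (.kill 46
                    (.drop 39
                    (.drop 31
                    (.drop 43
                    (.scale [-1, -2, -3, -2]
                    (.leaf 329)
                    (.leaf 333)))))))))))))))))))
      (.scale [0, -1, 0, 0]
       (.scale [0, -1, 0, 0]
        (.scale [0, 0, -1, 0]
         (.kill 36
          (.kill 38
           (.kill 39
            (.drop 33
             (.kill 40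
              (.drop 34
               (.drop 35
                (.drop 37
                 (.kill 44
                  (.scale [0, 0, -1, 0]
                   (.scale [0, -1, 0, 0]
                    (.drop 41
                    (.scale [0, -1, 0, 0]
                    (.scale [0, 0, -1, 0]
                    (.scale [-1, 0, 0, -1]
                    (.leaf 334)
                    (.leaf 335))
                    (.drop 24
                    (.leaf 336)))
                    (.drop 25
                    (.drop 26
                    (.leaf 337)))))
                    (.drop 27
                    (.scale [-1, -1, 0, -1]
                    (.drop 30
                    (.drop 31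
                    (.leaf 338)))
                    (.drop 25
                    (.drop 26
                    (.leaf 341))))))
                   (.drop 25
                    (.drop 28
                    (.drop 30
                    (.scale [-1, 0, -3, -1]
                    (.drop 32
                    (.leaf 342))
                    (.drop 24
                    (.leaf 345))))))))))))))))
         (.kill 36
          (.kill 38
           (.kill 39
            (.drop 33
             (.kill 40
              (.drop 34
               (.drop 35
                (.drop 37
                 (.kill 44
                  (.kill 47
                   (.scale [0, -1, 0, 0]
                    (.drop 41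
                    (.scale [0, -1, 0, 0]
                    (.scale [-1, 0, -2, -1]
                    (.drop 42
                    (.leaf 346))
                    (.drop 24
                    (.leaf 347)))
                    (.drop 25
                    (.drop 26
                    (.leaf 349)))))
                    (.drop 27
                    (.scale [-1, -2, -2, -1]
                    (.drop 30
                    (.drop 31
                    (.leaf 350)))
                    (.drop 25
                    (.drop 26
                    (.leaf 354)))))))))))))))))
        (.drop 25
         (.kill 36
          (.kill 38
           (.kill 39
            (.drop 33
             (.kill 40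
              (.drop 34
               (.drop 35
                (.drop 37
                 (.kill 44
                  (.scale [-1, 0, 1, -1]
                   (.kill 47
                    (.drop 41
                    (.scale [-1, 0, 1, -1]
                    (.scale [-1, 0, 1, -1]
                    (.drop 43
                    (.leaf 355))
                    (.drop 24
                    (.leaf 357)))
                    (.scale [0, -1, -2, 0]
                    (.drop 26
                    (.leaf 358))
                    (.drop 24
                    (.leaf 360))))))
                   (.kill 47
                    (.drop 28
                    (.drop 30
                    (.scale [-1, -2, -3, -1]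
                    (.drop 32
                    (.leaf 361))
                    (.drop 24
                    (.leaf 365))))))))))))))))))
       (.drop 24
        (.drop 26
         (.kill 36
          (.kill 38
           (.kill 39
            (.drop 33
             (.kill 40
              (.drop 34
               (.drop 35
                (.drop 36
                 (.kill 44
                  (.kill 45
                   (.kill 46
                    (.drop 41
                    (.drop 42
                    (.drop 43
                    (.scale [-2, -3, 0, -2]
                    (.leaf 366)
                    (.leaf 368))))))))))))))))))))
     (.drop 24
      (.scale [0, -1, 0, 0]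
       (.scale [0, -1, 0, 0]
        (.scale [-1, 0, -1, 0]
         (.kill 35
          (.kill 37
           (.drop 33
            (.kill 39
             (.drop 34
              (.kill 40
               (.drop 36
                (.drop 38
                 (.scale [-1, 0, -1, 0]
                  (.kill 44
                   (.scale [0, -1, 0, 0]
                    (.drop 42
                    (.scale [0, -1, 0, 0]
                    (.scale [-1, 0, -1, 0]
                    (.scale [-1, 0, 0, 1]
                    (.leaf 369)
                    (.leaf 370))
                    (.scale [0, 0, -1, -1]
                    (.leaf 371)
                    (.leaf 373)))
                    (.drop 25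
                    (.drop 26
                    (.leaf 374)))))
                    (.drop 27
                    (.scale [-1, -1, 0, 1]
                    (.drop 30
                    (.drop 31
                    (.leaf 375)))
                    (.drop 25
                    (.drop 26
                    (.leaf 378)))))))
                  (.kill 44
                   (.drop 26
                    (.drop 29
                    (.drop 31
                    (.drop 32
                    (.scale [-1, 0, -3, -2]
                    (.leaf 379)
                    (.leaf 382))))))))))))))))
         (.kill 35
          (.kill 37
           (.drop 33
            (.kill 39
             (.drop 34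
              (.kill 40
               (.drop 36
                (.drop 38
                 (.scale [-1, 0, -2, -1]
                  (.kill 44
                   (.scale [0, -1, 0, 0]
                    (.drop 42
                    (.scale [0, -1, 0, 0]
                    (.drop 41
                    (.scale [-1, 0, -2, -1]
                    (.leaf 383)
                    (.leaf 384)))
                    (.drop 25
                    (.drop 26
                    (.leaf 386)))))
                    (.drop 27
                    (.scale [-1, -2, -2, -1]
                    (.drop 30
                    (.drop 31
                    (.leaf 387)))
                    (.drop 25
                    (.drop 26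
                    (.leaf 391)))))))
                  (.kill 44
                   (.drop 26
                    (.drop 29
                    (.drop 31
                    (.drop 32
                    .dead)))))))))))))))
        (.drop 25
         (.kill 35
          (.kill 37
           (.drop 33
            (.kill 39
             (.drop 34
              (.kill 40
               (.drop 36
                (.drop 35
                 (.kill 45
                  (.kill 44
                   (.kill 47
                    (.drop 42
                    (.drop 41
                    (.scale [-2, -3, -2, 0]
                    (.drop 43
                    (.leaf 392))
                    (.drop 43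
                    (.leaf 394))))))))))))))))))
       (.scale [-1, -1, -1, 0]
        (.drop 26
         (.kill 35
          (.kill 37
           (.drop 33
            (.kill 39
             (.drop 34
              (.kill 40
               (.drop 36
                (.drop 38
                 (.scale [-1, -1, -1, 0]
                  (.kill 44
                   (.kill 46
                    (.drop 42
                    (.scale [-1, -1, -1, 0]
                    (.drop 43
                    (.scale [-1, 0, 1, 2]
                    (.leaf 395)
                    (.leaf 397)))
                    (.drop 25
                    (.scale [0, -1, -2, -2]
                    (.leaf 398)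
                    (.leaf 400)))))))
                  (.kill 44
                   (.kill 46
                    (.drop 29
                    (.drop 31
                    (.drop 32
                    (.scale [-1, -2, -3, -2]
                    (.leaf 401)
                    (.leaf 405)))))))))))))))))
        (.drop 25
         (.kill 35
          (.kill 37
           (.drop 33
            (.kill 39
             (.drop 34
              (.kill 40
               (.drop 36
                (.drop 35
                 (.scale [-2, -3, -4, -2]
                  (.kill 44
                   (.kill 46
                    (.drop 42
                    (.drop 41
                    (.drop 43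
                    (.scale [-2, -3, -4, -2]
                    (.leaf 407)
                    (.leaf 410)))))))
                  (.kill 44
                   (.kill 45
                    (.drop 29
                    (.drop 31
                    .dead))))))))))))))))))
    (.drop 25
     (.drop 26
      (.scale [0, 0, 0, -1]
       (.scale [0, 0, 0, -1]
        (.scale [-2, -1, 0, 0]
         (.kill 34
          (.drop 33
           (.kill 37
            (.kill 38
             (.drop 35
              (.drop 36
               (.kill 40
                (.drop 39
                 (.scale [0, 0, 0, -1]
                  (.scale [0, 0, 0, -1]
                   (.kill 44
                    (.drop 43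
                    (.scale [-1, 0, 1, 0]
                    (.scale [0, 0, 0, -1]
                    (.scale [0, 0, 0, -1]
                    (.leaf 411)
                    (.leaf 412))
                    (.drop 24
                    (.leaf 413)))
                    (.scale [0, 0, 0, -1]
                    (.scale [0, 0, 0, -1]
                    (.leaf 414)
                    (.leaf 415))
                    (.drop 24
                    (.leaf 417))))))
                   (.kill 44
                    (.drop 28
                    (.drop 30
                    (.scale [-1, -1, -1, 1]
                    (.drop 32
                    (.leaf 418))
                    (.drop 24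
                    (.leaf 421)))))))
                  (.drop 24
                   (.kill 44
                    (.drop 29
                    (.drop 31
                    (.drop 32
                    (.scale [-1, 0, 1, -2]
                    (.leaf 422)
                    (.leaf 425))))))))))))))))
         (.kill 34
          (.drop 33
           (.kill 37
            (.kill 38
             (.drop 35
              (.drop 36
               (.kill 40
                (.drop 34
                 (.kill 46
                  (.kill 47
                   (.kill 44
                    (.drop 43
                    (.scale [-2, -3, -4, 0]
                    (.drop 41
                    (.drop 42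
                    (.leaf 426)))
                    (.drop 41
                    (.drop 42
                    (.leaf 428)))))))))))))))))
        (.scale [0, -1, -2, 0]
         (.kill 34
          (.drop 33
           (.kill 37
            (.kill 38
             (.drop 35
              (.drop 36
               (.kill 40
                (.drop 39
                 (.scale [-1, 0, 1, -1]
                  (.scale [-1, 0, 1, -1]
                   (.kill 44
                    (.drop 43
                    (.drop 41
                    (.scale [-1, 0, 1, -1]
                    (.scale [-1, 0, 1, -1]
                    (.leaf 429)
                    (.leaf 430))
                    (.drop 24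
                    (.leaf 432))))))
                   (.kill 44
                    (.drop 28
                    (.drop 30
                    (.scale [-1, -2, -3, -1]
                    (.drop 32
                    (.leaf 433))
                    (.drop 24
                    (.leaf 437)))))))
                  (.drop 24
                   (.kill 44
                    (.drop 29
                    (.drop 31
                    .dead)))))))))))))
         (.kill 34
          (.drop 33
           (.kill 37
            (.kill 38
             (.drop 35
              (.drop 36
               (.kill 40
                (.drop 34
                 (.kill 46
                  (.scale [-2, -3, -4, -2]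
                   (.kill 44
                    (.drop 43
                    (.drop 41
                    (.scale [-2, -3, -4, -2]
                    (.drop 42
                    (.leaf 439))
                    (.drop 24
                    (.leaf 442))))))
                   (.kill 44
                    (.drop 28
                    (.drop 30
                    (.kill 47
                    (.drop 32
                    .dead)))))))))))))))))
       (.drop 24
        (.scale [-1, -1, -1, 0]
         (.kill 34
          (.drop 33
           (.kill 37
            (.kill 38
             (.drop 35
              (.drop 36
               (.kill 40
                (.drop 39
                 (.scale [-1, -1, -1, 0]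
                  (.scale [-1, -1, -1, 0]
                   (.kill 44
                    (.drop 43
                    (.drop 42
                    (.scale [-1, -1, -1, 0]
                    (.scale [-1, 0, 1, 2]
                    (.leaf 443)
                    (.leaf 445))
                    (.scale [0, -1, -2, -2]
                    (.leaf 446)
                    (.leaf 448))))))
                   (.kill 44
                    (.drop 28
                    (.drop 30
                    .dead))))
                  (.scale [-1, -2, -3, -2]
                   (.kill 44
                    (.drop 29
                    (.drop 31
                    (.drop 32
                    (.scale [-1, -2, -3, -2]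
                    (.leaf 449)
                    (.leaf 453))))))
                   (.kill 44
                    (.drop 28
                    (.drop 30
                    .dead)))))))))))))
         (.kill 34
          (.drop 33
           (.kill 37
            (.kill 38
             (.drop 35
              (.drop 36
               (.kill 40
                (.drop 34
                 (.scale [-2, -3, -4, -2]
                  (.kill 47
                   (.kill 44
                    (.drop 43
                    (.drop 42
                    (.drop 41
                    (.scale [-2, -3, -4, -2]
                    (.leaf 454)
                    (.leaf 456)))))))
                  (.kill 47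
                   (.kill 44
                    (.drop 29
                    (.drop 31
                    (.drop 32
                    .dead))))))))))))))))))))
   (.kill 29
    (.scale [-1, 0, 0, 0]
     (.drop 27
      (.kill 32
       (.scale [-1, 0, 0, 0]
        (.drop 30
         (.scale [-1, 0, 0, 0]
          (.kill 36
           (.scale [-1, 0, 0, 0]
            (.drop 34
             (.kill 39
              (.scale [0, 0, -1, 1]
               (.drop 37
                (.scale [-1, 0, 0, 0]
                 (.kill 43
                  (.scale [-1, 0, 0, 0]
                   (.drop 41
                    (.scale [-1, 0, 0, 0]
                    (.kill 47
                    (.scale [0, 0, -1, 1]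
                    (.drop 45
                    (.leaf 457))
                    (.drop 24
                    (.leaf 459))))
                    (.kill 47
                    (.scale [0, 0, -1, 1]
                    (.drop 45
                    (.leaf 460))
                    (.drop 24
                    (.leaf 461))))))
                   (.drop 25
                    (.drop 28
                    (.kill 47
                    (.scale [-1, 0, -1, 1]
                    (.drop 32
                    (.leaf 463))
                    (.drop 24
                    (.leaf 466))))))))
                 (.kill 43
                  (.scale [0, 0, -1, 1]
                   (.drop 41
                    (.drop 33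
                    (.kill 47
                    (.scale [0, 0, -1, 1]
                    (.drop 45
                    (.leaf 467))
                    (.drop 24
                    (.leaf 469))))))
                   (.drop 25
                    (.drop 28
                    (.kill 47
                    (.scale [-1, -1, -2, 0]
                    (.drop 32
                    (.leaf 472))
                    (.drop 24
                    (.leaf 476))))))))))
               (.drop 25
                (.drop 28
                 (.kill 43
                  (.scale [-1, 0, 0, 0]
                   (.drop 41
                    (.drop 35
                    (.kill 47
                    (.scale [0, -2, -3, -1]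
                    (.drop 45
                    (.leaf 479))
                    (.drop 24
                    (.leaf 482))))))
                   (.drop 41
                    (.drop 35
                    (.kill 47
                    (.scale [-1, -2, -3, -1]
                    (.drop 32
                    (.leaf 484))
                    (.drop 24
                    (.leaf 485)))))))))))))
            (.drop 24
             (.kill 39
              (.kill 44
               (.drop 29
                (.drop 31
                 (.kill 43
                  (.scale [-1, -1, -1, -1]
                   (.drop 41
                    (.drop 38
                    (.kill 47
                    (.scale [-2, 0, 1, -1]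
                    (.drop 45
                    (.leaf 486))
                    (.drop 45
                    (.leaf 488))))))
                   (.drop 25
                    (.drop 28
                    (.kill 47
                    (.scale [-1, -3, -4, -2]
                    (.drop 32
                    (.leaf 491))
                    (.drop 32
                    (.leaf 493)))))))))))))))
          (.kill 36
           (.drop 28
            (.drop 29
             (.kill 39
              (.drop 31
               (.drop 32
                (.kill 44
                 (.kill 43
                  (.scale [0, 0, -1, 1]
                   (.drop 41
                    (.drop 40
                    (.kill 47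
                    (.scale [0, 0, -1, 1]
                    (.drop 45
                    (.leaf 494))
                    (.drop 24
                    (.leaf 497))))))
                   (.drop 25
                    (.drop 40
                    (.kill 47
                    (.scale [-1, -2, -3, -1]
                    (.drop 45
                    (.leaf 499))
                    (.drop 24
                    (.leaf 503)))))))))))))))))
        (.drop 25
         (.kill 38
          (.kill 36
           (.kill 40
            (.drop 34
             (.kill 39
              (.drop 33
               (.drop 37
                (.drop 35
                 (.kill 43
                  (.scale [-1, 0, 1, -1]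
                   (.drop 41
                    (.scale [-1, 0, 1, -1]
                    (.kill 47
                    (.scale [-1, 0, 1, -1]
                    (.drop 43
                    (.leaf 505))
                    (.drop 24
                    (.leaf 508))))
                    (.kill 47
                    (.scale [0, -1, -2, 0]
                    (.drop 43
                    (.leaf 515))
                    (.drop 24
                    (.leaf 524))))))
                   (.drop 41
                    (.drop 28
                    (.kill 47
                    (.scale [-1, -2, -3, -1]
                    (.drop 32
                    (.leaf 529))
                    (.drop 24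
                    (.leaf 535))))))))))))))))))))
     (.drop 24
      (.kill 32
       (.scale [0, -1, -1, -1]
        (.drop 30
         (.kill 35
          (.kill 36
           (.drop 33
            (.drop 34
             (.kill 39
              (.kill 40
               (.drop 36
                (.drop 38
                 (.kill 43
                  (.kill 44
                   (.drop 41
                    (.drop 42
                    (.kill 47
                    (.scale [-2, 0, -1, 1]
                    (.drop 45
                    (.leaf 536))
                    (.drop 45
                    (.leaf 538)))))))))))))))))
        (.drop 25
         (.kill 35
          (.kill 36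
           (.drop 33
            (.drop 34
             (.kill 39
              (.kill 40
               (.drop 36
                (.drop 35
                 (.kill 43
                  (.kill 44
                   (.drop 41
                    (.drop 42
                    (.kill 47
                    (.scale [-2, -3, -4, -2]
                    (.drop 43
                    (.leaf 541))
                    (.drop 43
                    (.leaf 543)))))))))))))))))))))))
  (.drop 24
   (.kill 28
    (.drop 27
     (.scale [-1, 0, 0, 0]
      (.scale [-1, 0, 0, 0]
       (.kill 32
        (.drop 31
         (.scale [-1, 0, 0, 0]
          (.kill 35
           (.drop 34
            (.scale [-1, 0, 0, 0]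
             (.scale [0, -1, -1, 0]
              (.kill 39
               (.drop 38
                (.scale [-1, 0, 0, 0]
                 (.scale [-1, 0, 0, 0]
                  (.kill 43
                   (.drop 42
                    (.scale [-1, 0, 0, 0]
                    (.kill 46
                    (.drop 45
                    (.scale [0, -1, 0, 2]
                    (.leaf 544)
                    (.leaf 546))))
                    (.kill 46
                    (.drop 45
                    (.scale [0, -1, 0, 2]
                    (.leaf 547)
                    (.leaf 548)))))))
                  (.kill 43
                   (.drop 26
                    (.drop 29
                    (.kill 46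
                    (.drop 32
                    (.scale [-1, 0, -1, -2]
                    (.leaf 550)
                    (.leaf 553))))))))
                 (.scale [-1, -1, -1, 0]
                  (.kill 43
                   (.drop 42
                    (.drop 33
                    (.kill 46
                    (.drop 45
                    (.scale [0, 0, -1, -2]
                    (.leaf 554)
                    (.leaf 556)))))))
                  (.kill 43
                   (.drop 26
                    (.drop 29
                    (.kill 46
                    (.drop 32
                    (.scale [-1, -1, -2, -2]
                    (.leaf 559)
                    (.leaf 563)))))))))))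
              (.kill 39
               (.drop 26
                (.drop 29
                 (.scale [-1, 0, 0, 0]
                  (.kill 43
                   (.drop 42
                    (.drop 36
                    (.kill 46
                    (.drop 45
                    (.scale [0, -2, -3, -2]
                    (.leaf 564)
                    (.leaf 567)))))))
                  (.kill 43
                   (.drop 42
                    (.drop 36
                    (.kill 46
                    (.drop 32
                    (.scale [-1, -2, -3, -2]
                    (.leaf 569)
                    (.leaf 570))))))))))))
             (.kill 44
              (.kill 39
               (.drop 28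
                (.drop 30
                 (.scale [-1, -1, -1, 0]
                  (.kill 43
                   (.drop 42
                    (.drop 37
                    (.kill 46
                    (.drop 45
                    (.scale [-2, 0, 1, 2]
                    (.leaf 571)
                    (.leaf 573)))))))
                  (.kill 43
                   (.drop 26
                    (.drop 29
                    (.kill 46
                    (.drop 32
                    (.scale [-1, -3, -4, -2]
                    (.leaf 576)
                    (.leaf 578)))))))))))))))
          (.kill 35
           (.drop 28
            (.drop 29
             (.drop 30
              (.kill 39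
               (.drop 32
                (.kill 44
                 (.scale [0, 0, -1, -2]
                  (.kill 43
                   (.drop 42
                    (.drop 40
                    (.kill 46
                    (.drop 45
                    (.scale [0, 0, -1, -2]
                    (.leaf 579)
                    (.leaf 582)))))))
                  (.kill 43
                   (.drop 26
                    (.drop 40
                    (.kill 46
                    (.drop 45
                    (.scale [-1, -2, -3, -2]
                    (.leaf 584)
                    (.leaf 588))))))))))))))))))
       (.kill 32
        (.drop 26
         (.kill 37
          (.kill 35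
           (.drop 34
            (.kill 40
             (.drop 33
              (.kill 39
               (.drop 38
                (.drop 36
                 (.scale [-1, -1, -1, 0]
                  (.kill 43
                   (.drop 42
                    (.scale [-1, -1, -1, 0]
                    (.kill 46
                    (.drop 43
                    (.scale [-1, 0, 1, 2]
                    (.leaf 590)
                    (.leaf 593))))
                    (.kill 46
                    (.drop 43
                    (.scale [0, -1, -2, -2]
                    (.leaf 595)
                    (.leaf 598)))))))
                  (.kill 43
                   (.drop 42
                    (.drop 29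
                    (.kill 46
                    (.drop 32
                    (.scale [-1, -2, -3, -2]
                    (.leaf 603)
                    (.leaf 609)))))))))))))))))))
      (.scale [0, -1, -1, 0]
       (.kill 32
        (.drop 31
         (.kill 36
          (.kill 35
           (.drop 34
            (.drop 33
             (.kill 40
              (.kill 39
               (.drop 35
                (.drop 37
                 (.kill 44
                  (.kill 43
                   (.drop 42
                    (.drop 41
                    (.kill 46
                    (.drop 45
                    (.scale [-2, 0, -1, -2]
                    (.leaf 610)
                    (.leaf 612))))))))))))))))))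
       (.kill 32
        (.drop 26
         (.kill 36
          (.kill 35
           (.drop 34
            (.drop 33
             (.kill 40
              (.kill 39
               (.drop 35
                (.drop 36
                 (.kill 44
                  (.kill 43
                   (.drop 42
                    (.drop 41
                    (.kill 46
                    (.drop 43
                    (.scale [-2, -3, -4, -2]
                    (.leaf 615)
                    (.leaf 617))))))))))))))))))))))))
 (.kill 26
  (.drop 25
   (.scale [-1, 0, 0, 0]
    (.kill 29
     (.drop 28
      (.kill 31
       (.drop 30
        (.scale [-1, 0, 0, 0]
         (.scale [-1, 0, 0, 0]
          (.scale [-1, 0, 0, 0]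
           (.kill 36
            (.drop 35
             (.kill 38
              (.drop 37
               (.scale [0, -1, 0, 0]
                (.scale [-1, 0, 0, 0]
                 (.kill 42
                  (.drop 41
                   (.scale [-1, 0, 0, 0]
                    (.scale [-1, 0, 0, 0]
                    (.scale [0, -1, 0, 0]
                    (.kill 47
                    (.drop 46
                    (.leaf 618)))
                    (.kill 47
                    (.drop 26
                    (.leaf 620))))
                    (.scale [0, -1, 0, 0]
                    (.kill 47
                    (.drop 46
                    (.leaf 621)))
                    (.kill 47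
                    (.drop 26
                    (.leaf 622)))))
                    (.drop 27
                    (.scale [-1, -1, 0, 0]
                    (.kill 47
                    (.drop 31
                    (.leaf 624)))
                    (.kill 47
                    (.drop 26
                    (.leaf 627))))))))
                 (.kill 42
                  (.drop 41
                   (.scale [0, 0, -2, -1]
                    (.drop 33
                    (.scale [-1, -1, 0, 0]
                    (.kill 47
                    (.drop 46
                    (.leaf 477)))
                    (.kill 47
                    (.drop 26
                    (.leaf 629)))))
                    (.drop 27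
                    (.scale [-1, -1, 0, 0]
                    (.kill 47
                    (.drop 31
                    (.leaf 632)))
                    (.kill 47
                    (.drop 26
                    (.leaf 636)))))))))
                (.drop 27
                 (.kill 42
                  (.drop 41
                   (.scale [-1, 0, 0, 0]
                    (.drop 34
                    (.scale [0, -2, -2, -1]
                    (.kill 47
                    (.drop 46
                    (.leaf 478)))
                    (.kill 47
                    (.drop 26
                    (.leaf 639)))))
                    (.drop 34
                    (.scale [-1, -2, -2, -1]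
                    (.kill 47
                    (.drop 31
                    (.leaf 641)))
                    (.kill 47
                    (.drop 26
                    (.leaf 642))))))))))))))
           (.kill 36
            (.drop 26
             (.kill 38
              (.drop 29
               (.kill 44
                (.drop 32
                 (.kill 42
                  (.drop 41
                   (.scale [-1, 1, 0, 0]
                    (.drop 39
                    (.scale [-1, 1, 0, 0]
                    (.kill 47
                    (.drop 46
                    (.leaf 643)))
                    (.kill 47
                    (.drop 46
                    (.leaf 645)))))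
                    (.drop 27
                    (.scale [-1, -3, -4, -2]
                    (.kill 47
                    (.drop 31
                    (.leaf 648)))
                    (.kill 47
                    (.drop 31
                    (.leaf 651)))))))))))))))
          (.drop 27
           (.kill 36
            (.drop 29
             (.kill 38
              (.drop 31
               (.drop 32
                (.kill 44
                 (.kill 42
                  (.drop 41
                   (.scale [-1, -2, 0, 0]
                    (.drop 40
                    (.scale [-1, -2, 0, 0]
                    (.kill 47
                    (.drop 46
                    (.leaf 652)))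
                    (.kill 47
                    (.drop 26
                    (.leaf 655)))))
                    (.drop 40
                    (.scale [-1, -2, -2, -1]
                    (.kill 47
                    (.drop 46
                    (.leaf 657)))
                    (.kill 47
                    (.drop 26
                    (.leaf 661))))))))))))))))
         (.kill 39
          (.kill 40
           (.kill 36
            (.drop 35
             (.kill 38
              (.drop 37
               (.drop 33
                (.drop 34
                 (.kill 42
                  (.drop 41
                   (.scale [0, -1, 0, 0]
                    (.scale [-1, 0, -2, -1]
                    (.scale [0, -1, 0, 0]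
                    (.kill 47
                    (.drop 42
                    (.leaf 663)))
                    (.kill 47
                    (.drop 26
                    (.leaf 666))))
                    (.scale [0, -1, 0, 0]
                    (.kill 47
                    (.drop 42
                    (.leaf 668)))
                    (.kill 47
                    (.drop 26
                    (.leaf 671)))))
                    (.drop 27
                    (.scale [-1, -2, -2, -1]
                    (.kill 47
                    (.drop 31
                    (.leaf 674)))
                    (.kill 47
                    (.drop 26
                    (.leaf 677)))))))))))))))))))))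
    (.kill 29
     (.drop 26
      (.kill 31
       (.drop 30
        (.scale [-2, -1, 0, 0]
         (.kill 34
          (.drop 33
           (.kill 36
            (.drop 35
             (.kill 38
              (.drop 36
               (.kill 40
                (.drop 39
                 (.kill 42
                  (.drop 41
                   (.kill 44
                    (.drop 43
                    (.scale [-2, -1, 0, 0]
                    (.kill 47
                    (.drop 46
                    (.leaf 678)))
                    (.kill 47
                    (.drop 46
                    (.leaf 680))))))))))))))))
         (.kill 34
          (.drop 33
           (.kill 36
            (.drop 35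
             (.kill 38
              (.drop 36
               (.kill 40
                (.drop 34
                 (.kill 42
                  (.drop 41
                   (.kill 44
                    (.drop 43
                    (.scale [-2, -3, -4, -2]
                    (.kill 47
                    (.drop 42
                    (.leaf 683)))
                    (.kill 47
                    (.drop 42
                    (.leaf 685)))))))))))))))))))))))))

end Cfsg.Agent.Lie.Chev
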