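import Cfsg.Agent.Lib.Lie.Chev.EvenInv.Main
import Cfsg.Agent.Lib.Lie.Chev.EvenInv.DataE7

/-! The certificates of type E7 checked. -/

set_option autoImplicit false
set_option maxRecDepth 20000

namespace Cfsg.Agent.Lie.Chev

open Cfsg.Lie

/-- The tables of type E7, checked to be simply laced. -/
def simplyE7 : Simply chevE7 where
  toCertFull := certFullE7
  diff := evenDiffE7
  simply := by decide +kernel

theorem checkOrthE7 : simplyE7.T.checkOrth evenOrthE7 = true := by decide +kernel

theorem checkTargetsE7 : simplyE7.T.checkTargets evenOrthE7 [34, 52, 62, 53, 63] = true := by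
  decide +kernel

end Cfsg.Agent.Lie.Chev
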