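import Cfsg.Agent.Lib.Lie.Chev.EvenInv.Main
import Cfsg.Agent.Lib.Lie.Chev.EvenInv.DataE8

/-! The certificates of type E8 checked. -/

set_option autoImplicit false
set_option maxRecDepth 20000

namespace Cfsg.Agent.Lie.Chev

open Cfsg.Lie

/-- The tables of type E8, checked to be simply laced. -/
def simplyE8 : Simply chevE8 where
  toCertFull := certFullE8
  diff := evenDiffE8
  simply := by decide +kernel

theorem checkOrthE8 : simplyE8.T.checkOrth evenOrthE8 = true := by decide +kernel

theorem checkTargetsE8 : simplyE8.T.checkTargets evenOrthE8 [58, 92, 110, 120] = true := by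
  decide +kernel

end Cfsg.Agent.Lie.Chev
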