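import Cfsg.Agent.Lib.Lie.Chev.EvenInv.SearchMain
import Cfsg.Agent.Lib.Lie.Chev.EvenInv.DataF4
import Cfsg.Agent.Lib.Lie.Chev.CertsFull

/-! The certificates of type F4 checked. -/

set_option autoImplicit false
set_option maxRecDepth 20000

namespace Cfsg.Agent.Lie.Chev

open Cfsg.Lie

/-- The coordinates of the short roots and of their coroots. -/
def evenMaskF4 : ℕ := 316536972114051

theorem checkSearchF4 :
    certFullF4.T.checkSearch evenWordsF4 evenTreeF4 [] certFullF4.T.h = true := by decide +kernel

theorem checkWordsF4 : certFullF4.T.checkWords 4 evenWordsF4 evenEdgesF4 = true := by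
  decide +kernel

theorem checkRepsF4 :
    certFullF4.T.checkReps evenMaskF4 4 evenWordsF4 [(16, 6), (16, 10), (21, 10), (24, 12)] =
      true := by
  decide +kernel

end Cfsg.Agent.Lie.Chev
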