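import Cfsg.Agent.Lib.Lie.Chev.InvolutionCheck

/-! The rank of `g - 1` for products of root elements, computed over the field of two elements on
bit vectors. -/

set_option autoImplicit false

namespace Cfsg.Agent.Lie.Chev

open Cfsg.Lie Matrix

namespace Tables

variable (T : Tables)

/-- The bits of the coordinates with an odd coefficient. -/
def bitsOf (f : ℕ → ℤ) : List ℕ → ℕ
  | [] => 0
  | i :: L => Nat.xor (bif isOdd (f i) then Nat.shiftLeft 1 i else 0) (bitsOf f L)

/-- The bits of the chain part of a column. -/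
def chainBits : List (ℕ × ℤ) → ℕ
  | [] => 0
  | (u, M) :: L =>
      Nat.xor (bif isOdd M then Nat.shiftLeft 1 (T.l + u) else 0) (chainBits L)

/-- A column of a root element over the field of two elements. -/
def colBits (r j : ℕ) : ℕ :=
  Nat.xor (Nat.shiftLeft 1 j)
    (bif Nat.blt j T.l then (bif isOdd (T.cartan j r) then Nat.shiftLeft 1 (T.l + r) else 0)
    else bif Nat.beq (j - T.l) r then 0
    else bif Nat.beq (j - T.l) (T.neg r) then
      Nat.xor (Nat.shiftLeft 1 (T.l + r)) (bitsOf (T.coroot r) (List.range T.l))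
    else T.chainBits (T.entry r (j - T.l)))

/-- Apply a matrix given by columns. -/
def applyBits (col : ℕ → ℕ) (v : ℕ) : List ℕ → ℕ
  | [] => 0
  | i :: L => Nat.xor (bif Nat.testBit v i then col i else 0) (applyBits col v L)

/-- A column of a product of root elements. -/
def wordBits (w : List ℕ) (j : ℕ) : ℕ :=
  w.foldr (fun r v => applyBits (T.colBits r) v (List.range T.dim)) (Nat.shiftLeft 1 j)

/-- Gaussian elimination on bit vectors of length `dim`. -/
def gauss : ℕ → List ℕ → ℕ
  | 0, _ => 0
  | _ + 1, [] => 0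
  | fuel + 1, v :: L =>
    match (List.range T.dim).find? (fun p => Nat.testBit v p) with
    | none => gauss fuel L
    | some p => gauss fuel (L.map fun w => bif Nat.testBit w p then Nat.xor w v else w) + 1

/-- The rank of a product of root elements minus one. -/
def rankBits (w : List ℕ) : ℕ :=
  T.gauss T.dim ((List.range T.dim).map fun j => Nat.xor (T.wordBits w j) (Nat.shiftLeft 1 j))

end Tables

namespace CertFull

variable {D : ChevalleyDatum} (c : CertFull D) (F : Type*) [Field F]

/-- The number of a coordinate. -/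
def enum : D.Idx → ℕ :=
  Sum.elim (fun j : Fin D.rank => (j : ℕ)) (fun u : Fin D.nroots => c.T.l + (u : ℕ))

/-- The vector of a bit pattern. -/
def bitVec (v : ℕ) : D.Idx → F := fun i => if Nat.testBit v (c.enum i) then 1 else 0

include c

theorem enum_lt (i : D.Idx) : c.enum i < c.T.dim := by
  have h1 := c.rank_eq
  have h2 := c.nroots_eq
  rcases i with j | u
  · have := j.isLt
    simp only [enum, Sum.elim_inl, Tables.dim]
    omega
  · have := u.isLt
    simp only [enum, Sum.elim_inr, Tables.dim]
    omega

theorem enum_inj {i j : D.Idx} (h : c.enum i = c.enum j) : i = j := by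
  have h1 := c.rank_eq
  rcases i with a | a <;> rcases j with b | b <;>
    simp only [enum, Sum.elim_inl, Sum.elim_inr] at h
  · exact congrArg _ (Fin.ext h)
  · have := a.isLt; omega
  · have := b.isLt; omega
  · exact congrArg _ (Fin.ext (by omega))

theorem exists_enum {p : ℕ} (hp : p < c.T.dim) : ∃ i, c.enum i = p := by
  have h1 := c.rank_eq
  have h2 := c.nroots_eq
  simp only [Tables.dim] at hp
  by_cases h : p < D.rank
  · exact ⟨Sum.inl ⟨p, h⟩, rfl⟩
  · exact ⟨Sum.inr ⟨p - c.T.l, by omega⟩, by simp [enum]; omega⟩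

theorem bitVec_zero : c.bitVec F 0 = 0 := by
  funext i; simp [bitVec]

omit c in
theorem testBit_one (i k : ℕ) : Nat.testBit (Nat.shiftLeft 1 i) k = decide (k = i) := by
  rw [Nat.shiftLeft_eq', Nat.shiftLeft_eq, one_mul, Nat.testBit_two_pow]
  simp [eq_comm]

theorem bitVec_hvec {i : ℕ} (hi : i < D.rank) :
    c.bitVec F (Nat.shiftLeft 1 i) = hvec D F i := by
  have h1 := c.rank_eq
  funext j
  rcases j with j | u <;> simp only [bitVec, testBit_one, enum, hvec, Sum.elim_inl, Sum.elim_inr]
  · simp
  · rw [if_neg]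
    simp only [decide_eq_true_eq]
    omega

theorem bitVec_evec (u : ℕ) : c.bitVec F (Nat.shiftLeft 1 (c.T.l + u)) = evec D F u := by
  have h1 := c.rank_eq
  funext j
  rcases j with j | s <;> simp only [bitVec, testBit_one, enum, evec, Sum.elim_inl, Sum.elim_inr]
  · have := j.isLt
    rw [if_neg]
    simp only [decide_eq_true_eq]
    omega
  · simp

theorem bitVec_single (j : D.Idx) :
    c.bitVec F (Nat.shiftLeft 1 (c.enum j)) = Pi.single j (1 : F) := by
  rcases j with i | s
  · rw [single_inl]; exact c.bitVec_hvec F i.isLt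
  · rw [single_inr]; exact c.bitVec_evec F s

variable [CharP F 2]

theorem bitVec_xor (a b : ℕ) :
    c.bitVec F (Nat.xor a b) = c.bitVec F a + c.bitVec F b := by
  funext i
  have e : Nat.testBit (Nat.xor a b) (c.enum i) =
      Bool.xor (Nat.testBit a (c.enum i)) (Nat.testBit b (c.enum i)) := Nat.testBit_xor a b _
  simp only [bitVec, e, Pi.add_apply]
  cases Nat.testBit a (c.enum i) <;> cases Nat.testBit b (c.enum i) <;>
    simp [CharTwo.add_self_eq_zero]

theorem bitVec_cond (z : ℤ) (x : ℕ) :
    c.bitVec F (bif isOdd z then x else 0) = (z : F) • c.bitVec F x := by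
  cases h : isOdd z
  · have h' : z % 2 = 0 := by
      by_contra h'
      rw [isOdd_iff.2 (by omega)] at h
      simp at h
    have e : z = 2 * (z / 2) := by omega
    rw [cond_false, c.bitVec_zero, e]
    push_cast
    rw [CharTwo.two_eq_zero, zero_mul, zero_smul]
  · have e : z = 2 * (z / 2) + 1 := by have := isOdd_iff.1 h; omega
    rw [cond_true, e]
    push_cast
    rw [CharTwo.two_eq_zero, zero_mul, zero_add, one_smul]

theorem bitVec_bitsOf (f : ℕ → ℤ) : ∀ L : List ℕ, (∀ i ∈ L, i < D.rank) →
    c.bitVec F (Tables.bitsOf f L) = (L.map fun i => (f i : F) • hvec D F i).sum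
  | [], _ => by simp [Tables.bitsOf, c.bitVec_zero]
  | i :: L, h => by
    obtain ⟨h1, h2⟩ := List.forall_mem_cons.1 h
    rw [Tables.bitsOf, c.bitVec_xor, c.bitVec_cond, c.bitVec_hvec F h1, bitVec_bitsOf f L h2]
    simp

theorem bitVec_chainBits : ∀ (L : List (ℕ × ℤ)) (j : ℕ),
    c.bitVec F (c.T.chainBits L) = chainVec D F (1 : F) j L
  | [], _ => by simp [Tables.chainBits, chainVec, c.bitVec_zero]
  | (u, M) :: L, j => by
    rw [Tables.chainBits, c.bitVec_xor, c.bitVec_cond, c.bitVec_evec, chainVec, one_pow, mul_one,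
      bitVec_chainBits L (j + 1)]

theorem colBits_spec {r : ℕ} (hr : r < D.nroots) (j : D.Idx) :
    D.x F r 1 *ᵥ Pi.single j 1 = c.bitVec F (c.T.colBits r (c.enum j)) := by
  have h1 := c.rank_eq
  unfold Tables.colBits
  rcases j with i | s
  · have hi : (i : ℕ) < c.T.l := by rw [← h1]; exact i.isLt
    rw [single_inl, c.x_hvec hr i.isLt, c.bitVec_xor]
    simp only [enum, Sum.elim_inl, show Nat.blt (i : ℕ) c.T.l = true by rw [Nat.blt_eq]; exact hi, cond_true, c.bitVec_hvec F i.isLt,
      c.bitVec_cond, c.bitVec_evec, mul_one]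
    rw [← c.cartan_eq i.isLt hr, sub_eq_add_neg, ← neg_smul, CharTwo.neg_eq]
  · have hb : Nat.blt (c.T.l + (s : ℕ)) c.T.l = false := by
      cases h : Nat.blt (c.T.l + (s : ℕ)) c.T.l
      · rfl
      · rw [Nat.blt_eq] at h; omega
    rw [single_inr, c.bitVec_xor]
    simp only [enum, Sum.elim_inr, hb, cond_false, Nat.add_sub_cancel_left, c.bitVec_evec]
    by_cases e1 : (s : ℕ) = r
    · rw [e1, c.x_evec_self hr, Nat.beq_refl, cond_true, c.bitVec_zero, add_zero]
    rw [show Nat.beq (s : ℕ) r = false by
      cases h : Nat.beq (s : ℕ) r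
      · rfl
      · rw [Nat.beq_eq] at h; exact absurd h e1, cond_false]
    by_cases e2 : (s : ℕ) = D.neg r
    · rw [e2, c.x_evec_neg hr, c.neg_eq hr, Nat.beq_refl, cond_true, c.bitVec_xor,
        c.bitVec_evec, c.bitVec_bitsOf F _ _ (fun i hi => by
          rw [h1]; exact List.mem_range.1 hi), c.hroot_eq_sum, ← h1, one_pow, one_smul, one_smul,
        ← List.sum_toFinset _ List.nodup_range, List.toFinset_range, sub_eq_add_neg]
      have : ∀ v : D.Idx → F, -v = v := fun v => funext fun k => CharTwo.neg_eq (v k)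
      rw [this]
      abel
    · rw [c.x_evec hr s.isLt e1 e2, show Nat.beq (s : ℕ) (c.T.neg r) = false by
        cases h : Nat.beq (s : ℕ) (c.T.neg r)
        · rfl
        · rw [Nat.beq_eq, ← c.neg_eq hr] at h; exact absurd h e2, cond_false,
        c.bitVec_chainBits F _ 1]

theorem mulVec_bitVec (M : Matrix D.Idx D.Idx F) (v : ℕ) :
    M *ᵥ c.bitVec F v =
      ∑ i : D.Idx, if Nat.testBit v (c.enum i) then M *ᵥ Pi.single i 1 else 0 := by
  conv_lhs => rw [show c.bitVec F v =
    ∑ i : D.Idx, if Nat.testBit v (c.enum i) then Pi.single i (1 : F) else 0 by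
      funext k
      rw [Finset.sum_apply, Finset.sum_eq_single k]
      · simp [bitVec]
        split_ifs <;> simp
      · intro b _ hb
        split_ifs <;> simp [Ne.symm hb]
      · simp]
  rw [Matrix.mulVec_sum]
  refine Finset.sum_congr rfl fun i _ => ?_
  split_ifs <;> simp

theorem bitVec_applyBits (col : ℕ → ℕ) (v : ℕ) : ∀ L : List ℕ,
    c.bitVec F (Tables.applyBits col v L) =
      (L.map fun i => if Nat.testBit v i then c.bitVec F (col i) else 0).sum
  | [] => by simp [Tables.applyBits, c.bitVec_zero]
  | i :: L => by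
    rw [Tables.applyBits, c.bitVec_xor, bitVec_applyBits col v L]
    cases h : Nat.testBit v i <;> simp [c.bitVec_zero, h]

theorem apply_spec {r : ℕ} (hr : r < D.nroots) (v : ℕ) :
    D.x F r 1 *ᵥ c.bitVec F v =
      c.bitVec F (Tables.applyBits (c.T.colBits r) v (List.range c.T.dim)) := by
  rw [c.bitVec_applyBits, c.mulVec_bitVec, ← List.sum_toFinset _ List.nodup_range,
    List.toFinset_range]
  refine Finset.sum_bij (fun i _ => c.enum i) (fun i _ => Finset.mem_range.2 (c.enum_lt i))
    (fun i _ j _ h => c.enum_inj h) (fun p hp => ?_) fun i _ => ?_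
  · obtain ⟨i, hi⟩ := c.exists_enum (Finset.mem_range.1 hp)
    exact ⟨i, Finset.mem_univ _, hi⟩
  · split_ifs
    · exact c.colBits_spec F hr i
    · rfl

theorem wordBits_spec : ∀ w : List ℕ, (∀ r ∈ w, r < D.nroots) → ∀ j : D.Idx,
    (((w.map fun r => c.xg r (1 : F)).prod : GL D.Idx F) : Matrix D.Idx D.Idx F) *ᵥ
      Pi.single j 1 = c.bitVec F (c.T.wordBits w (c.enum j))
  | [], _, j => by
    rw [List.map_nil, List.prod_nil, Units.val_one, Matrix.one_mulVec]
    exact (c.bitVec_single F j).symm
  | r :: w, h, j => by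
    obtain ⟨h1, h2⟩ := List.forall_mem_cons.1 h
    rw [List.map_cons, List.prod_cons, Units.val_mul, ← Matrix.mulVec_mulVec,
      wordBits_spec w h2 j, c.xg_val, c.apply_spec F h1]
    rfl

theorem gauss_spec : ∀ (fuel : ℕ) (L : List ℕ), L.length ≤ fuel →
    Module.finrank F (Submodule.span F {x | ∃ v ∈ L, c.bitVec F v = x}) = c.T.gauss fuel L := by
  intro fuel
  induction fuel with
  | zero =>
    intro L hL
    obtain rfl : L = [] := List.eq_nil_of_length_eq_zero (by omega)
    simp [Tables.gauss]
  | succ fuel ih =>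
    intro L hL
    rcases L with _ | ⟨v, L⟩
    · simp [Tables.gauss]
    rw [List.length_cons] at hL
    rw [Tables.gauss]
    rcases hf : (List.range c.T.dim).find? (fun p => Nat.testBit v p) with _ | p
    · have hv : c.bitVec F v = 0 := by
        funext i
        have := List.find?_eq_none.1 hf (c.enum i) (List.mem_range.2 (c.enum_lt i))
        simp only [bitVec, Pi.zero_apply, if_neg this]
      have e : {x | ∃ w ∈ v :: L, c.bitVec F w = x} =
          insert (0 : D.Idx → F) {x | ∃ w ∈ L, c.bitVec F w = x} := by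
        ext x; simp [hv, eq_comm]
      rw [e, Submodule.span_insert_zero]
      exact ih L (by omega)
    have hp := List.find?_some hf
    have hpd := List.mem_range.1 (List.mem_of_find?_eq_some hf)
    obtain ⟨i, hi⟩ := c.exists_enum hpd
    set L' := L.map fun w => bif Nat.testBit w p then Nat.xor w v else w with hL'
    set W := Submodule.span F {x | ∃ w ∈ L', c.bitVec F w = x} with hW
    have hWi : ∀ x ∈ W, x i = 0 := by
      intro x hx
      induction hx using Submodule.span_induction with
      | mem x hx =>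
        obtain ⟨w', hw', rfl⟩ := hx
        obtain ⟨w, -, rfl⟩ := List.mem_map.1 hw'
        simp only [bitVec, hi]
        cases hb : Nat.testBit w p
        · simp [hb]
        · simp only [cond_true]
          rw [if_neg]
          rw [show Nat.testBit (Nat.xor w v) p = Bool.xor (Nat.testBit w p) (Nat.testBit v p)
            from Nat.testBit_xor w v p, hb, hp]
          simp
      | zero => rfl
      | add x y _ _ h1 h2 => simp [h1, h2]
      | smul a x _ h1 => simp [h1]
    have hvi : c.bitVec F v i = 1 := by simp [bitVec, hi, hp]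
    have hspan : Submodule.span F {x | ∃ w ∈ v :: L, c.bitVec F w = x} =
        (F ∙ c.bitVec F v) ⊔ W := by
      have hvm : c.bitVec F v ∈ (F ∙ c.bitVec F v) ⊔ W :=
        Submodule.mem_sup_left (Submodule.mem_span_singleton_self _)
      refine le_antisymm (Submodule.span_le.2 ?_)
        (sup_le (Submodule.span_le.2 ?_) (Submodule.span_le.2 ?_))
      · rintro x ⟨w, hw, rfl⟩
        rcases List.mem_cons.1 hw with rfl | hw
        · exact hvm
        have h' : c.bitVec F (bif Nat.testBit w p then Nat.xor w v else w) ∈ W :=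
          Submodule.subset_span ⟨_, List.mem_map.2 ⟨w, hw, rfl⟩, rfl⟩
        cases hb : Nat.testBit w p <;> simp only [hb, cond_false, cond_true] at h'
        · exact Submodule.mem_sup_right h'
        · rw [c.bitVec_xor] at h'
          have e : c.bitVec F w = c.bitVec F w + c.bitVec F v + c.bitVec F v := by
            funext k
            simp [add_assoc, CharTwo.add_self_eq_zero]
          show c.bitVec F w ∈ _
          rw [e]
          exact add_mem (Submodule.mem_sup_right h') hvm
      · rintro x hx
        rw [Set.mem_singleton_iff.1 hx]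
        exact Submodule.subset_span ⟨v, by simp, rfl⟩
      · rintro x ⟨w', hw', rfl⟩
        obtain ⟨w, hw, rfl⟩ := List.mem_map.1 hw'
        cases hb : Nat.testBit w p
        · exact Submodule.subset_span ⟨w, by simp [hw], rfl⟩
        · rw [cond_true, c.bitVec_xor]
          exact add_mem (Submodule.subset_span ⟨w, by simp [hw], rfl⟩)
            (Submodule.subset_span ⟨v, by simp, rfl⟩)
    have hdis : Disjoint (F ∙ c.bitVec F v) W := by
      rw [Submodule.disjoint_def]
      intro x hx hxW
      obtain ⟨a, rfl⟩ := Submodule.mem_span_singleton.1 hx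
      have := hWi _ hxW
      rw [Pi.smul_apply, hvi, smul_eq_mul, mul_one] at this
      rw [this, zero_smul]
    have hsum := Submodule.finrank_sup_add_finrank_inf_eq (F ∙ c.bitVec F v) W
    rw [disjoint_iff.1 hdis, finrank_bot, add_zero, finrank_span_singleton (fun h => by
      rw [h] at hvi; exact one_ne_zero hvi.symm)] at hsum
    rw [hspan, hsum, hW, ih L' (by rw [hL', List.length_map]; omega)]
    simp only [hL']
    omega

/-- The rank of a product of root elements minus one. -/
theorem rank_word (w : List ℕ) (hw : ∀ r ∈ w, r < D.nroots) :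
    ((((w.map fun r => c.xg r (1 : F)).prod : GL D.Idx F) : Matrix D.Idx D.Idx F) - 1).rank =
      c.T.rankBits w := by
  rw [Matrix.rank_eq_finrank_span_cols, Tables.rankBits, ← c.gauss_spec F _ _ (by simp)]
  refine congrArg (fun S : Set (D.Idx → F) => Module.finrank F (Submodule.span F S)) ?_
  · ext x
    constructor
    · rintro ⟨j, rfl⟩
      refine ⟨_, List.mem_map.2 ⟨c.enum j, List.mem_range.2 (c.enum_lt j), rfl⟩, ?_⟩
      rw [c.bitVec_xor, c.bitVec_single, ← c.wordBits_spec F w hw, ← Matrix.mulVec_single_one,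
        Matrix.sub_mulVec, Matrix.one_mulVec, sub_eq_add_neg]
      congr 1
      funext k
      exact (CharTwo.neg_eq _).symm
    · rintro ⟨v, hv, rfl⟩
      obtain ⟨p, hp, rfl⟩ := List.mem_map.1 hv
      obtain ⟨j, rfl⟩ := c.exists_enum (List.mem_range.1 hp)
      refine ⟨j, ?_⟩
      rw [c.bitVec_xor, c.bitVec_single, ← c.wordBits_spec F w hw, ← Matrix.mulVec_single_one,
        Matrix.sub_mulVec, Matrix.one_mulVec, sub_eq_add_neg]
      congr 1
      funext k
      exact CharTwo.neg_eq _

omit [CharP F 2] c in
/-- Conjugates have the same rank. -/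
theorem rank_sub_one_conj {n : Type*} [Fintype n] [DecidableEq n] (x g : GL n F) :
    (((x * g * x⁻¹ : GL n F) : Matrix n n F) - 1).rank = ((g : Matrix n n F) - 1).rank := by
  have key : ∀ x g : GL n F,
      (((x * g * x⁻¹ : GL n F) : Matrix n n F) - 1).rank ≤ ((g : Matrix n n F) - 1).rank := by
    intro x g
    have e : ((x * g * x⁻¹ : GL n F) : Matrix n n F) - 1 =
        (x : Matrix n n F) * ((g : Matrix n n F) - 1) * ((x⁻¹ : GL n F) : Matrix n n F) := by
      rw [mul_sub, sub_mul, mul_one, ← Units.val_mul, ← Units.val_mul, ← Units.val_mul,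
        mul_inv_cancel, Units.val_one]
    rw [e]
    exact (Matrix.rank_mul_le_left _ _).trans (Matrix.rank_mul_le_right _ _)
  refine le_antisymm (key x g) ?_
  have := key x⁻¹ (x * g * x⁻¹)
  rwa [show x⁻¹ * (x * g * x⁻¹) * x⁻¹⁻¹ = g by group] at this

end CertFull

end Cfsg.Agent.Lie.Chev
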