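import Cfsg.Agent.Lib.Lie.Chev.EvenInv.Classify
import Cfsg.Agent.Lib.Lie.Chev.EvenInv.Rank

/-! The classes of involutions of a simply laced group in characteristic two. -/

set_option autoImplicit false

namespace Cfsg.Agent.Lie.Chev

open Cfsg.Lie

namespace Tables

variable (T : Tables)

/-- The targets are sets of orthogonal roots with the given ranks. -/
def checkTargets (d : OrthData) (rks : List ℕ) : Bool :=
  Nat.beq d.targets.length rks.length &&
    (List.range d.targets.length).all fun i =>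
      T.orthSet (d.targets.getD i []) && !(Nat.beq (rks.getD i 0) 0) &&
        Nat.beq (T.rankBits (d.targets.getD i [])) (rks.getD i 0) &&
        (List.range d.targets.length).all fun j =>
          Nat.beq i j || !(Nat.beq (rks.getD i 0) (rks.getD j 0))

end Tables

namespace Simply

variable {D : ChevalleyDatum} (c : Simply D) (F : Type*) [Field F] [CharP F 2]

/-- The representative of a class. -/
def rep (d : OrthData) (i : ℕ) : GL D.Idx F := c.prod1 F (d.targets.getD i [])

variable {F} {d : OrthData} {rks : List ℕ} (ht : c.T.checkTargets d rks = true)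
include c ht

theorem target_spec {i : ℕ} (hi : i < d.targets.length) :
    (∀ r ∈ d.targets.getD i [], c.Pos r) ∧ (d.targets.getD i []).Pairwise c.Perp ∧
      rks.getD i 0 ≠ 0 ∧ c.T.rankBits (d.targets.getD i []) = rks.getD i 0 ∧
      ∀ j < d.targets.length, i ≠ j → rks.getD i 0 ≠ rks.getD j 0 := by
  simp only [Tables.checkTargets, Bool.and_eq_true, List.all_eq_true, List.mem_range,
    Nat.beq_eq, Bool.or_eq_true, Bool.not_eq_true'] at ht
  obtain ⟨⟨⟨h1, h2⟩, h3⟩, h4⟩ := ht.2 i hi
  obtain ⟨p1, p2⟩ := c.orthSet_spec h1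
  refine ⟨p1, p2, fun e => ?_, h3, fun j hj hne e => ?_⟩
  · rw [e] at h2; simp at h2
  · have := (h4 j hj).resolve_left hne
    rw [e] at this; simp at this

theorem rep_mem {i : ℕ} (hi : i < d.targets.length) : c.rep F d i ∈ D.group F := by
  refine list_prod_mem fun g hg => ?_
  obtain ⟨r, hr, rfl⟩ := List.mem_map.1 hg
  exact c.xg_mem_group ((c.target_spec ht hi).1 r hr).2 _

theorem rank_rep {i : ℕ} (hi : i < d.targets.length) :
    ((c.rep F d i : Matrix D.Idx D.Idx F) - 1).rank = rks.getD i 0 := by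
  obtain ⟨h1, -, -, h4, -⟩ := c.target_spec ht hi
  rw [← h4]
  exact c.rank_word F _ fun r hr => (h1 r hr).2

theorem orderOf_rep {i : ℕ} (hi : i < d.targets.length) : orderOf (c.rep F d i) = 2 := by
  obtain ⟨h1, h2, h3, -, -⟩ := c.target_spec ht hi
  refine orderOf_eq_prime ?_ fun e => h3 ?_
  · have key : ∀ L : List ℕ, L.Pairwise c.Perp → c.prod1 F L * c.prod1 F L = 1 := by
      intro L hL
      induction L with
      | nil => simp [prod1]
      | cons r L ih =>
        obtain ⟨hr, hL⟩ := List.pairwise_cons.1 hL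
        have hc : Commute (c.prod1 F L) (c.xg r (1 : F)) := by
          refine Commute.list_prod_left _ _ fun x hx => ?_
          obtain ⟨s, hs, rfl⟩ := List.mem_map.1 hx
          exact (Perp.commute c (hr s hs) 1 1).1.symm
        simp only [prod1, List.map_cons, List.prod_cons] at hc ih ⊢
        rw [mul_assoc, ← mul_assoc (List.prod _) (c.xg r (1 : F)), hc.eq, mul_assoc, ih hL,
          mul_one, c.xg_mul_self]
    rw [pow_two]
    exact key _ h2
  · rw [← c.rank_rep (F := F) ht hi, e, Units.val_one, sub_self, Matrix.rank_zero]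

theorem rep_not_conj {i j : ℕ} (hi : i < d.targets.length) (hj : j < d.targets.length)
    (hne : i ≠ j) : ¬ GConj D F (c.rep F d i) (c.rep F d j) := by
  rintro ⟨x, -, e⟩
  refine (c.target_spec ht hi).2.2.2.2 j hj hne ?_
  rw [← c.rank_rep (F := F) ht hi, ← c.rank_rep (F := F) ht hj, ← e,
    CertFull.rank_sub_one_conj]

theorem rep_inj {i j : ℕ} (hi : i < d.targets.length) (hj : j < d.targets.length)
    (h : GConj D F (c.rep F d i) (c.rep F d j)) : i = j :=
  by_contra fun hne => c.rep_not_conj ht hi hj hne h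

/-- The number of classes of involutions. -/
theorem ncard_involution_classes [Fintype F] (hd : c.T.checkOrth d = true) :
    (ConjClasses.mk '' {g : ↥(D.group F) | orderOf g = 2}).ncard = d.targets.length := by
  let f : Fin d.targets.length → ConjClasses ↥(D.group F) :=
    fun i => ConjClasses.mk ⟨c.rep F d i, c.rep_mem ht i.2⟩
  have hf : Function.Injective f := fun i j h => by
    obtain ⟨x, hx⟩ := isConj_iff.1 (ConjClasses.mk_eq_mk_iff_isConj.1 h)
    exact Fin.ext (c.rep_inj (F := F) ht i.2 j.2 ⟨x, x.2, congrArg Subtype.val hx⟩)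
  rw [show ConjClasses.mk '' {g : ↥(D.group F) | orderOf g = 2} = Set.range f from ?_,
    Set.ncard_range_of_injective hf, Nat.card_eq_fintype_card, Fintype.card_fin]
  ext C
  constructor
  · rintro ⟨g, hg, rfl⟩
    obtain ⟨j, hj, x, hx, e⟩ := c.involution_target hd g.2 (by
      rw [Subgroup.orderOf_coe]; exact hg)
    exact ⟨⟨j, hj⟩, (ConjClasses.mk_eq_mk_iff_isConj.2
      (isConj_iff.2 ⟨⟨x, hx⟩, Subtype.ext e⟩)).symm⟩
  · rintro ⟨i, rfl⟩
    exact ⟨_, by
      show orderOf _ = 2
      rw [← Subgroup.orderOf_coe]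
      exact c.orderOf_rep (F := F) ht i.2, rfl⟩

/-- The three clauses on a list of matrices. -/
theorem classes_list [Fintype F] (hd : c.T.checkOrth d = true)
    {L : List (Matrix D.Idx D.Idx F)}
    (hL : L = (List.range d.targets.length).map fun i => ((c.rep F d i : GL D.Idx F) : Matrix _ _ F)) :
    (∀ y : GL D.Idx F, (y : Matrix D.Idx D.Idx F) ∈ L → y ∈ D.group F ∧ orderOf y = 2) ∧
    (∀ g ∈ D.group F, orderOf g = 2 → ∃ y ∈ D.group F, (y : Matrix D.Idx D.Idx F) ∈ L ∧
      ∃ h ∈ D.group F, h * g * h⁻¹ = y) ∧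
    (∀ y₁ ∈ D.group F, ∀ y₂ ∈ D.group F, (y₁ : Matrix D.Idx D.Idx F) ∈ L →
      (y₂ : Matrix D.Idx D.Idx F) ∈ L → (∃ h ∈ D.group F, h * y₁ * h⁻¹ = y₂) →
      (y₁ : Matrix D.Idx D.Idx F) = (y₂ : Matrix D.Idx D.Idx F)) := by
  subst hL
  have get : ∀ y : GL D.Idx F, (y : Matrix D.Idx D.Idx F) ∈
      ((List.range d.targets.length).map fun i => ((c.rep F d i : GL D.Idx F) : Matrix _ _ F)) →
      ∃ i < d.targets.length, y = c.rep F d i := fun y hy => by
    obtain ⟨i, hi, e⟩ := List.mem_map.1 hy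
    exact ⟨i, List.mem_range.1 hi, Units.ext e.symm⟩
  refine ⟨fun y hy => ?_, fun g hg ho => ?_, fun y₁ _ y₂ _ h1 h2 h => ?_⟩
  · obtain ⟨i, hi, rfl⟩ := get y hy
    exact ⟨c.rep_mem ht hi, c.orderOf_rep ht hi⟩
  · obtain ⟨j, hj, h⟩ := c.involution_target hd hg ho
    exact ⟨_, c.rep_mem ht hj, List.mem_map.2 ⟨j, List.mem_range.2 hj, rfl⟩, h⟩
  · obtain ⟨i, hi, rfl⟩ := get y₁ h1
    obtain ⟨j, hj, rfl⟩ := get y₂ h2
    rw [c.rep_inj ht hi hj h]

end Simply

end Cfsg.Agent.Lie.Chev
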