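import Cfsg.Agent.Lib.Lie.Chev.EvenInv.Rank

/-! The rank of `g - 1` on a coordinate subspace that the group keeps in characteristic two. -/

set_option autoImplicit false

namespace Cfsg.Agent.Lie.Chev

open Cfsg.Lie Matrix

namespace Tables

variable (T : Tables)

/-- A root element keeps the coordinates in a mask. -/
def maskCol (M r j : ℕ) : Bool :=
  bif Nat.blt j T.l then !(isOdd (T.cartan j r)) || Nat.testBit M (T.l + r)
  else bif Nat.beq (j - T.l) r then true
  else bif Nat.beq (j - T.l) (T.neg r) then
    Nat.testBit M (T.l + r) &&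
      (List.range T.l).all fun i => !(isOdd (T.coroot r i)) || Nat.testBit M i
  else (T.entry r (j - T.l)).all fun p => !(isOdd p.2) || Nat.testBit M (T.l + p.1)

/-- All root elements keep the coordinates in a mask. -/
def checkMask (M : ℕ) : Bool :=
  (List.range T.n).all fun r => (List.range T.dim).all fun j =>
    !(Nat.testBit M j) || T.maskCol M r j

/-- The rank of a product of root elements minus one on the coordinates in a mask. -/
def rankBitsOn (M : ℕ) (w : List ℕ) : ℕ :=
  T.gauss T.dim (((List.range T.dim).filter fun j => Nat.testBit M j).map fun j =>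
    Nat.xor (T.wordBits w j) (Nat.shiftLeft 1 j))

end Tables

namespace CertFull

variable {D : ChevalleyDatum} (c : CertFull D) (F : Type*) [Field F] (M : ℕ)

/-- The vectors supported on a mask. -/
def maskSub : Submodule F (D.Idx → F) where
  carrier := {v | ∀ i, Nat.testBit M (c.enum i) = false → v i = 0}
  add_mem' hv hw i hi := by simp [hv i hi, hw i hi]
  zero_mem' i _ := rfl
  smul_mem' a v hv i hi := by simp [hv i hi]

/-- The projection to the mask. -/
def maskMat : Matrix D.Idx D.Idx F :=
  Matrix.diagonal fun i => if Nat.testBit M (c.enum i) then 1 else 0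

include c

theorem evec_mem_maskSub {u : ℕ} (h : Nat.testBit M (c.T.l + u) = true) :
    evec D F u ∈ c.maskSub F M := by
  intro i hi
  rcases i with k | s
  · simp [evec]
  · have hne : (s : ℕ) ≠ u := fun e => by
      simp only [enum, Sum.elim_inr, e] at hi
      rw [h] at hi; simp at hi
    simp [evec, hne]

theorem hvec_mem_maskSub {k : ℕ} (hk : k < D.rank) (h : Nat.testBit M k = true) :
    hvec D F k ∈ c.maskSub F M := by
  intro i hi
  rcases i with j | s
  · have hne : (j : ℕ) ≠ k := fun e => by
      simp only [enum, Sum.elim_inl, e] at hi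
      rw [h] at hi; simp at hi
    simp [hvec, hne]
  · simp [hvec]

variable [CharP F 2]

omit c [CharP F 2] in
theorem not_odd_zero [CharP F 2] {z : ℤ} (h : isOdd z = false) : (z : F) = 0 := by
  have h' : z % 2 = 0 := by
    by_contra h'
    rw [isOdd_iff.2 (by omega)] at h
    simp at h
  rw [show z = 2 * (z / 2) by omega]
  push_cast
  rw [CharTwo.two_eq_zero, zero_mul]

variable (t : F)

theorem x_single_mem (hM : c.T.checkMask M = true) {r : ℕ} (hr : r < D.nroots) (j : D.Idx)
    (hj : Nat.testBit M (c.enum j) = true) :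
    D.x F r t *ᵥ Pi.single j 1 ∈ c.maskSub F M := by
  simp only [Tables.checkMask, List.all_eq_true, List.mem_range, Bool.or_eq_true,
    Bool.not_eq_true'] at hM
  have h := (hM r (c.nroots_eq ▸ hr) (c.enum j) (c.enum_lt j)).resolve_left (by simp [hj])
  have h1 := c.rank_eq
  unfold Tables.maskCol at h
  rcases j with i | s
  · have hi : (i : ℕ) < c.T.l := by rw [← h1]; exact i.isLt
    simp only [enum, Sum.elim_inl, show Nat.blt (i : ℕ) c.T.l = true by rw [Nat.blt_eq]; exact hi,
      cond_true, Bool.or_eq_true, Bool.not_eq_true'] at h hj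
    rw [single_inl, c.x_hvec hr i.isLt]
    refine Submodule.sub_mem _ (c.hvec_mem_maskSub F M i.isLt hj) ?_
    rw [c.cartan_eq i.isLt hr]
    rcases h with h | h
    · simp [not_odd_zero F h]
    · exact Submodule.smul_mem _ _ (c.evec_mem_maskSub F M h)
  · have hb : Nat.blt (c.T.l + (s : ℕ)) c.T.l = false := by
      cases h : Nat.blt (c.T.l + (s : ℕ)) c.T.l
      · rfl
      · rw [Nat.blt_eq] at h; omega
    simp only [enum, Sum.elim_inr, hb, cond_false, Nat.add_sub_cancel_left] at h hj
    rw [single_inr]
    have hs := c.evec_mem_maskSub F M hj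
    by_cases e1 : (s : ℕ) = r
    · rw [e1] at hs ⊢
      rw [c.x_evec_self hr]
      exact hs
    rw [show Nat.beq (s : ℕ) r = false by
      cases h : Nat.beq (s : ℕ) r
      · rfl
      · rw [Nat.beq_eq] at h; exact absurd h e1, cond_false] at h
    by_cases e2 : (s : ℕ) = D.neg r
    · rw [e2, c.neg_eq hr, Nat.beq_refl, cond_true] at h
      simp only [Bool.and_eq_true, List.all_eq_true, List.mem_range, Bool.or_eq_true,
        Bool.not_eq_true'] at h
      rw [e2] at hs ⊢
      rw [c.x_evec_neg hr]
      refine Submodule.sub_mem _ (Submodule.add_mem _ hs (Submodule.smul_mem _ _ ?_))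
        (Submodule.smul_mem _ _ (c.evec_mem_maskSub F M h.1))
      rw [c.hroot_eq_sum]
      refine Submodule.sum_mem _ fun i hi => ?_
      have hi' := Finset.mem_range.1 hi
      rcases h.2 i (by omega) with h' | h'
      · simp [not_odd_zero F h']
      · exact Submodule.smul_mem _ _ (c.hvec_mem_maskSub F M (by omega) h')
    · rw [show Nat.beq (s : ℕ) (c.T.neg r) = false by
        cases h : Nat.beq (s : ℕ) (c.T.neg r)
        · rfl
        · rw [Nat.beq_eq, ← c.neg_eq hr] at h; exact absurd h e2, cond_false] at h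
      rw [c.x_evec hr s.isLt e1 e2]
      refine Submodule.add_mem _ hs ?_
      simp only [List.all_eq_true, Bool.or_eq_true, Bool.not_eq_true'] at h
      have key : ∀ (L : List (ℕ × ℤ)) (n : ℕ),
          (∀ p ∈ L, isOdd p.2 = false ∨ Nat.testBit M (c.T.l + p.1) = true) →
          chainVec D F t n L ∈ c.maskSub F M := by
        intro L
        induction L with
        | nil => exact fun n _ => by simp [chainVec]
        | cons p L ih =>
          intro n hL
          obtain ⟨u, m⟩ := p
          obtain ⟨hp, hL⟩ := List.forall_mem_cons.1 hL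
          rw [chainVec]
          refine Submodule.add_mem _ ?_ (ih _ hL)
          rcases hp with hp | hp
          · simp [not_odd_zero F hp]
          · exact Submodule.smul_mem _ _ (c.evec_mem_maskSub F M hp)
      exact key _ _ h

omit t
variable {F} {M}

theorem group_mul_maskMat (hM : c.T.checkMask M = true) {h : GL D.Idx F} (hh : h ∈ D.group F) :
    c.maskMat F M * (h : Matrix D.Idx D.Idx F) * c.maskMat F M =
      (h : Matrix D.Idx D.Idx F) * c.maskMat F M := by
  have key : ∀ r < D.nroots, ∀ t : F, c.maskMat F M * D.x F r t * c.maskMat F M =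
      D.x F r t * c.maskMat F M := by
    intro r hr t
    ext i j
    simp only [maskMat, Matrix.mul_diagonal, Matrix.diagonal_mul]
    by_cases hj : Nat.testBit M (c.enum j) = true
    · by_cases hi : Nat.testBit M (c.enum i) = true
      · simp [hi, hj]
      have := c.x_single_mem F M t hM hr j hj i (by simpa using hi)
      rw [Matrix.mulVec_single_one] at this
      simp [hi, hj, show D.x F r t i j = 0 from this]
    · simp [hj]
  rw [c.group_eq] at hh
  suffices c.maskMat F M * (h : Matrix D.Idx D.Idx F) * c.maskMat F M =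
      (h : Matrix D.Idx D.Idx F) * c.maskMat F M ∧
    c.maskMat F M * ((h⁻¹ : GL D.Idx F) : Matrix D.Idx D.Idx F) * c.maskMat F M =
      ((h⁻¹ : GL D.Idx F) : Matrix D.Idx D.Idx F) * c.maskMat F M from this.1
  have mulc : ∀ a b : Matrix D.Idx D.Idx F,
      c.maskMat F M * a * c.maskMat F M = a * c.maskMat F M →
      c.maskMat F M * b * c.maskMat F M = b * c.maskMat F M →
      c.maskMat F M * (a * b) * c.maskMat F M = a * b * c.maskMat F M := by
    intro a b ha hb
    generalize c.maskMat F M = P at ha hb ⊢
    calc P * (a * b) * P = P * a * (b * P) := by simp only [mul_assoc]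
      _ = P * a * (P * b * P) := by rw [hb]
      _ = P * a * P * (b * P) := by simp only [mul_assoc]
      _ = a * P * (b * P) := by rw [ha]
      _ = a * (P * b * P) := by simp only [mul_assoc]
      _ = a * b * P := by rw [hb, mul_assoc]
  induction hh using Subgroup.closure_induction with
  | mem h hh =>
    obtain ⟨r, hr, t, rfl⟩ := hh
    rw [c.xg_inv, c.xg_val, c.xg_val]
    exact ⟨key r hr t, key r hr _⟩
  | one =>
    have : c.maskMat F M * c.maskMat F M = c.maskMat F M := by
      rw [maskMat, Matrix.diagonal_mul_diagonal]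
      congr 1
      funext i
      split_ifs <;> simp
    simp [this]
  | mul a b _ _ ha hb =>
    simp only [_root_.mul_inv_rev, Units.val_mul]
    exact ⟨mulc _ _ ha.1 hb.1, mulc _ _ hb.2 ha.2⟩
  | inv a _ ha =>
    rw [inv_inv]
    exact ⟨ha.2, ha.1⟩

theorem rankOn_conj (hM : c.T.checkMask M = true) {x : GL D.Idx F} (hx : x ∈ D.group F)
    (g : GL D.Idx F) :
    ((((x * g * x⁻¹ : GL D.Idx F) : Matrix D.Idx D.Idx F) - 1) * c.maskMat F M).rank =
      (((g : Matrix D.Idx D.Idx F) - 1) * c.maskMat F M).rank := by
  have key : ∀ y ∈ D.group F, ∀ g : GL D.Idx F,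
      ((((y * g * y⁻¹ : GL D.Idx F) : Matrix D.Idx D.Idx F) - 1) * c.maskMat F M).rank ≤
        (((g : Matrix D.Idx D.Idx F) - 1) * c.maskMat F M).rank := by
    intro y hy g
    have e : (((y * g * y⁻¹ : GL D.Idx F) : Matrix D.Idx D.Idx F) - 1) * c.maskMat F M =
        (y : Matrix D.Idx D.Idx F) * (((g : Matrix D.Idx D.Idx F) - 1) * c.maskMat F M) *
          (((y⁻¹ : GL D.Idx F) : Matrix D.Idx D.Idx F) * c.maskMat F M) := by
      rw [show (((y * g * y⁻¹ : GL D.Idx F) : Matrix D.Idx D.Idx F) - 1) =
          (y : Matrix D.Idx D.Idx F) * ((g : Matrix D.Idx D.Idx F) - 1) *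
            ((y⁻¹ : GL D.Idx F) : Matrix D.Idx D.Idx F) by
        rw [mul_sub, sub_mul, mul_one, ← Units.val_mul, ← Units.val_mul, ← Units.val_mul,
          mul_inv_cancel, Units.val_one]]
      conv_lhs => rw [mul_assoc, ← c.group_mul_maskMat hM (inv_mem hy)]
      simp only [mul_assoc]
    rw [e]
    exact (Matrix.rank_mul_le_left _ _).trans (Matrix.rank_mul_le_right _ _)
  refine le_antisymm (key x hx g) ?_
  have h := key x⁻¹ (inv_mem hx) (x * g * x⁻¹)
  rwa [show x⁻¹ * (x * g * x⁻¹) * x⁻¹⁻¹ = g by group] at h

/-- The rank of a product of root elements minus one on a mask. -/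
theorem rankOn_word (w : List ℕ) (hw : ∀ r ∈ w, r < D.nroots) :
    (((((w.map fun r => c.xg r (1 : F)).prod : GL D.Idx F) : Matrix D.Idx D.Idx F) - 1) *
      c.maskMat F M).rank = c.T.rankBitsOn M w := by
  have hlen : (((List.range c.T.dim).filter fun j => Nat.testBit M j).map fun j =>
      Nat.xor (c.T.wordBits w j) (Nat.shiftLeft 1 j)).length ≤ c.T.dim := by
    rw [List.length_map]
    exact (List.length_filter_le _ _).trans (by simp)
  rw [Matrix.rank_eq_finrank_span_cols, Tables.rankBitsOn, ← c.gauss_spec F _ _ hlen]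
  refine congrArg (fun S : Submodule F (D.Idx → F) => Module.finrank F S) ?_
  have col : ∀ j, ((((w.map fun r => c.xg r (1 : F)).prod : GL D.Idx F) :
      Matrix D.Idx D.Idx F) - 1) *ᵥ Pi.single j 1 =
      c.bitVec F (Nat.xor (c.T.wordBits w (c.enum j)) (Nat.shiftLeft 1 (c.enum j))) := by
    intro j
    rw [c.bitVec_xor, c.bitVec_single, ← c.wordBits_spec F w hw, Matrix.sub_mulVec,
      Matrix.one_mulVec, sub_eq_add_neg]
    congr 1
    funext k
    exact CharTwo.neg_eq _
  refine le_antisymm (Submodule.span_le.2 ?_) (Submodule.span_le.2 ?_)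
  · rintro x ⟨j, rfl⟩
    by_cases hj : Nat.testBit M (c.enum j) = true
    · refine Submodule.subset_span ⟨_, List.mem_map.2 ⟨c.enum j,
        List.mem_filter.2 ⟨List.mem_range.2 (c.enum_lt j), hj⟩, rfl⟩, ?_⟩
      rw [← col]
      funext i
      simp [maskMat, Matrix.mul_diagonal, hj, Matrix.mulVec_single_one]
    · refine (SetLike.mem_coe).2 ?_
      convert Submodule.zero_mem _
      funext i
      simp [maskMat, Matrix.mul_diagonal, hj, Matrix.col]
  · rintro x ⟨v, hv, rfl⟩
    obtain ⟨p, hp, rfl⟩ := List.mem_map.1 hv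
    obtain ⟨hp1, hp2⟩ := List.mem_filter.1 hp
    obtain ⟨j, rfl⟩ := c.exists_enum (List.mem_range.1 hp1)
    refine Submodule.subset_span ⟨j, ?_⟩
    rw [← col]
    funext i
    simp [maskMat, Matrix.mul_diagonal, hp2, Matrix.mulVec_single_one]

end CertFull

end Cfsg.Agent.Lie.Chev
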