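import Cfsg.Agent.Lib.Lie.Chev.EvenInv.Check

/-! In a simply laced group in characteristic two every involution of the unipotent subgroup is
conjugate to a product of root elements of pairwise orthogonal roots. -/

set_option autoImplicit false

namespace Cfsg.Agent.Lie.Chev.Simply

open Cfsg.Lie

variable {D : ChevalleyDatum} (c : Simply D) (F : Type*) [Field F]

/-- The subgroup of the positive root subgroups with a given property. -/
def Sub (P : ℕ → Prop) : Subgroup (GL D.Idx F) :=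
  Subgroup.closure {g | ∃ (r : ℕ) (t : F), c.Pos r ∧ P r ∧ g = c.xg r t}

/-- Closed under sums. -/
def SumClosed (P : ℕ → Prop) : Prop :=
  ∀ r s k, c.Pos r → c.Pos s → P r → P s → c.T.pairing r s = -1 → c.Sum r s k → P k

/-- Closed under differences. -/
def DiffClosed (P : ℕ → Prop) : Prop :=
  ∀ r t s, c.Pos r → c.Pos t → c.Pos s → P r → P s → c.T.pairing r t = -1 → c.Sum r t s → P t

variable {F}

include c

theorem mem_Sub {P : ℕ → Prop} {r : ℕ} (hr : c.Pos r) (hP : P r) (t : F) :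
    c.xg r t ∈ c.Sub F P :=
  Subgroup.subset_closure ⟨r, t, hr, hP, rfl⟩

theorem Sub_mono {P Q : ℕ → Prop} (h : ∀ r, c.Pos r → P r → Q r) : c.Sub F P ≤ c.Sub F Q :=
  Subgroup.closure_mono fun _ ⟨r, t, h1, h2, e⟩ => ⟨r, t, h1, h r h1 h2, e⟩

theorem Sub_le_K {P : ℕ → Prop} {m : ℕ} (h : ∀ r, c.Pos r → P r → m ≤ r) :
    c.Sub F P ≤ c.K F m :=
  Subgroup.closure_mono fun _ ⟨r, t, h1, h2, e⟩ => ⟨r, t, h1, h r h1 h2, e⟩

theorem Sub_le_group (P : ℕ → Prop) : c.Sub F P ≤ D.group F :=
  (Subgroup.closure_le _).2 fun _ ⟨r, t, h1, _, e⟩ => e ▸ c.xg_mem_group h1.2 t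

theorem Sub_eq_bot {P : ℕ → Prop} (h : ∀ r, c.Pos r → ¬P r) : c.Sub F P = ⊥ := by
  rw [eq_bot_iff, Sub, Subgroup.closure_le]
  rintro g ⟨r, t, h1, h2, rfl⟩
  exact absurd h2 (h r h1)

variable [CharP F 2]

theorem conj_mem {P : ℕ → Prop} {r : ℕ} (hr : c.Pos r)
    (h : ∀ q k, c.Pos q → P q → c.T.pairing q r = -1 → c.Sum q r k → P k) (t : F)
    {g : GL D.Idx F} (hg : g ∈ c.Sub F P) : c.xg r t * g * c.xg r t ∈ c.Sub F P := by
  induction hg using Subgroup.closure_induction with
  | mem g hg =>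
    obtain ⟨q, u, hq, hP, rfl⟩ := hg
    by_cases hp : c.T.pairing q r = -1
    · obtain ⟨k, hk, e⟩ := c.conj_sum (F := F) hq hr hp
      rw [e]
      exact mul_mem (c.mem_Sub hq hP u) (c.mem_Sub hk.1 (h q k hq hP hp hk) _)
    · rw [mul_assoc, (c.commute_of_pairing hq hr hp u t).eq, ← mul_assoc, c.xg_mul_self, one_mul]
      exact c.mem_Sub hq hP u
  | one => rw [mul_one, c.xg_mul_self]; exact one_mem _
  | mul a b _ _ ha hb =>
    have e : c.xg r t * (a * b) * c.xg r t =
        c.xg r t * a * c.xg r t * (c.xg r t * b * c.xg r t) := by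
      simp only [mul_assoc, ← mul_assoc (c.xg r t) (c.xg r t), c.xg_mul_self, one_mul]
    rw [e]; exact mul_mem ha hb
  | inv a _ ha =>
    have e : c.xg r t * a⁻¹ * c.xg r t = (c.xg r t * a * c.xg r t)⁻¹ := by
      simp only [_root_.mul_inv_rev, c.xg_inv_self, mul_assoc]
    rw [e]; exact inv_mem ha

/-- An element of a closed subgroup starts with its lowest root. -/
theorem exists_split {P : ℕ → Prop} (hP : c.SumClosed P) {m : ℕ} (hm : c.Pos m)
    {g : GL D.Idx F} (hg : g ∈ c.Sub F (fun q => P q ∧ m ≤ q)) :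
    ∃ (a : F) (h : GL D.Idx F), h ∈ c.Sub F (fun q => P q ∧ m < q) ∧ g = c.xg m a * h ∧
      (¬P m → a = 0) := by
  induction hg using Subgroup.closure_induction with
  | mem g hg =>
    obtain ⟨r, u, hr, ⟨hPr, hmr⟩, rfl⟩ := hg
    rcases hmr.lt_or_eq with h | rfl
    · exact ⟨0, _, c.mem_Sub hr ⟨hPr, h⟩ u, by rw [c.xg_zero, one_mul], fun _ => rfl⟩
    · exact ⟨u, 1, one_mem _, by rw [mul_one], fun h => absurd hPr h⟩
  | one => exact ⟨0, 1, one_mem _, by rw [c.xg_zero, mul_one], fun _ => rfl⟩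
  | mul a b _ _ ha hb =>
    obtain ⟨x, k, hk, rfl, hx⟩ := ha
    obtain ⟨y, k', hk', rfl, hy⟩ := hb
    by_cases hPm : P m
    · refine ⟨x + y, c.xg m y * k * c.xg m y * k', mul_mem ?_ hk', ?_, fun h => absurd hPm h⟩
      · exact c.conj_mem hm (fun q j hq hq' hp hj =>
          ⟨hP q m j hq hm hq'.1 hPm hp hj, (c.sum_lt hq hm hj).2⟩) y hk
      · rw [c.xg_add]
        simp only [mul_assoc, ← mul_assoc (c.xg m y) (c.xg m y), c.xg_mul_self, one_mul]
    · exact ⟨0, k * k', mul_mem hk hk', by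
        rw [hx hPm, hy hPm, c.xg_zero, one_mul, one_mul, one_mul], fun _ => rfl⟩
  | inv a _ ha =>
    obtain ⟨x, k, hk, rfl, hx⟩ := ha
    by_cases hPm : P m
    · refine ⟨x, c.xg m x * k⁻¹ * c.xg m x, c.conj_mem hm (fun q j hq hq' hp hj =>
          ⟨hP q m j hq hm hq'.1 hPm hp hj, (c.sum_lt hq hm hj).2⟩) x (inv_mem hk), ?_,
        fun h => absurd hPm h⟩
      rw [_root_.mul_inv_rev, c.xg_inv_self]
      simp only [← mul_assoc, c.xg_mul_self, one_mul]
    · exact ⟨0, k⁻¹, inv_mem hk, by rw [hx hPm, c.xg_zero, one_mul, one_mul], fun _ => rfl⟩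

theorem eq_zero_of_mem {P : ℕ → Prop} (hP : c.SumClosed P) {k : ℕ} (hk : c.Pos k) (hPk : ¬P k)
    {a : F} (h : c.xg k a ∈ c.Sub F P) : a = 0 := by
  suffices ∀ d m, D.nroots - m = d → c.T.h ≤ m →
      c.xg k a ∈ c.Sub F (fun q => P q ∧ m ≤ q) → m ≤ k → a = 0 from
    this _ c.T.h rfl le_rfl (c.Sub_mono (fun r hr h' => ⟨h', hr.1⟩) h) hk.1
  intro d
  induction d with
  | zero => intro m hd _ _ hmk; have := hk.2; omega
  | succ d ih =>
    intro m hd hm hg hmk
    have hm' : c.Pos m := ⟨hm, by omega⟩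
    obtain ⟨b, h', hh', e, hb⟩ := c.exists_split hP hm' hg
    have hK : h' ∈ c.K F (m + 1) := c.Sub_le_K (fun r _ hr => hr.2) hh'
    rcases hmk.lt_or_eq with hlt | rfl
    · have e2 : c.xg m (0 : F) * c.xg k a = c.xg m b * h' := by rw [c.xg_zero, one_mul, e]
      obtain ⟨hb0, hh⟩ := c.xg_mul_K_inj hm' (c.xg_mem_K hk (by omega) a) hK e2
      exact ih (m + 1) (by omega) (by omega)
        (hh ▸ c.Sub_mono (fun r _ hr => ⟨hr.1, hr.2⟩) hh') hlt
    · have e2 : c.xg m a * 1 = c.xg m b * h' := by rw [mul_one, e]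
      rw [(c.xg_mul_K_inj hm' (one_mem _) hK e2).1, hb hPk]

/-- The commutator of a root element with a product is below. -/
theorem conj_diff {P Q : ℕ → Prop} {r : ℕ} (hr : c.Pos r)
    (h : ∀ q k, c.Pos q → P q → c.T.pairing q r = -1 → c.Sum q r k → Q k)
    (hQ : ∀ q p k, c.Pos q → c.Pos p → P q → Q p → c.T.pairing p q = -1 → c.Sum p q k → Q k)
    (t : F) {g : GL D.Idx F} (hg : g ∈ c.Sub F P) :
    g⁻¹ * (c.xg r t * g * c.xg r t) ∈ c.Sub F Q := by
  suffices g⁻¹ * (c.xg r t * g * c.xg r t) ∈ c.Sub F Q ∧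
      ∀ w ∈ c.Sub F Q, g⁻¹ * w * g ∈ c.Sub F Q ∧ g * w * g⁻¹ ∈ c.Sub F Q from this.1
  induction hg using Subgroup.closure_induction with
  | mem g hg =>
    obtain ⟨q, u, hq, hPq, rfl⟩ := hg
    refine ⟨?_, fun w hw => ?_⟩
    · rw [c.xg_inv_self]
      by_cases hp : c.T.pairing q r = -1
      · obtain ⟨k, hk, e⟩ := c.conj_sum (F := F) hq hr hp
        rw [e, ← mul_assoc, c.xg_mul_self, one_mul]
        exact c.mem_Sub hk.1 (h q k hq hPq hp hk) _
      · rw [mul_assoc (c.xg r t), (c.commute_of_pairing hq hr hp u t).eq, ← mul_assoc (c.xg r t),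
          c.xg_mul_self, one_mul, c.xg_mul_self]
        exact one_mem _
    · rw [c.xg_inv_self]
      exact ⟨c.conj_mem hq (fun p k hp hQp e hk => hQ q p k hq hp hPq hQp e hk) u hw,
        c.conj_mem hq (fun p k hp hQp e hk => hQ q p k hq hp hPq hQp e hk) u hw⟩
  | one =>
    refine ⟨?_, fun w hw => ?_⟩
    · rw [mul_one, c.xg_mul_self, inv_one, mul_one]; exact one_mem _
    · simpa using hw
  | mul a b _ _ ha hb =>
    refine ⟨?_, fun w hw => ⟨?_, ?_⟩⟩
    · have e : (a * b)⁻¹ * (c.xg r t * (a * b) * c.xg r t) =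
          b⁻¹ * (a⁻¹ * (c.xg r t * a * c.xg r t)) * b * (b⁻¹ * (c.xg r t * b * c.xg r t)) := by
        simp only [_root_.mul_inv_rev, mul_assoc, mul_inv_cancel_left,
          ← mul_assoc (c.xg r t) (c.xg r t), c.xg_mul_self, one_mul]
      rw [e]
      exact mul_mem (hb.2 _ ha.1).1 hb.1
    · have := (hb.2 _ (ha.2 w hw).1).1
      simpa [mul_assoc] using this
    · have := (ha.2 _ (hb.2 w hw).2).2
      simpa [mul_assoc] using this
  | inv a _ ha =>
    refine ⟨?_, fun w hw => ⟨?_, ?_⟩⟩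
    · have e : a⁻¹⁻¹ * (c.xg r t * a⁻¹ * c.xg r t) =
          a * (a⁻¹ * (c.xg r t * a * c.xg r t))⁻¹ * a⁻¹ := by
        simp only [_root_.mul_inv_rev, inv_inv, c.xg_inv_self, mul_assoc, mul_inv_cancel,
          mul_one]
      rw [e]
      exact (ha.2 _ (inv_mem ha.1)).2
    · simpa using (ha.2 w hw).2
    · simpa using (ha.2 w hw).1

/-- A product of root elements over pairwise orthogonal roots. -/
def prodO (O : List (ℕ × F)) : GL D.Idx F := (O.map fun p => c.xg p.1 p.2).prod

/-- Pairwise orthogonal positive roots, each with a non-zero coefficient. -/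
def OrthList (O : List (ℕ × F)) : Prop :=
  (∀ p ∈ O, c.Pos p.1 ∧ p.2 ≠ 0) ∧
    O.Pairwise (fun p q => p.1 ≠ q.1 ∧ c.T.pairing p.1 q.1 = 0)

omit [CharP F 2] in
theorem sumClosed_perp {P : ℕ → Prop} (hP : c.SumClosed P) (m : ℕ) :
    c.SumClosed (fun q => P q ∧ c.T.pairing m q = 0) := fun r s k hr hs h1 h2 hp hk =>
  ⟨hP r s k hr hs h1.1 h2.1 hp hk, by rw [c.sum_pairing hr.2 hs.2 hk, h1.2, h2.2, add_zero]⟩

omit [CharP F 2] in
theorem diffClosed_perp {P : ℕ → Prop} (hP : c.DiffClosed P) (m : ℕ) :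
    c.DiffClosed (fun q => P q ∧ c.T.pairing m q = 0) := fun r t s hr ht hs h1 h2 hp hk =>
  ⟨hP r t s hr ht hs h1.1 h2.1 hp hk, by
    have h3 := c.sum_pairing (q := m) hr.2 ht.2 hk
    have e1 := h1.2
    have e2 := h2.2
    omega⟩

/-- Clearing the roots that are not orthogonal to the first one. -/
theorem sweep {P : ℕ → Prop} (hP : c.SumClosed P) (hD : c.DiffClosed P) {m : ℕ} (hm : c.Pos m)
    (hPm : P m) {a : F} (ha : a ≠ 0) {g : GL D.Idx F} (h2 : g * g = 1) :
    ∀ d s, D.nroots - s = d → m < s → ∀ M ∈ c.Sub F (fun q => P q ∧ m < q ∧ c.T.pairing m q = 0),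
      ∀ R ∈ c.Sub F (fun q => P q ∧ s ≤ q), g = c.xg m a * M * R →
      ∃ x ∈ c.Sub F P, ∃ h ∈ c.Sub F (fun q => P q ∧ m < q ∧ c.T.pairing m q = 0),
        x * g * x⁻¹ = c.xg m a * h := by
  intro d
  induction d generalizing g with
  | zero =>
    intro s hd _ M hM R hR e
    rw [c.Sub_eq_bot (fun r hr h => by have := hr.2; have := h.2; omega), Subgroup.mem_bot] at hR
    exact ⟨1, one_mem _, M, hM, by rw [e, hR, one_mul, inv_one, mul_one, mul_one]⟩
  | succ d ih =>
    intro s hd hms M hM R hR e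
    have hs : c.Pos s := ⟨by have := hm.1; omega, by omega⟩
    obtain ⟨u, R', hR', rfl, hu⟩ := c.exists_split hP hs hR
    by_cases hu0 : u = 0
    · subst hu0
      refine ih h2 (s + 1) (by omega) (by omega) M hM R' hR' ?_
      rw [e, c.xg_zero, one_mul]
    have hPs : P s := by_contra fun h => hu0 (hu h)
    rcases c.cases hm hs (by omega) with ⟨hp, -, -⟩ | ⟨hp, -⟩ | ⟨hp, -⟩
    · refine ih h2 (s + 1) (by omega) (by omega) (M * c.xg s u)
        (mul_mem hM (c.mem_Sub hs ⟨hPs, hms, hp⟩ u)) R' hR' ?_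
      rw [e]
      simp only [mul_assoc]
    · -- the root can be removed
      obtain ⟨t, ht, htm, hsum, htp⟩ := c.exists_diff hm hs hms hp
      have hPt : P t := hD m t s hm ht hs hPm hPs htp hsum
      obtain ⟨k, hk, hconj⟩ := c.conj_sum (F := F) hm ht htp
      obtain rfl : k = s := c.sum_unique hk hsum
      set v := u / a with hv
      set x := c.xg t v with hx
      set F0 := c.Sub F (fun q => P q ∧ k + 1 ≤ q) with hF0
      have hfix : ∀ q, c.Pos q → P q →
          ∀ y ∈ F0, ∀ w : F, c.xg q w * y * c.xg q w ∈ F0 := fun q hq hPq y hy w =>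
        c.conj_mem hq (fun p j hp' hPp e' hj =>
          ⟨hP p q j hp' hq hPp.1 hPq e' hj, by have := (c.sum_lt hp' hq hj).1; omega⟩) w hy
      have hf : M⁻¹ * (x * M * x) ∈ F0 := by
        refine c.conj_diff ht (fun q j hq hq' e' hj => ⟨hP q t j hq ht hq'.1 hPt e' hj, ?_⟩)
          (fun q p j hq hp' hq' hp'' e' hj => ⟨hP p q j hp' hq hp''.1 hq'.1 e' hj, ?_⟩) v hM
        · exact c.sum_mono hq.2 ht.2 hm.2 ht.2 hk hj hq'.2.1.le le_rfl (Or.inl hq'.2.1)
        · have := (c.sum_lt hp' hq hj).1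
          have := hp''.2
          omega
      have hg' : x * g * x⁻¹ = c.xg m a * M * (M⁻¹ * (c.xg k u * M * c.xg k u) *
          (c.xg k u * (M⁻¹ * (x * M * x)) * c.xg k u) * (x * R' * x)) := by
        have e1 : x * g * x⁻¹ = x * c.xg m a * x * (x * M * x) *
            (x * c.xg k u * x) * (x * R' * x) := by
          rw [e, hx, c.xg_inv_self]
          simp only [mul_assoc, ← mul_assoc (c.xg t v) (c.xg t v), c.xg_mul_self, one_mul]
        have e2 : x * c.xg k u * x = c.xg k u := by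
          have hne : c.T.pairing k t ≠ -1 := by
            rw [← c.pairing_symm hk.1 ht (c.sum_lt hm ht hk).2.ne,
              c.sum_pairing hm.2 ht.2 hk, c.pairing_self ht.2,
              c.pairing_symm hm ht htm, htp]
            omega
          rw [hx, mul_assoc, (c.commute_of_pairing hk.1 ht hne u v).eq, ← mul_assoc,
            c.xg_mul_self, one_mul]
        rw [e1, e2, hx, hconj, show a * v = u by rw [hv]; field_simp]
        simp only [mul_assoc, mul_inv_cancel_left, ← mul_assoc (c.xg k u) (c.xg k u),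
          c.xg_mul_self, one_mul]
      have hMk : M⁻¹ * (c.xg k u * M * c.xg k u) ∈ F0 :=
        c.conj_diff hs (fun q j hq hq' e' hj =>
          ⟨hP q k j hq hs hq'.1 hPs e' hj, by have := (c.sum_lt hq hs hj).2; omega⟩)
          (fun q p j hq hp' hq' hp'' e' hj => ⟨hP p q j hp' hq hp''.1 hq'.1 e' hj, by
            have := (c.sum_lt hp' hq hj).1; have := hp''.2; omega⟩) u hM
      obtain ⟨y, hy, h, hh, eq⟩ := ih (g := x * g * x⁻¹)
        (by rw [show x * g * x⁻¹ * (x * g * x⁻¹) = x * (g * g) * x⁻¹ by group, h2, mul_one,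
          mul_inv_cancel])
        (k + 1) (by omega) (by omega) M hM _
        (mul_mem (mul_mem hMk (hfix k hs hPs _ hf u)) (hfix t ht hPt R' hR' v)) hg'
      exact ⟨y * x, mul_mem hy (c.mem_Sub ht hPt v), h, hh, by rw [← eq]; group⟩
    · -- the coefficient vanishes
      exfalso
      obtain ⟨k, hk, hswap⟩ := c.exists_sum (F := F) hm hs hp
      obtain ⟨-, hsk⟩ := c.sum_lt hm hs hk
      let E : ℕ → Prop :=
        fun q => P q ∧ q ≠ k ∧ ((m < q ∧ c.T.pairing m q = 0) ∨ s < q)
      have hmk : c.T.pairing m k = 1 := by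
        rw [c.sum_pairing hm.2 hs.2 hk, c.pairing_self hm.2, hp]; rfl
      have hbig : ∀ q p j, c.Pos q → c.Pos p → E q → s < p → c.Sum q p j → k < j := by
        intro q p j hq hp' hq' hsp hj
        refine c.sum_mono hq.2 hp'.2 hm.2 hs.2 hk hj ?_ hsp.le (Or.inr hsp)
        rcases hq'.2.2 with h | h <;> omega
      have hE : c.SumClosed E := by
        intro q p j hq hp' hq' hp'' e' hj
        have hPj := hP q p j hq hp' hq'.1 hp''.1 e' hj
        rcases hp''.2.2 with h | h
        · rcases hq'.2.2 with h0 | h0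
          · have e3 : c.T.pairing m j = 0 := by
              rw [c.sum_pairing hq.2 hp'.2 hj, h0.2, h.2, add_zero]
            refine ⟨hPj, fun ejk => ?_, Or.inl ⟨(c.sum_lt hq hp' hj).1.trans' h0.1, e3⟩⟩
            rw [ejk] at e3; omega
          · have := hbig p q j hp' hq hp'' h0 (c.sum_symm hj)
            exact ⟨hPj, by omega, Or.inr (by omega)⟩
        · have := hbig q p j hq hp' hq' h hj
          exact ⟨hPj, by omega, Or.inr (by omega)⟩
      have nm : ∀ w ∈ c.Sub F E, ∀ b : F, c.xg m b * w * c.xg m b ∈ c.Sub F E := fun w hw b =>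
        c.conj_mem hm (fun q j hq hq' e' hj => by
          have hqs : s < q := by
            rcases hq'.2.2 with h | h
            · exfalso
              have hne : m ≠ q := by omega
              rw [c.pairing_symm hm hq hne.symm, h.2] at e'
              omega
            · exact h
          have := c.sum_mono hm.2 hq.2 hm.2 hs.2 hk (c.sum_symm hj) le_rfl hqs.le (Or.inr hqs)
          exact ⟨hP q m j hq hm hq'.1 hPm e' hj, by omega, Or.inr (by omega)⟩) b hw
      have ns : ∀ w ∈ c.Sub F E, ∀ b : F, c.xg s b * w * c.xg s b ∈ c.Sub F E := fun w hw b =>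
        c.conj_mem hs (fun q j hq hq' e' hj => by
          have hmq : m < q := by rcases hq'.2.2 with h | h <;> omega
          have := c.sum_mono hq.2 hs.2 hm.2 hs.2 hk hj hmq.le le_rfl (Or.inl hmq)
          exact ⟨hP q s j hq hs hq'.1 hPs e' hj, by omega, Or.inr (by omega)⟩) b hw
      have hM' : M ∈ c.Sub F E := c.Sub_mono (fun r _ h =>
        show E r from ⟨h.1, fun e' => by rw [e'] at h; have := h.2.2; omega,
          Or.inl h.2⟩) hM
      -- the part after the root, without the sum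
      have hR'' : ∃ w ∈ c.Sub F E, ∃ b : F, R' = c.xg k b * w ∧
          ∀ y ∈ c.Sub F E, c.xg k b * y * c.xg k b ∈ c.Sub F E := by
        have nk : ∀ y ∈ c.Sub F E, ∀ b : F, c.xg k b * y * c.xg k b ∈ c.Sub F E :=
          fun y hy b => c.conj_mem hk.1 (fun q j hq hq' e' hj => by
            have := (c.sum_lt hq hk.1 hj).2
            exact ⟨hP q k j hq hk.1 hq'.1 (hP m s k hm hs hPm hPs hp hk) e' hj, by omega,
              Or.inr (by omega)⟩) b hy
        suffices ∃ w ∈ c.Sub F E, ∃ b : F, R' = c.xg k b * w from by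
          obtain ⟨w, hw, b, e'⟩ := this
          exact ⟨w, hw, b, e', fun y hy => nk y hy b⟩
        suffices key : ∀ z ∈ c.Sub F (fun q => P q ∧ s < q),
            ∃ w ∈ c.Sub F E, ∃ b : F, z = c.xg k b * w from key R' hR'
        intro z hz
        clear e hR hR'
        induction hz using Subgroup.closure_induction with
        | mem g hg =>
          obtain ⟨q, b, hq, ⟨hPq, hsq⟩, rfl⟩ := hg
          by_cases hqk : q = k
          · exact ⟨1, one_mem _, b, by rw [hqk, mul_one]⟩
          · exact ⟨_, c.mem_Sub hq (show E q from ⟨hPq, hqk, Or.inr hsq⟩) b, 0,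
              by rw [c.xg_zero, one_mul]⟩
        | one => exact ⟨1, one_mem _, 0, by rw [c.xg_zero, one_mul]⟩
        | mul y z _ _ hy hz =>
          obtain ⟨w, hw, b, rfl⟩ := hy
          obtain ⟨w', hw', b', rfl⟩ := hz
          refine ⟨c.xg k b' * w * c.xg k b' * w', mul_mem (nk w hw b') hw', b + b', ?_⟩
          rw [c.xg_add]
          simp only [mul_assoc, ← mul_assoc (c.xg k b') (c.xg k b'), c.xg_mul_self, one_mul]
        | inv y _ hy =>
          obtain ⟨w, hw, b, rfl⟩ := hy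
          refine ⟨c.xg k b * w⁻¹ * c.xg k b, nk _ (inv_mem hw) b, b, ?_⟩
          rw [_root_.mul_inv_rev, c.xg_inv_self]
          simp only [← mul_assoc, c.xg_mul_self, one_mul]
      obtain ⟨W, hW, b, rfl, nkb⟩ := hR''
      have hkm : Commute (c.xg m a) (c.xg k b) := c.commute_of_pairing hm hk.1 (by omega) _ _
      have hks : Commute (c.xg s u) (c.xg k b) := c.commute_of_pairing hs hk.1 (by
        rw [c.sum_pairing hm.2 hs.2 hk, c.pairing_self hs.2,
          c.pairing_symm hm hs (by omega), hp]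
        omega) _ _
      have hkmu : Commute (c.xg m a) (c.xg k (a * u)) :=
        c.commute_of_pairing hm hk.1 (by omega) _ _
      -- write `g` as a product of the three root elements and an element of the subgroup
      set p := c.xg m a * c.xg s u * c.xg k b with hp'
      obtain ⟨W', hW', eg⟩ : ∃ W' ∈ c.Sub F E, g = p * W' := by
        refine ⟨(c.xg k b * (c.xg s u * M * c.xg s u) * c.xg k b) * W,
          mul_mem (nkb _ (ns M hM' u)) hW, ?_⟩
        rw [e, hp']
        simp only [mul_assoc, ← mul_assoc (c.xg k b) (c.xg k b), c.xg_mul_self, one_mul,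
          ← mul_assoc (c.xg s u) (c.xg s u)]
      have hnorm : ∀ w ∈ c.Sub F E, p⁻¹ * w * p ∈ c.Sub F E := fun w hw => by
        have := nkb _ (ns _ (nm w hw a) u)
        simpa only [hp', _root_.mul_inv_rev, c.xg_inv_self, mul_assoc] using this
      have hpp : p * p ∈ c.Sub F E := by
        have h' : p * p * ((p⁻¹ * W' * p) * W') = 1 := by
          rw [← h2, eg]; group
        rw [eq_inv_of_mul_eq_one_left h']
        exact inv_mem (mul_mem (hnorm W' hW') hW')
      have e5 : p * p = c.xg k (a * u) := by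
        calc p * p = c.xg m a * c.xg s u * (c.xg k b * c.xg m a) * c.xg s u * c.xg k b := by
              rw [hp']; group
          _ = c.xg m a * (c.xg s u * c.xg m a) * (c.xg k b * c.xg s u) * c.xg k b := by
              rw [← hkm.eq]; group
          _ = c.xg m a * (c.xg m a * c.xg s u * c.xg k (a * u)) * (c.xg s u * c.xg k b) *
              c.xg k b := by rw [hswap, ← hks.eq]
          _ = c.xg m a * c.xg m a * c.xg s u * (c.xg k (a * u) * c.xg s u) *
              (c.xg k b * c.xg k b) := by group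
          _ = c.xg s u * (c.xg k (a * u) * c.xg s u) := by
              rw [c.xg_mul_self, c.xg_mul_self, one_mul, mul_one]
          _ = c.xg k (a * u) := by
              rw [(c.commute_of_pairing hk.1 hs (by
                rw [← c.pairing_symm hk.1 hs (by omega), c.sum_pairing hm.2 hs.2 hk,
                  c.pairing_self hs.2, c.pairing_symm hm hs (by omega), hp]
                omega) _ _).eq, ← mul_assoc, c.xg_mul_self, one_mul]
      rw [e5] at hpp
      exact mul_ne_zero ha hu0 (c.eq_zero_of_mem hE hk.1 (fun h => h.2.1 rfl) hpp)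

/-- Involutions become products over orthogonal roots. -/
theorem exists_orth : ∀ d m, D.nroots - m = d → c.T.h ≤ m → ∀ P : ℕ → Prop,
    c.SumClosed P → c.DiffClosed P →
    ∀ g ∈ c.Sub F (fun q => P q ∧ m ≤ q), g * g = 1 →
      ∃ x ∈ c.Sub F P, ∃ O : List (ℕ × F), c.OrthList O ∧ (∀ p ∈ O, P p.1 ∧ m ≤ p.1) ∧
        x * g * x⁻¹ = c.prodO O := by
  intro d
  induction d with
  | zero =>
    intro m hd _ P _ _ g hg _
    rw [c.Sub_eq_bot (fun r hr h => by have := hr.2; have := h.2; omega), Subgroup.mem_bot] at hg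
    exact ⟨1, one_mem _, [], ⟨by simp, List.Pairwise.nil⟩, by simp, by simp [hg, prodO]⟩
  | succ d ih =>
    intro m hd hm P hP hD g hg h2
    have hm' : c.Pos m := ⟨hm, by omega⟩
    obtain ⟨a, h, hh, rfl, ha⟩ := c.exists_split hP hm' hg
    by_cases ha0 : a = 0
    · subst ha0
      rw [c.xg_zero, one_mul] at h2 ⊢
      obtain ⟨x, hx, O, hO, hO', e⟩ := ih (m + 1) (by omega) (by omega) P hP hD h
        (c.Sub_mono (fun r _ hr => ⟨hr.1, hr.2⟩) hh) h2
      exact ⟨x, hx, O, hO, fun p hp => ⟨(hO' p hp).1, by have := (hO' p hp).2; omega⟩, e⟩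
    have hPm : P m := by_contra fun h' => ha0 (ha h')
    obtain ⟨x, hx, k, hk, e⟩ := c.sweep hP hD hm' hPm ha0 h2 (D.nroots - (m + 1)) (m + 1) rfl
      (by omega) 1 (one_mem _) h (c.Sub_mono (fun r _ hr => ⟨hr.1, hr.2⟩) hh) (by rw [mul_one])
    have hcom : ∀ y ∈ c.Sub F (fun q => P q ∧ c.T.pairing m q = 0), Commute (c.xg m a) y := by
      intro y hy
      induction hy using Subgroup.closure_induction with
      | mem y hy =>
        obtain ⟨q, b, hq, ⟨-, hq'⟩, rfl⟩ := hy
        exact c.commute_of_pairing hm' hq (by omega) _ _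
      | one => exact Commute.one_right _
      | mul _ _ _ _ hy hz => exact hy.mul_right hz
      | inv _ _ hy => exact hy.inv_right
    have hk' := c.Sub_mono (Q := fun q => P q ∧ c.T.pairing m q = 0)
      (fun r _ hr => ⟨hr.1, hr.2.2⟩) hk
    have hk2 : k * k = 1 := by
      have h' : c.xg m a * k * (c.xg m a * k) = 1 := by
        rw [← e, show x * (c.xg m a * h) * x⁻¹ * (x * (c.xg m a * h) * x⁻¹) =
          x * (c.xg m a * h * (c.xg m a * h)) * x⁻¹ by group, h2, mul_one, mul_inv_cancel]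
      rwa [mul_assoc, ← mul_assoc k, ← (hcom k hk').eq, mul_assoc (c.xg m a) k, ← mul_assoc,
        c.xg_mul_self, one_mul] at h'
    obtain ⟨y, hy, O, hO, hO', e'⟩ := ih (m + 1) (by omega) (by omega)
      (fun q => P q ∧ c.T.pairing m q = 0) (c.sumClosed_perp hP m) (c.diffClosed_perp hD m) k
      (c.Sub_mono (fun r _ hr => ⟨⟨hr.1, hr.2.2⟩, hr.2.1⟩) hk) hk2
    refine ⟨y * x, mul_mem (c.Sub_mono (fun r _ hr => hr.1) hy) hx, (m, a) :: O, ⟨?_, ?_⟩, ?_, ?_⟩
    · intro p hp
      rcases List.mem_cons.1 hp with rfl | hp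
      · exact ⟨hm', ha0⟩
      · exact hO.1 p hp
    · refine List.pairwise_cons.2 ⟨fun p hp => ⟨?_, (hO' p hp).1.2⟩, hO.2⟩
      have := (hO' p hp).2
      show m ≠ p.1
      omega
    · intro p hp
      rcases List.mem_cons.1 hp with rfl | hp
      · exact ⟨hPm, le_rfl⟩
      · exact ⟨(hO' p hp).1.1, by have := (hO' p hp).2; omega⟩
    · rw [prodO, List.map_cons, List.prod_cons, ← prodO, ← e', _root_.mul_inv_rev,
        show y * x * (c.xg m a * h) * (x⁻¹ * y⁻¹) = y * (x * (c.xg m a * h) * x⁻¹) * y⁻¹ by group,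
        e, show y * (c.xg m a * k) * y⁻¹ = y * c.xg m a * y⁻¹ * (y * k * y⁻¹) by group,
        ← (hcom y hy).eq, mul_inv_cancel_right]

end Cfsg.Agent.Lie.Chev.Simply
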