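import Cfsg.Agent.Lib.Lie.Chev.EvenInv.ReeSearch

/-! Generated data: the search for the involutions of the large Ree groups. -/

set_option autoImplicit false
set_option maxRecDepth 20000

namespace Cfsg.Agent.Lie.Chev.F4Ree

/-- The surviving words, the representatives first. -/
def reeWords : List (List ℕ) := [
  [44, 47], [39, 45], [40, 46], [38, 43], [36, 42], [39, 40, 45, 46], [36, 38, 42, 43],
  [36, 40, 42, 44, 46, 47], [36, 40, 42, 46], [32, 37], [28, 30], [28, 30, 32, 37],
  [28, 30, 40, 44, 46, 47], [28, 30, 44, 47], [24, 33], [24, 33, 36, 38, 42, 43],
  [24, 33, 38, 43], [24, 33, 39, 45]]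

/-- The moves connecting the words. -/
def reeEdges : List (ℕ × ReeMove) := [
  (0, .weyl true), (1, .weyl false), (2, .weyl false), (1, .std 1), (5, .weyl false),
  (6, .std 1), (7, .std 0), (3, .weyl true), (4, .weyl true), (6, .weyl true), (11, .std 2),
  (12, .std 8), (9, .weyl false), (14, .std 4), (15, .std 5), (16, .std 6)]

/-- The search tree. -/
def reeTree : ReeTree :=
  (.scale 0 0 1 0
   (.scale 1 0 0 0
    (.scale 1 0 0 0
     (.scale 0 0 0 1
      (.scale 1 1 0 0
       (.scale 1 1 0 0
        (.scale 0 0 1 0
         (.scale 0 0 1 0
          (.scale 0 0 1 1
           (.scale 0 0 1 1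
            (.scale 0 0 1 0
             (.scale 1 0 0 0
              (.leaf 0)
              (.leaf 0))
             (.drop 0
              (.leaf 2)))
            (.drop 1
             (.drop 2
              (.leaf 1))))
           (.drop 1
            (.drop 3
             (.drop 4
              (.leaf 3)))))
          (.drop 1
           (.drop 3
            (.scale 0 1 2 1
             (.drop 6
              (.leaf 4))
             (.drop 0
              (.leaf 8))))))
         (.kill 44
          (.drop 0
           (.drop 2
            (.drop 5
             (.drop 7
              (.leaf 9)))))))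
        (.kill 40
         (.dead 44 14)))
       (.kill 39
        (.dead 40 12)))
      (.drop 0
       (.scale 2 2 4 3
        (.drop 2
         (.kill 39
          (.kill 40
           (.drop 7
            (.drop 8
             (.scale 2 0 2 1
              (.leaf 10)
              (.leaf 13)))))))
        (.drop 2
         (.kill 39
          (.dead 44 16))))))
     (.dead 36 6))
    (.dead 28 4))
   (.kill 34
    (.drop 1
     (.kill 35
      (.drop 3
       (.kill 36
        (.kill 38
         (.drop 4
          (.drop 6
           (.scale 1 1 2 2
            (.kill 44
             (.drop 10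
              (.leaf 14)))
            (.kill 44
             (.drop 2
              (.leaf 17)))))))))))))

end Cfsg.Agent.Lie.Chev.F4Ree
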