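import Cfsg.Agent.Lib.Lie.Chev.EvenInv.ReeData
import Cfsg.Agent.Lib.Lie.Chev.EvenInv.Rank
import Cfsg.Agent.Lib.Lie.Chev.TwistAut
import Cfsg.Agent.Lib.Lie.Chev.TwistF4TwoTits

/-! The two classes of involutions of the large Ree groups and of the Tits group. -/

set_option autoImplicit false
set_option maxRecDepth 8000

namespace Cfsg.Agent.Lie.Chev.F4Ree

open Cfsg.Lie

theorem checkReeSearch_ok : checkReeSearch reeWords reeTree [] 0 = true := by decide +kernel

theorem checkReeWords_ok : checkReeWords 2 reeWords reeEdges = true := by decide +kernel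

/-- The representatives: involutions of different ranks, each centralised by an odd element. -/
def checkReeReps : Bool :=
  (List.range 2).all fun i =>
    let W := reeWords.getD i []
    (certFullF4.T.collectOdd (W ++ W)).isEmpty &&
      Nat.beq (certFullF4.T.rankBits W) ([21, 24].getD i 0) &&
      decide (certFullF4.T.collectOdd (orootsOf 4 ++ W) =
        certFullF4.T.collectOdd (W ++ orootsOf 4))

theorem checkReeReps_ok : checkReeReps = true := by decide +kernel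

theorem chiBit_std : F4Two.chiBit (orootsOf 4) = true := by decide +kernel

variable {K : Type*} [Field K] [CharP K 2]

theorem reeWords_pos {i : ℕ} (hi : i < 2) : ∀ r ∈ reeWords.getD i [], certFullF4.Pos r := by
  have hw := checkReeWords_ok
  simp only [checkReeWords, Bool.and_eq_true, List.all_eq_true, Nat.blt_eq, Nat.ble_eq] at hw
  obtain ⟨⟨hlen, hpos⟩, -⟩ := hw
  intro r hr
  have hl : i < reeWords.length := by omega
  rw [List.getD_eq_getElem _ _ hl] at hr
  exact pos_iff.2 (hpos _ (List.getElem_mem hl) r hr)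

variable (K) in
/-- A representative. -/
def reeRep (i : ℕ) : GL chevF4.Idx K := certFullF4.rootWord K (reeWords.getD i [])

theorem reeRep_spec {i : ℕ} (hi : i < 2) :
    reeRep K i * reeRep K i = 1 ∧
      ((reeRep K i : Matrix chevF4.Idx chevF4.Idx K) - 1).rank = [21, 24].getD i 0 ∧
      Commute (certFullF4.rootWord K (orootsOf 4)) (reeRep K i) := by
  have h := checkReeReps_ok
  simp only [checkReeReps, List.all_eq_true, List.mem_range, Bool.and_eq_true, List.isEmpty_iff,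
    Nat.beq_eq, decide_eq_true_eq] at h
  obtain ⟨⟨h1, h2⟩, h3⟩ := h i hi
  refine ⟨certFullF4.rootWord_sq (reeWords_pos hi) h1, ?_, ?_⟩
  · rw [← h2]
    exact certFullF4.rank_word K _ fun r hr => (reeWords_pos hi r hr).2
  · have hp : ∀ A B : List ℕ, (∀ r ∈ A, certFullF4.Pos r) → (∀ r ∈ B, certFullF4.Pos r) →
        ∀ r ∈ A ++ B, certFullF4.Pos r := fun A B hA hB r hr => by
      rcases List.mem_append.1 hr with h | h
      exacts [hA r h, hB r h]
    have h4 : ∀ r ∈ orootsOf 4, certFullF4.Pos r := fun r hr => (oroots_spec (by omega) r hr).1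
    show certFullF4.rootWord K (orootsOf 4) * reeRep K i = reeRep K i * _
    rw [reeRep, ← certFullF4.rootWord_append, ← certFullF4.rootWord_append,
      ← (certFullF4.collectOdd_spec (F := K) _ (hp _ _ h4 (reeWords_pos hi))).1, h3,
      (certFullF4.collectOdd_spec (F := K) _ (hp _ _ (reeWords_pos hi) h4)).1]

theorem reeRep_ne_one {i : ℕ} (hi : i < 2) : reeRep K i ≠ 1 := fun e => by
  have h := (reeRep_spec (K := K) hi).2.1
  rw [e, Units.val_one, sub_self, Matrix.rank_zero] at h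
  rcases (show i = 0 ∨ i = 1 by omega) with rfl | rfl <;> simp at h

omit [CharP K 2] in
theorem rootWord_mem_U {L : List ℕ} (hL : ∀ r ∈ L, certFullF4.Pos r) :
    certFullF4.rootWord K L ∈ chevF4.posUnipotent K := by
  rw [certFullF4.posUnipotent_eq]
  refine Subgroup.list_prod_mem _ fun g hg => ?_
  obtain ⟨r, hr, rfl⟩ := List.mem_map.1 hg
  exact certFullF4.xg_mem_K (hL r hr) (hL r hr).1 _

variable [ExpChar K 2] [Fintype K] (f : K →+* K) {m : ℕ} (hf : ∀ t, f t = t ^ 2 ^ m)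
  (hK : Fintype.card K = 2 ^ (2 * m + 1))

include hf hK

theorem reeRep_fix {i : ℕ} (hi : i < 2) : reeRep K i ∈ (F4.tw f).fix := by
  have hw : reeWords.getD 0 [] = stateWord [11] ∧ reeWords.getD 1 [] = stateWord [9] :=
    ⟨by decide +kernel, by decide +kernel⟩
  rcases (show i = 0 ∨ i = 1 by omega) with rfl | rfl
  · rw [reeRep, hw.1]; exact rootWord_state_fix f hf hK (by simp)
  · rw [reeRep, hw.2]; exact rootWord_state_fix f hf hK (by simp)

theorem reeRep_mem {i : ℕ} (hi : i < 2) : reeRep K i ∈ twistedF4 K (2 ^ m) :=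
  (F4.datum f hf hK).mem_G₁ (reeRep_fix f hf hK hi)

/-- Involutions are conjugate to the representatives. -/
theorem exists_conj_rep {g : GL chevF4.Idx K} (hg : g ∈ twistedF4 K (2 ^ m)) (ho : orderOf g = 2) :
    ∃ i < 2, ∃ x ∈ twistedF4 K (2 ^ m), x * g * x⁻¹ = reeRep K i := by
  classical
  set Y := F4.datum f hf hK
  have : Finite ↥(twistedF4 K (2 ^ m)) := Subgroup.instFiniteSubtypeMem _
  haveI : Fact (Nat.Prime 2) := ⟨Nat.prime_two⟩
  set U' := Y.U₁.subgroupOf Y.G₁ with hU'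
  set g' : ↥Y.G₁ := ⟨g, hg⟩
  have ho' : orderOf g' = 2 := by rw [← Subgroup.orderOf_coe]; exact ho
  obtain ⟨R, hR⟩ := (IsPGroup.of_card (p := 2) (n := 1) (G := ↥(Subgroup.zpowers g'))
    (by rw [Nat.card_zpowers, ho', pow_one])).exists_le_sylow
  have hUU : Y.U₁ ≤ Y.G₁ := Y.U₁_le
  have hcU : Nat.card U' = (2 ^ (2 * m + 1)) ^ 12 := by
    rw [hU', Nat.card_congr (Subgroup.subgroupOfEquivOfLe hUU).toEquiv, ← F4.card_U f hf hK]
    refine Nat.card_congr (MulEquiv.subgroupCongr ?_).toEquiv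
    show chevF4.posUnipotent K ⊓ (F4.tw f).fix = _
    rw [← Y.eq_fix]
    rfl
  have hPU : IsPGroup 2 U' := IsPGroup.of_card (n := (2 * m + 1) * 12) (by rw [hcU, pow_mul])
  obtain ⟨Q, hQ⟩ := hPU.exists_le_sylow
  have hodd : Odd ((2 ^ (2 * m + 1) - 1) * ((2 ^ (2 * m + 1)) ^ 3 + 1) *
      ((2 ^ (2 * m + 1)) ^ 4 - 1) * ((2 ^ (2 * m + 1)) ^ 6 + 1)) := by
    have hev : Even (2 ^ (2 * m + 1)) := (even_two).pow_of_ne_zero (by omega)
    refine Odd.mul (Odd.mul (Odd.mul ?_ ((hev.pow_of_ne_zero (by omega)).add_one)) ?_)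
      ((hev.pow_of_ne_zero (by omega)).add_one)
    · exact Nat.Even.sub_odd Nat.one_le_two_pow hev odd_one
    · exact Nat.Even.sub_odd (Nat.one_le_pow _ _ (by positivity)) (hev.pow_of_ne_zero (by omega))
        odd_one
  have hcQ : Nat.card (Q : Subgroup ↥Y.G₁) = Nat.card U' := by
    refine Nat.dvd_antisymm ?_ (Subgroup.card_dvd_of_le hQ)
    have h : Nat.card (Q : Subgroup ↥Y.G₁) ∣ Nat.card ↥(twistedF4 K (2 ^ m)) :=
      Subgroup.card_subgroup_dvd_card (Q : Subgroup ↥Y.G₁)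
    rw [F4.card_group f hf hK, mul_assoc, mul_assoc, mul_assoc] at h
    rw [hcU]
    refine Nat.Coprime.dvd_of_dvd_mul_right ?_ h
    obtain ⟨n, hn⟩ := IsPGroup.iff_card.1 Q.isPGroup'
    rw [hn]
    refine Nat.Coprime.pow_left _ (Nat.coprime_two_left.2 ?_)
    simpa only [mul_assoc] using hodd
  obtain ⟨x, hx⟩ := Y.exists_conj_U₁ (R : Subgroup ↥Y.G₁) (by
    rw [Sylow.card_eq_multiplicity R, ← Sylow.card_eq_multiplicity Q, hcQ])
  obtain ⟨hU, hfix⟩ := (hx g').1 (hR (Subgroup.mem_zpowers _))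
  set u : GL chevF4.Idx K := ((x * g' * x⁻¹ : ↥Y.G₁) : GL chevF4.Idx K) with hu
  have hu' : u = (x : GL chevF4.Idx K) * g * (x : GL chevF4.Idx K)⁻¹ := rfl
  have h2 : g * g = 1 := by rw [← pow_two, ← ho, pow_orderOf_eq_one]
  have hu2 : u * u = 1 := by
    rw [hu', show (x : GL chevF4.Idx K) * g * (x : GL chevF4.Idx K)⁻¹ *
      ((x : GL chevF4.Idx K) * g * (x : GL chevF4.Idx K)⁻¹) =
      (x : GL chevF4.Idx K) * (g * g) * (x : GL chevF4.Idx K)⁻¹ by group, h2]
    group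
  have hspan : u ∈ certFullF4.rootSpan K (from_ (2 * 0)) := by
    have hU' : u ∈ chevF4.posUnipotent K := hU
    rw [certFullF4.posUnipotent_eq] at hU'
    refine (Subgroup.closure_le _).2 ?_ hU'
    rintro _ ⟨r, t, hr, -, rfl⟩
    exact certFullF4.xg_mem_rootSpan (E := from_ (2 * 0)) hr (show 2 * 0 ≤ ps r from Nat.zero_le _) t
  rcases ree_search_sound f hf hK reeTree [] 0 checkReeSearch_ok (by simp) u u hspan hfix
      (by simp [stateWord, CertFull.rootWord]) hu2 with h | ⟨i, hi, y, hy, e⟩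
  · exfalso
    have : g = 1 := by
      rw [hu'] at h
      rw [show g = (x : GL chevF4.Idx K)⁻¹ * ((x : GL chevF4.Idx K) * g *
        (x : GL chevF4.Idx K)⁻¹) * x by group, h]
      group
    rw [this, orderOf_one] at ho
    omega
  obtain ⟨j, hj, z, hz, ez⟩ := ree_words_conj f hf hK checkReeWords_ok i hi
  refine ⟨j, hj, z * y * x, mul_mem (mul_mem (Y.mem_G₁ hz) (Y.mem_G₁ hy)) x.2, ?_⟩
  rw [reeRep, ← ez, ← e, hu']
  group

omit hf hK [ExpChar K 2] in
theorem reeRep_not_conj {i j : ℕ} (hi : i < 2) (hj : j < 2) {x : GL chevF4.Idx K}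
    (h : x * reeRep K i * x⁻¹ = reeRep K j) : i = j := by
  by_contra hne
  have e : ((reeRep K i : Matrix chevF4.Idx chevF4.Idx K) - 1).rank =
      ((reeRep K j : Matrix chevF4.Idx chevF4.Idx K) - 1).rank := by
    rw [← h, CertFull.rank_sub_one_conj]
  rw [(reeRep_spec hi).2.1, (reeRep_spec hj).2.1] at e
  rcases (show i = 0 ∨ i = 1 by omega) with rfl | rfl <;>
    rcases (show j = 0 ∨ j = 1 by omega) with rfl | rfl <;> simp at e hne

omit hf hK [ExpChar K 2] [Fintype K] in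
theorem orderOf_reeRep {i : ℕ} (hi : i < 2) : orderOf (reeRep K i) = 2 :=
  orderOf_eq_prime (by rw [pow_two]; exact (reeRep_spec hi).1) (reeRep_ne_one hi)

omit hf hK [ExpChar K 2] in
/-- Counting the classes in a subgroup from two representatives. -/
theorem ncard_two {G : Type*} [Group G] (φ : G →* GL chevF4.Idx K) (hφ : Function.Injective φ)
    (a : ℕ → G) (ha : ∀ i < 2, φ (a i) = reeRep K i)
    (hall : ∀ g : G, orderOf g = 2 → ∃ i < 2, ∃ x : G, x * g * x⁻¹ = a i) :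
    (ConjClasses.mk '' {g : G | orderOf g = 2}).ncard = 2 := by
  have hne : ConjClasses.mk (a 0) ≠ ConjClasses.mk (a 1) := fun e => by
    obtain ⟨x, hx⟩ := isConj_iff.1 (ConjClasses.mk_eq_mk_iff_isConj.1 e)
    have h := congrArg φ hx
    rw [map_mul, map_mul, map_inv, ha 0 (by omega), ha 1 (by omega)] at h
    exact absurd (reeRep_not_conj (by omega) (by omega) h) (by omega)
  rw [show ConjClasses.mk '' {g : G | orderOf g = 2} =
    {ConjClasses.mk (a 0), ConjClasses.mk (a 1)} from ?_, Set.ncard_pair hne]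
  ext C
  constructor
  · rintro ⟨g, hg, rfl⟩
    obtain ⟨i, hi, x, hx⟩ := hall g hg
    have e : ConjClasses.mk g = ConjClasses.mk (a i) :=
      ConjClasses.mk_eq_mk_iff_isConj.2 (isConj_iff.2 ⟨x, hx⟩)
    rcases (show i = 0 ∨ i = 1 by omega) with rfl | rfl <;> rw [e] <;> simp
  · intro hC
    have key : ∀ i < 2, ConjClasses.mk (a i) ∈ ConjClasses.mk '' {g : G | orderOf g = 2} :=
      fun i hi => ⟨a i, by
        show orderOf (a i) = 2
        rw [← orderOf_injective φ hφ, ha i hi, orderOf_reeRep hi], rfl⟩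
    rcases hC with rfl | rfl
    exacts [key 0 (by omega), key 1 (by omega)]

/-- The large Ree group has two classes of involutions. -/
theorem ncard_classes :
    (ConjClasses.mk '' {g : ↥(twistedF4 K (2 ^ m)) | orderOf g = 2}).ncard = 2 := by
  have : Inhabited ↥(twistedF4 K (2 ^ m)) := ⟨1⟩
  refine ncard_two (twistedF4 K (2 ^ m)).subtype (Subgroup.subtype_injective _)
    (fun i => if hi : i < 2 then ⟨reeRep K i, reeRep_mem f hf hK hi⟩ else 1)
    (fun i hi => by simp [hi]) fun g hg => ?_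
  obtain ⟨i, hi, x, hx, e⟩ := exists_conj_rep f hf hK g.2 (by rw [Subgroup.orderOf_coe]; exact hg)
  exact ⟨i, hi, ⟨x, hx⟩, Subtype.ext (by simp [hi, e])⟩

end Cfsg.Agent.Lie.Chev.F4Ree

namespace Cfsg.Agent.Lie.Chev.F4Ree

open Cfsg.Lie F4Two

/-- The Tits group has two classes of involutions. -/
theorem ncard_classes_tits :
    (ConjClasses.mk '' {g : Cfsg.Lie.TitsGroup | orderOf g = 2}).ncard = 2 := by
  obtain ⟨F, hker, -, hF⟩ := exists_parity'
  have hgen : ∀ g : GL chevF4.Idx K₂, g ∈ chevF4.posUnipotent K₂ → g ∈ (F4.tw f₀).fix →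
      g ∈ genSub := fun g h1 h2 => by
    rw [← U_fix_eq]
    exact Subgroup.mem_inf.2 ⟨h1, h2⟩
  have hU : ∀ L : List ℕ, (∀ r ∈ L, certFullF4.Pos r) →
      certFullF4.rootWord K₂ L ∈ chevF4.posUnipotent K₂ := fun L hL => rootWord_mem_U hL
  have h4 : ∀ r ∈ orootsOf 4, certFullF4.Pos r := fun r hr => (oroots_spec (by omega) r hr).1
  have hcfix : certFullF4.rootWord K₂ (orootsOf 4) ∈ (F4.tw f₀).fix :=
    std_one f₀ 4 ▸ std_fix f₀ hf₀ hK₀ (by omega) 1
  set cc : ↥(twistedF4 K₂ 1) :=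
    ⟨certFullF4.rootWord K₂ (orootsOf 4), (F4.datum f₀ hf₀ hK₀).mem_G₁ hcfix⟩ with hcc
  have hFc : F cc = Multiplicative.ofAdd 1 := by
    rw [hF cc (hgen _ (hU _ h4) hcfix)]
    show Multiplicative.ofAdd (chi (wd (orootsOf 4))) = _
    rw [chi_wd (fun r hr => (h4 r hr).2), chiBit_std, if_pos rfl]
  have hrep : ∀ i (hi : i < 2),
      (⟨reeRep K₂ i, reeRep_mem f₀ hf₀ hK₀ hi⟩ : ↥(twistedF4 K₂ 1)) ∈
        commutator ↥(twistedF4 K₂ 1) := fun i hi => by
    have hm : reeRep K₂ i ∈ genSub :=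
      hgen _ (hU _ (reeWords_pos hi)) (reeRep_fix f₀ hf₀ hK₀ hi)
    rw [← hker, MonoidHom.mem_ker, hF _ hm]
    show Multiplicative.ofAdd (chi (reeRep K₂ i)) = 1
    rw [chi_eq_zero_of_sq hm (reeRep_spec hi).1]
    rfl
  refine ncard_two ((twistedF4 K₂ 1).subtype.comp (commutator ↥(twistedF4 K₂ 1)).subtype)
    ((Subgroup.subtype_injective _).comp (Subgroup.subtype_injective _))
    (fun i => if hi : i < 2 then ⟨_, hrep i hi⟩ else 1) (fun i hi => by simp [hi]) fun g hg => ?_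
  obtain ⟨i, hi, x, hx, e⟩ := exists_conj_rep f₀ hf₀ hK₀ (g : ↥(twistedF4 K₂ 1)).2
    (by rw [Subgroup.orderOf_coe, Subgroup.orderOf_coe]; exact hg)
  set x' : ↥(twistedF4 K₂ 1) := ⟨x, hx⟩
  have hcases : ∀ a : Multiplicative K₂, a = 1 ∨ a = Multiplicative.ofAdd 1 := by decide
  obtain ⟨y, hy, ey⟩ : ∃ y : ↥(twistedF4 K₂ 1), F y = 1 ∧
      (y : GL chevF4.Idx K₂) * ((g : ↥(twistedF4 K₂ 1)) : GL chevF4.Idx K₂) *
        (y : GL chevF4.Idx K₂)⁻¹ = reeRep K₂ i := by
    rcases hcases (F x') with h | h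
    · exact ⟨x', h, e⟩
    refine ⟨cc * x', ?_, ?_⟩
    · rw [map_mul, hFc, h]; decide
    · have hc : Commute (certFullF4.rootWord K₂ (orootsOf 4)) (reeRep K₂ i) := (reeRep_spec hi).2.2
      show certFullF4.rootWord K₂ (orootsOf 4) * x * _ * (certFullF4.rootWord K₂ (orootsOf 4) * x)⁻¹ = _
      rw [show certFullF4.rootWord K₂ (orootsOf 4) * x *
        ((g : ↥(twistedF4 K₂ 1)) : GL chevF4.Idx K₂) *
        (certFullF4.rootWord K₂ (orootsOf 4) * x)⁻¹ =
        certFullF4.rootWord K₂ (orootsOf 4) * (x * ((g : ↥(twistedF4 K₂ 1)) : GL chevF4.Idx K₂) *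
          x⁻¹) * (certFullF4.rootWord K₂ (orootsOf 4))⁻¹ by group, e, hc.eq, mul_inv_cancel_right]
  refine ⟨i, hi, ⟨y, hker ▸ MonoidHom.mem_ker.2 hy⟩, ?_⟩
  refine Subtype.ext (Subtype.ext ?_)
  simp [hi, ey]

end Cfsg.Agent.Lie.Chev.F4Ree
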