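import Cfsg.Agent.Lib.Lie.Chev.EvenInv.Search
import Cfsg.Agent.Lib.Lie.Chev.EvenInv.MaskRank

/-! The classes of involutions from a certified search. -/

set_option autoImplicit false

namespace Cfsg.Agent.Lie.Chev

open Cfsg.Lie

namespace Tables

variable (T : Tables)

/-- The representatives are involutions with distinct pairs of ranks. -/
def checkReps (M nt : ℕ) (words : List (List ℕ)) (rks : List (ℕ × ℕ)) : Bool :=
  Nat.beq rks.length nt && T.checkMask M &&
    (List.range nt).all fun i =>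
      let W := words.getD i []
      let a := rks.getD i (0, 0)
      Nat.beq (T.rankBits W) a.1 && Nat.beq (T.rankBitsOn M W) a.2 && !(Nat.beq a.1 0) &&
        (T.collectOdd (W ++ W)).isEmpty &&
        (List.range nt).all fun j =>
          let b := rks.getD j (0, 0)
          Nat.beq i j || !(Nat.beq a.1 b.1 && Nat.beq a.2 b.2)

end Tables

namespace CertFull

variable {D : ChevalleyDatum} (c : CertFull D) {F : Type*} [Field F] [CharP F 2]
include c

/-- The classes of involutions, listed by the first words of a search. -/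
theorem involution_classes_search [Fintype F] {M nt : ℕ} {words : List (List ℕ)}
    {edges : List (ℕ × RootMove)} {rks : List (ℕ × ℕ)} {tr : SearchTree}
    (hsearch : c.T.checkSearch words tr [] c.T.h = true)
    (hwords : c.T.checkWords nt words edges = true) (hreps : c.T.checkReps M nt words rks = true)
    {L : List (Matrix D.Idx D.Idx F)}
    (hL : L = (List.range nt).map fun i =>
      ((c.rootWord F (words.getD i []) : GL D.Idx F) : Matrix _ _ F)) :
    (∀ y : GL D.Idx F, (y : Matrix D.Idx D.Idx F) ∈ L → y ∈ D.group F ∧ orderOf y = 2) ∧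
    (∀ g ∈ D.group F, orderOf g = 2 → ∃ y ∈ D.group F, (y : Matrix D.Idx D.Idx F) ∈ L ∧
      ∃ h ∈ D.group F, h * g * h⁻¹ = y) ∧
    (∀ y₁ ∈ D.group F, ∀ y₂ ∈ D.group F, (y₁ : Matrix D.Idx D.Idx F) ∈ L →
      (y₂ : Matrix D.Idx D.Idx F) ∈ L → (∃ h ∈ D.group F, h * y₁ * h⁻¹ = y₂) →
      (y₁ : Matrix D.Idx D.Idx F) = (y₂ : Matrix D.Idx D.Idx F)) := by
  subst hL
  have hw := hwords
  simp only [Tables.checkWords, Bool.and_eq_true, List.all_eq_true, Nat.blt_eq, Nat.ble_eq] at hw
  obtain ⟨⟨hlen, hpos⟩, -⟩ := hw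
  simp only [Tables.checkReps, Bool.and_eq_true, List.all_eq_true, List.mem_range, Nat.beq_eq,
    Bool.or_eq_true, List.isEmpty_iff] at hreps
  obtain ⟨⟨-, hM⟩, hrep⟩ := hreps
  have wpos : ∀ i < nt, ∀ r ∈ words.getD i [], c.Pos r := by
    intro i hi r hr
    have hl : i < words.length := by omega
    rw [List.getD_eq_getElem _ _ hl] at hr
    obtain ⟨h1, h2⟩ := hpos _ (List.getElem_mem hl) r hr
    exact ⟨h1, c.nroots_eq ▸ h2⟩
  have rk1 : ∀ i < nt, ((c.rootWord F (words.getD i []) : Matrix D.Idx D.Idx F) - 1).rank =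
      (rks.getD i (0, 0)).1 := fun i hi => by
    rw [← (hrep i hi).1.1.1.1]
    exact c.rank_word F _ fun r hr => (wpos i hi r hr).2
  have rk2 : ∀ i < nt, (((c.rootWord F (words.getD i []) : Matrix D.Idx D.Idx F) - 1) *
      c.maskMat F M).rank = (rks.getD i (0, 0)).2 := fun i hi => by
    rw [← (hrep i hi).1.1.1.2]
    exact c.rankOn_word (F := F) (M := M) _ fun r hr => (wpos i hi r hr).2
  have hord : ∀ i < nt, orderOf (c.rootWord F (words.getD i [])) = 2 := by
    intro i hi
    refine orderOf_eq_prime ?_ fun e => ?_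
    · rw [pow_two]
      exact c.rootWord_sq (wpos i hi) (hrep i hi).1.2
    · have h := rk1 i hi
      rw [e, Units.val_one, sub_self, Matrix.rank_zero] at h
      have h' := (hrep i hi).1.1.2
      rw [← h] at h'
      simp at h'
  have hinj : ∀ i < nt, ∀ j < nt, ∀ x ∈ D.group F,
      x * c.rootWord F (words.getD i []) * x⁻¹ = c.rootWord F (words.getD j []) → i = j := by
    intro i hi j hj x hx e
    by_contra hne
    have h := (hrep i hi).2 j hj
    have e1 : (rks.getD i (0, 0)).1 = (rks.getD j (0, 0)).1 := by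
      rw [← rk1 i hi, ← rk1 j hj, ← e, CertFull.rank_sub_one_conj]
    have e2 : (rks.getD i (0, 0)).2 = (rks.getD j (0, 0)).2 := by
      rw [← rk2 i hi, ← rk2 j hj, ← e, c.rankOn_conj hM hx]
    rw [e1, e2, Nat.beq_refl, Nat.beq_refl] at h
    simp at h
    exact hne h
  have get : ∀ y : GL D.Idx F, (y : Matrix D.Idx D.Idx F) ∈ ((List.range nt).map fun i =>
      ((c.rootWord F (words.getD i []) : GL D.Idx F) : Matrix _ _ F)) →
      ∃ i < nt, y = c.rootWord F (words.getD i []) := fun y hy => by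
    obtain ⟨i, hi, e⟩ := List.mem_map.1 hy
    exact ⟨i, List.mem_range.1 hi, Units.ext e.symm⟩
  refine ⟨fun y hy => ?_, fun g hg ho => ?_, fun y₁ _ y₂ _ h1 h2 h => ?_⟩
  · obtain ⟨i, hi, rfl⟩ := get y hy
    exact ⟨c.rootWord_mem (wpos i hi), hord i hi⟩
  · have hR : IsPGroup 2 ↥(Subgroup.zpowers g) :=
      IsPGroup.of_card (n := 1) (by rw [Nat.card_zpowers, ho, pow_one])
    obtain ⟨y, hy, h⟩ := c.exists_conj_into_U (p := 2) (by rw [Subgroup.zpowers_le]; exact hg) hR
    have hU := h g (Subgroup.mem_zpowers g)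
    rw [c.posUnipotent_eq] at hU
    have h2 : g * g = 1 := by rw [← pow_two, ← ho, pow_orderOf_eq_one]
    have hu2 : y⁻¹ * g * y * (y⁻¹ * g * y) = 1 := by
      rw [show y⁻¹ * g * y * (y⁻¹ * g * y) = y⁻¹ * (g * g) * y by group, h2]; group
    rcases c.search_sound tr [] c.T.h hsearch le_rfl (by simp) _ _ hU (by simp [rootWord]) hu2 with
      h | ⟨i, hi, x, hx, e⟩
    · exfalso
      have : g = 1 := by rw [show g = y * (y⁻¹ * g * y) * y⁻¹ by group, h]; group
      rw [this, orderOf_one] at ho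
      omega
    obtain ⟨j, hj, z, hz, ez⟩ := c.words_conj (F := F) hwords i hi
    refine ⟨_, c.rootWord_mem (wpos j hj), List.mem_map.2 ⟨j, List.mem_range.2 hj, rfl⟩,
      z * x * y⁻¹, mul_mem (mul_mem hz hx) (inv_mem hy), ?_⟩
    rw [← ez, ← e]; group
  · obtain ⟨i, hi, rfl⟩ := get y₁ h1
    obtain ⟨j, hj, rfl⟩ := get y₂ h2
    obtain ⟨x, hx, e⟩ := h
    rw [hinj i hi j hj x hx e]

end CertFull

end Cfsg.Agent.Lie.Chev
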