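import Cfsg.Agent.Lib.Lie.Chev.EvenInv.TwE6Search

/-! Generated data: the search for the involutions of ²E₆(q), q even. -/

set_option autoImplicit false
set_option maxRecDepth 20000

namespace Cfsg.Agent.Lie.Chev.E6Tw

/-- The surviving words, the representatives first. -/
def twWords : List (List ℕ) := [
  [71], [66, 68], [55, 65, 67], [66, 68, 69], [70], [69], [65], [65, 66, 68], [65, 69], [55, 67],
  [63], [63, 66, 68], [63, 70], [55, 63, 67], [54, 64], [54, 64, 69], [54, 63, 64], [60],
  [60, 66, 68], [60, 71], [55, 60, 67], [54, 60, 64], [53], [53, 55, 67], [53, 69], [53, 66, 68],
  [53, 54, 64], [53, 65], [55, 65, 66, 67, 68], [53, 55, 66, 67, 68], [53, 54, 64, 66, 68],
  [53, 65, 66, 68], [53, 65, 69], [52, 62], [52, 62, 70], [52, 62, 65], [52, 60, 62],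
  [52, 53, 62], [52, 53, 54, 62, 64, 65, 71], [52, 53, 62, 65, 71], [52, 53, 62, 65], [51],
  [51, 55, 67], [51, 70], [51, 66, 68], [51, 52, 62], [51, 63], [51, 52, 62, 66, 68],
  [51, 63, 66, 68], [51, 63, 70], [51, 54, 64], [51, 54, 63, 64, 71], [51, 54, 63, 64], [49, 61],
  [49, 61, 70], [49, 61, 69], [49, 60, 61], [49, 53, 61], [49, 53, 55, 61, 67, 69, 71],
  [49, 53, 55, 61, 67, 69], [49, 53, 61, 69], [49, 51, 61], [49, 51, 55, 61, 67, 70, 71],
  [49, 51, 55, 61, 67, 70], [49, 51, 61, 70], [45, 59], [45, 59, 71], [45, 59, 65], [45, 59, 63],
  [45, 53, 59], [45, 53, 54, 59, 64, 65, 70], [45, 53, 59, 65, 70], [45, 53, 59, 65],
  [45, 51, 59], [45, 51, 52, 59, 62, 63, 69], [45, 51, 59, 63, 69], [45, 51, 59, 63], [48, 50],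
  [48, 50, 70], [48, 50, 69], [48, 50, 65], [48, 50, 65, 66, 68, 69],
  [48, 50, 65, 66, 68, 69, 71], [48, 50, 65, 69], [48, 50, 63], [48, 50, 63, 66, 68, 70],
  [48, 50, 63, 66, 68, 70, 71], [48, 50, 63, 70], [44], [44, 55, 67], [44, 71], [44, 66, 68],
  [44, 54, 64], [44, 45, 59], [44, 60], [44, 45, 59, 66, 68], [44, 60, 66, 68], [44, 60, 71],
  [44, 54, 60, 64, 70], [44, 54, 60, 64], [44, 52, 62], [44, 52, 60, 62, 69], [44, 52, 60, 62],
  [44, 48, 50], [41, 58], [41, 58, 71], [41, 58, 69], [41, 58, 63], [41, 53, 58],
  [41, 53, 55, 58, 67, 69, 70], [41, 53, 55, 58, 67, 69], [41, 53, 58, 69], [41, 44, 58],
  [41, 44, 55, 58, 67, 70, 71], [41, 44, 58, 70, 71], [41, 44, 58, 71], [47], [47, 54, 64],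
  [47, 70], [47, 66, 68], [47, 55, 67], [47, 49, 61], [47, 63], [47, 49, 61, 66, 68],
  [47, 63, 66, 68], [47, 63, 70], [47, 55, 63, 67, 71], [47, 55, 63, 67], [47, 52, 62],
  [47, 52, 54, 62, 64], [47, 52, 62, 70, 71], [47, 52, 62, 70], [47, 48, 50], [47, 51],
  [47, 48, 50, 55, 67], [47, 51, 55, 67], [47, 51, 70], [47, 51, 66, 68, 71], [47, 51, 66, 68],
  [49, 51, 52, 61, 62, 63], [48, 50, 51, 52, 62, 63], [47, 48, 49, 50, 61, 63], [47, 48, 50, 63],
  [47, 51, 63], [49, 51, 52, 55, 61, 62, 67, 70, 71], [47, 49, 52, 54, 61, 62, 64, 70, 71],
  [47, 48, 50, 52, 54, 62, 64, 70, 71], [47, 48, 50, 52, 62, 70, 71], [47, 51, 52, 62, 70, 71],
  [47, 51, 63, 70, 71], [47, 51, 63, 70], [41, 47, 58], [41, 47, 49, 58, 61],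
  [41, 47, 58, 63, 65], [41, 47, 58, 63], [40, 43], [40, 43, 71], [40, 43, 69], [40, 43, 65],
  [40, 43, 65, 66, 68, 69], [40, 43, 65, 66, 68, 69, 70], [40, 43, 65, 69], [40, 43, 60],
  [40, 43, 60, 66, 68, 71], [40, 43, 60, 66, 68, 70, 71], [40, 43, 60, 71], [40, 43, 51],
  [40, 43, 47], [40, 43, 47, 48, 50, 51], [40, 43, 47, 48, 50, 51, 53], [40, 43, 47, 51],
  [38, 57], [38, 57, 71], [38, 57, 70], [38, 57, 65], [38, 51, 57], [38, 51, 55, 57, 67, 69, 70],
  [38, 51, 57, 69, 70], [38, 51, 57, 70], [38, 44, 57], [38, 44, 55, 57, 67, 69, 71],
  [38, 44, 57, 69, 71], [38, 44, 57, 71], [46], [46, 52, 62], [46, 69], [46, 66, 68],
  [46, 49, 61], [46, 65], [55, 63, 66, 67, 68], [51, 55, 66, 67, 68], [47, 54, 64, 66, 68],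
  [46, 52, 62, 66, 68], [46, 49, 61, 66, 68], [46, 65, 66, 68], [46, 65, 69], [46, 55, 67],
  [46, 55, 65, 67, 71], [46, 55, 65, 67], [46, 54, 64], [46, 52, 54, 62, 64],
  [46, 54, 64, 69, 71], [46, 54, 64, 69], [46, 48, 50], [46, 53], [46, 48, 50, 55, 67],
  [46, 53, 55, 67], [46, 53, 69], [46, 53, 66, 68, 71], [46, 53, 66, 68], [51, 54, 55, 64, 67],
  [47, 54, 55, 64, 67], [46, 52, 55, 62, 67], [46, 49, 54, 61, 64], [46, 48, 50, 54, 64],
  [46, 53, 54, 64], [46, 53, 65], [46, 48, 50, 54, 64, 69, 71], [46, 53, 54, 64, 69, 71],
  [46, 53, 65, 69, 71], [46, 53, 65, 69], [38, 46, 57], [38, 46, 49, 57, 61],
  [38, 46, 57, 63, 65], [38, 46, 57, 65], [39], [39, 54, 64], [39, 71], [39, 66, 68],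
  [39, 55, 67], [39, 41, 58], [39, 60], [39, 41, 58, 66, 68], [39, 60, 66, 68], [39, 60, 71],
  [39, 55, 60, 67, 70], [39, 55, 60, 67], [39, 49, 61], [39, 41, 49, 58, 61],
  [39, 49, 60, 61, 65], [39, 49, 60, 61], [39, 45, 59], [39, 45, 54, 59, 64],
  [39, 45, 59, 70, 71], [39, 45, 59, 71], [39, 48, 50], [39, 40, 43], [39, 44],
  [39, 40, 43, 55, 67], [39, 44, 55, 67], [39, 44, 71], [39, 44, 66, 68, 70], [39, 44, 66, 68],
  [41, 44, 45, 58, 59, 60], [40, 43, 44, 45, 59, 60], [39, 40, 41, 43, 58, 60], [39, 40, 43, 60],
  [39, 44, 60], [41, 44, 45, 55, 58, 59, 67, 70, 71], [39, 41, 45, 54, 58, 59, 64, 70, 71],
  [39, 40, 43, 45, 54, 59, 64, 70, 71], [39, 40, 43, 45, 59, 70, 71], [39, 44, 45, 59, 70, 71],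
  [39, 44, 60, 70, 71], [39, 44, 60, 71], [39, 44, 48, 50], [37, 42], [37, 42, 71], [37, 42, 70],
  [37, 42, 63], [37, 42, 63, 66, 68, 70], [37, 42, 63, 66, 68, 69, 70], [37, 42, 63, 70],
  [37, 42, 60], [37, 42, 60, 66, 68, 71], [37, 42, 60, 66, 68, 69, 71], [37, 42, 60, 71],
  [37, 42, 53], [37, 42, 46], [37, 42, 46, 48, 50, 53], [37, 42, 46, 51, 53], [37, 42, 46, 53],
  [36, 56], [36, 56, 71], [36, 56, 70], [36, 56, 69], [36, 47, 56], [36, 47, 54, 56, 64, 65, 70],
  [36, 47, 56, 65, 70], [36, 47, 56, 70], [36, 46, 56], [36, 46, 52, 56, 62, 63, 69],
  [36, 46, 56, 63, 69], [36, 46, 56, 69], [36, 39, 56], [36, 39, 54, 56, 64, 65, 71],
  [36, 39, 56, 65, 71], [36, 39, 56, 71]]

/-- The moves connecting the words. -/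
def twEdges : List (ℕ × TwMove) := [
  (0, .weyl 0), (4, .weyl 1), (5, .weyl 2), (3, .weyl 2), (7, .std 1), (1, .weyl 3),
  (6, .weyl 1), (7, .weyl 1), (11, .std 5), (2, .weyl 1), (9, .weyl 2), (2, .weyl 2),
  (13, .weyl 2), (10, .weyl 0), (11, .weyl 0), (18, .std 9), (13, .weyl 0), (20, .weyl 2),
  (6, .weyl 3), (7, .weyl 3), (23, .std 4), (2, .weyl 3), (23, .weyl 2), (26, .std 0),
  (2, .std 0), (28, .weyl 3), (29, .weyl 2), (30, .std 0), (31, .std 1), (14, .weyl 1),
  (15, .weyl 1), (16, .weyl 1), (21, .weyl 1), (35, .weyl 3), (37, .std 0), (38, .std 2),
  (39, .std 12), (10, .weyl 3), (11, .weyl 3), (42, .std 7), (13, .weyl 3), (26, .weyl 1),
  (45, .std 0), (30, .weyl 1), (47, .std 0), (48, .std 5), (16, .weyl 3), (39, .weyl 1),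
  (51, .std 14), (33, .weyl 2), (34, .weyl 2), (35, .weyl 2), (36, .weyl 2), (37, .weyl 2),
  (57, .std 4), (58, .std 6), (59, .std 8), (57, .weyl 1), (61, .std 7), (62, .std 3),
  (63, .std 8), (33, .weyl 0), (34, .weyl 0), (35, .weyl 0), (36, .weyl 0), (67, .weyl 3),
  (69, .std 0), (70, .std 6), (71, .std 8), (68, .weyl 3), (73, .std 0), (74, .std 3),
  (75, .std 8), (53, .weyl 3), (54, .weyl 3), (55, .weyl 3), (79, .weyl 2), (80, .std 1),
  (81, .std 6), (82, .std 15), (80, .weyl 1), (84, .std 5), (85, .std 3), (86, .std 15),
  (17, .weyl 3), (18, .weyl 3), (89, .std 11), (20, .weyl 3), (21, .weyl 3), (45, .weyl 0),
  (93, .std 0), (47, .weyl 0), (95, .std 0), (96, .std 9), (51, .weyl 0), (98, .std 14),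
  (36, .weyl 3), (75, .weyl 0), (101, .std 12), (56, .weyl 3), (65, .weyl 2), (66, .weyl 2),
  (67, .weyl 2), (68, .weyl 2), (69, .weyl 2), (108, .std 4), (109, .std 2), (110, .std 12),
  (61, .weyl 0), (112, .std 11), (113, .std 12), (114, .std 19), (41, .weyl 2), (42, .weyl 2),
  (117, .std 10), (44, .weyl 2), (50, .weyl 2), (45, .weyl 2), (121, .std 4), (47, .weyl 2),
  (123, .std 4), (124, .std 5), (51, .weyl 2), (126, .std 14), (61, .weyl 2), (128, .std 2),
  (129, .std 10), (130, .std 3), (121, .weyl 3), (132, .std 1), (123, .weyl 3), (134, .std 1),
  (135, .std 7), (126, .weyl 3), (137, .std 19), (61, .std 0), (139, .weyl 3), (140, .weyl 2),
  (141, .std 0), (142, .std 1), (62, .std 1), (144, .weyl 2), (145, .weyl 3), (146, .std 2),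
  (147, .std 1), (148, .std 0), (149, .std 3), (73, .weyl 2), (151, .std 3), (152, .std 4),
  (153, .std 2), (104, .weyl 3), (105, .weyl 3), (106, .weyl 3), (157, .weyl 2), (158, .std 1),
  (159, .std 2), (160, .std 17), (84, .weyl 0), (162, .std 9), (163, .std 14), (164, .std 17),
  (107, .weyl 3), (166, .weyl 2), (167, .std 1), (168, .std 2), (169, .std 3), (104, .weyl 1),
  (105, .weyl 1), (106, .weyl 1), (107, .weyl 1), (108, .weyl 1), (175, .std 7), (176, .std 14),
  (177, .std 15), (175, .weyl 0), (179, .std 11), (180, .std 14), (181, .std 17), (116, .weyl 1),
  (117, .weyl 1), (184, .std 10), (119, .weyl 1), (184, .weyl 2), (187, .std 7), (13, .std 0),
  (189, .weyl 3), (190, .weyl 2), (191, .weyl 1), (192, .weyl 2), (193, .std 7), (194, .std 1),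
  (120, .weyl 1), (126, .weyl 1), (197, .std 12), (196, .weyl 2), (129, .weyl 1), (200, .std 10),
  (201, .std 6), (187, .weyl 3), (203, .std 5), (193, .weyl 3), (205, .std 5), (206, .std 4),
  (197, .weyl 3), (208, .std 17), (50, .std 1), (210, .weyl 2), (211, .weyl 1), (212, .weyl 2),
  (213, .weyl 3), (214, .std 5), (215, .std 0), (147, .weyl 1), (217, .std 5), (218, .std 0),
  (219, .std 6), (151, .weyl 1), (221, .std 6), (222, .std 7), (223, .std 15), (88, .weyl 2),
  (89, .weyl 2), (226, .std 13), (91, .weyl 2), (92, .weyl 2), (93, .weyl 2), (230, .std 4),
  (95, .weyl 2), (232, .std 4), (233, .std 9), (98, .weyl 2), (235, .std 14), (100, .weyl 2),
  (152, .weyl 0), (238, .std 4), (239, .std 6), (112, .weyl 2), (241, .std 6), (242, .std 13),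
  (243, .std 21), (103, .weyl 2), (230, .weyl 3), (246, .std 1), (232, .weyl 3), (248, .std 1),
  (249, .std 11), (235, .weyl 3), (251, .std 19), (112, .std 0), (253, .weyl 3), (254, .weyl 2),
  (255, .std 0), (256, .std 1), (113, .std 1), (258, .weyl 2), (259, .weyl 3), (260, .std 6),
  (261, .std 1), (262, .std 0), (263, .std 14), (170, .weyl 0), (171, .weyl 3), (172, .weyl 3),
  (173, .weyl 3), (158, .weyl 1), (269, .std 5), (270, .std 8), (271, .std 19), (269, .weyl 0),
  (273, .std 9), (274, .std 12), (275, .std 19), (174, .weyl 3), (167, .weyl 1), (278, .std 5),
  (279, .std 6), (280, .std 8), (171, .weyl 2), (172, .weyl 2), (173, .weyl 2), (174, .weyl 2),
  (175, .weyl 2), (286, .std 10), (287, .std 14), (288, .std 15), (221, .weyl 2), (290, .std 10),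
  (291, .std 12), (292, .std 15), (179, .weyl 2), (294, .std 13), (295, .std 14), (296, .std 17)]

/-- The search tree. -/
def twTree : TwTree :=
  (.scale [-1, 0, 0, 0, 0, 0]
   (.scale [-1, 0, 0, 0, 0, 0]
    (.scale [0, 0, -1, 0, 0, 0]
     (.scale [0, 0, 0, 0, -1, 0]
      (.scale [-1, 0, 0, 0, 0, 0]
       (.scale [-1, 0, 0, 0, 0, 0]
        (.scale [0, 0, -1, 0, 0, 0]
         (.scale [-1, 0, 0, 0, 0, 0]
          (.scale [-1, 0, 0, 0, 0, 0]
           (.scale [-1, 0, 0, 0, 0, 0]
            (.scale [0, 0, -1, 0, 0, 0]
             (.scale [-1, 0, 0, 0, 0, 0]
              (.scale [-1, 0, 0, 0, 0, 0]
               (.scale [0, 0, -1, 0, 0, 0]
                (.scale [-1, 0, 0, 0, 0, 0]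
                 (.scale [-1, 0, 0, 0, 0, 0]
                  (.scale [0, 0, -1, 0, 0, 0]
                   (.scale [-1, 0, 0, 0, 0, 0]
                    (.scale [-1, 0, 0, 0, 0, 0]
                    (.scale [-1, 0, 0, 0, 0, 0]
                    (.scale [-1, 0, 0, 0, 0, 0]
                    (.scale [0, 0, -1, 0, 0, 0]
                    (.scale [0, 0, 0, 0, -1, 0]
                    (.scale [0, 0, 0, 0, -1, 0]
                    (.leaf 0)
                    (.leaf 0))
                    (.drop 3
                    (.leaf 4)))
                    (.drop 2
                    (.drop 6
                    (.leaf 5))))
                    (.drop 1
                    (.drop 5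
                    (.drop 9
                    (.leaf 1)))))
                    (.drop 1
                    (.scale [-1, 0, -1, 0, 0, 0]
                    (.drop 8
                    (.drop 12
                    (.leaf 6)))
                    (.drop 2
                    (.drop 6
                    (.leaf 8))))))
                    (.scale [0, 0, 0, 0, 0, -1]
                    (.drop 0
                    (.drop 4
                    (.drop 7
                    (.drop 11
                    (.leaf 9)))))
                    (.drop 0
                    (.drop 4
                    (.drop 7
                    (.drop 11
                    (.leaf 2)))))))
                    (.scale [0, 0, -1, 0, 0, 0]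
                    (.drop 2
                    (.drop 5
                    (.drop 8
                    (.scale [-1, 0, 0, 0, 0, -1]
                    (.drop 14
                    (.leaf 10))
                    (.drop 3
                    (.leaf 12))))))
                    (.drop 2
                    (.drop 0
                    (.drop 4
                    (.drop 7
                    (.drop 11
                    (.leaf 13))))))))
                   (.scale [0, 0, 0, 0, -1, 0]
                    (.drop 1
                    (.drop 0
                    (.drop 4
                    (.scale [0, 0, -1, -1, 0, -1]
                    (.drop 10
                    (.drop 13
                    (.leaf 14)))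
                    (.drop 2
                    (.drop 6
                    (.leaf 15)))))))
                    (.drop 1
                    (.drop 0
                    (.drop 4
                    (.drop 8
                    (.drop 10
                    (.drop 13
                    (.leaf 16)))))))))
                  (.scale [0, 0, -1, 0, 0, 0]
                   (.drop 3
                    (.scale [0, 0, -1, 0, 0, 0]
                    (.drop 6
                    (.drop 9
                    (.drop 12
                    (.drop 14
                    (.scale [-1, 0, 0, 0, -1, 0]
                    (.leaf 17)
                    (.leaf 19))))))
                    (.drop 6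
                    (.drop 0
                    (.drop 4
                    (.drop 7
                    (.drop 11
                    (.leaf 20))))))))
                   (.drop 3
                    (.drop 1
                    (.drop 0
                    (.drop 4
                    (.drop 12
                    (.drop 10
                    (.drop 13
                    (.leaf 21))))))))))
                 (.kill 70
                  (.drop 0
                   (.kill 71
                    (.drop 4
                    (.scale [0, 0, -1, 0, 0, 0]
                    (.scale [-1, 0, 0, 0, 0, -1]
                    (.scale [0, 0, -1, 0, 0, 0]
                    (.drop 15
                    (.drop 17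
                    (.leaf 22)))
                    (.drop 2
                    (.drop 6
                    (.leaf 24))))
                    (.drop 1
                    (.drop 5
                    (.drop 9
                    (.leaf 25)))))
                    (.drop 1
                    (.scale [-1, 0, -2, 0, 0, -1]
                    (.drop 8
                    (.drop 12
                    (.leaf 27)))
                    (.drop 2
                    (.drop 6
                    (.leaf 32)))))))))))
                (.scale [-1, -1, 0, 0, 0, 0]
                 (.scale [-1, -1, 0, 0, 0, 0]
                  (.kfix 71 2
                   (.drop 0
                    (.drop 5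
                    (.scale [-1, -1, 0, 0, 0, 0]
                    (.drop 7
                    (.drop 10
                    (.scale [0, 0, -1, -1, 0, -1]
                    (.drop 16
                    (.leaf 33))
                    (.drop 3
                    (.leaf 34)))))
                    (.drop 1
                    (.drop 10
                    (.drop 8
                    (.drop 12
                    (.leaf 35)))))))))
                  (.kfix 71 2
                   (.drop 0
                    (.drop 5
                    (.drop 6
                    (.drop 7
                    (.drop 10
                    (.drop 14
                    (.drop 16
                    (.leaf 36))))))))))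
                 (.kill 70
                  (.drop 0
                   (.kill 71
                    (.drop 4
                    (.scale [0, 0, -1, -1, 1, 0]
                    (.drop 7
                    (.drop 10
                    (.drop 15
                    (.drop 16
                    (.leaf 37)))))
                    (.drop 1
                    (.drop 10
                    (.drop 8
                    (.drop 12
                    (.leaf 40))))))))))))
               (.drop 0
                (.drop 2
                 (.kill 69
                  (.scale [-1, 0, -1, 0, 0, 0]
                   (.scale [-1, 0, -1, 0, 0, 0]
                    (.drop 7
                    (.kill 71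
                    (.scale [-1, 0, -1, 0, 0, 0]
                    (.drop 15
                    (.scale [-1, 0, 0, 0, -1, 0]
                    (.drop 19
                    (.leaf 41))
                    (.drop 3
                    (.leaf 43))))
                    (.drop 1
                    (.drop 5
                    (.drop 9
                    (.leaf 44)))))))
                    (.drop 7
                    (.kill 71
                    (.drop 5
                    (.drop 8
                    (.scale [-1, 0, -2, 0, 0, -1]
                    (.drop 14
                    (.leaf 46))
                    (.drop 3
                    (.leaf 49))))))))
                   (.scale [-1, -1, 0, 0, -2, 0]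
                    (.drop 1
                    (.kill 71
                    (.drop 4
                    (.drop 15
                    (.drop 10
                    (.drop 13
                    (.leaf 50)))))))
                    (.drop 1
                    (.kill 71
                    (.drop 4
                    (.drop 8
                    (.drop 10
                    (.drop 13
                    (.leaf 52)))))))))))))
              (.scale [0, 0, 0, 0, 0, -1]
               (.drop 1
                (.scale [0, 0, 0, 0, 0, -1]
                 (.scale [-1, 0, 0, -1, 0, 0]
                  (.drop 5
                   (.drop 4
                    (.kfix 71 8
                    (.drop 7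
                    (.drop 10
                    (.scale [0, 0, 0, 0, 0, -1]
                    (.scale [0, 0, 0, 0, 0, -1]
                    (.drop 18
                    (.leaf 53))
                    (.drop 3
                    (.leaf 54)))
                    (.drop 2
                    (.drop 6
                    (.leaf 55)))))))))
                  (.drop 5
                   (.drop 3
                    (.kfix 71 8
                    (.drop 6
                    (.drop 9
                    (.drop 12
                    (.drop 14
                    (.drop 18
                    (.leaf 56))))))))))
                 (.kill 70
                  (.drop 0
                   (.drop 4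
                    (.kfix 71 8
                    (.drop 7
                    (.drop 10
                    (.scale [0, 0, -1, -1, -1, 0]
                    (.drop 15
                    (.drop 17
                    (.leaf 57)))
                    (.drop 2
                    (.drop 6
                    (.leaf 60))))))))))))
               (.drop 0
                (.drop 2
                 (.kill 69
                  (.drop 5
                   (.drop 4
                    (.drop 7
                    (.kill 71
                    (.drop 10
                    (.drop 15
                    (.scale [-1, -1, 0, 0, 1, 3]
                    (.drop 18
                    (.leaf 61))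
                    (.drop 3
                    (.leaf 64))))))))))))))
             (.kill 66
              (.scale [0, 0, 0, 0, 0, -1]
               (.kfix 69 3
                (.scale [0, 0, 0, 0, 0, -1]
                 (.drop 0
                  (.kfix 70 6
                   (.scale [0, 0, 0, 0, 0, -1]
                    (.drop 9
                    (.scale [0, 0, 0, 0, 0, -1]
                    (.drop 11
                    (.drop 13
                    (.drop 16
                    (.scale [0, 0, -1, -1, -1, 0]
                    (.leaf 65)
                    (.leaf 66)))))
                    (.drop 1
                    (.drop 13
                    (.drop 8
                    (.drop 12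
                    (.leaf 67)))))))
                    (.drop 9
                    (.drop 2
                    (.drop 5
                    (.drop 8
                    (.drop 16
                    (.drop 14
                    (.leaf 68))))))))))
                 (.drop 0
                  (.kfix 70 6
                   (.kill 71
                    (.drop 4
                    (.scale [0, 0, -1, -1, -1, 0]
                    (.drop 11
                    (.drop 13
                    (.drop 15
                    (.drop 17
                    (.leaf 69)))))
                    (.drop 1
                    (.drop 13
                    (.drop 8
                    (.drop 12
                    (.leaf 72))))))))))))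
               (.drop 0
                (.drop 2
                 (.kill 69
                  (.kfix 70 6
                   (.scale [-1, -1, 0, 0, 0, 2]
                    (.drop 7
                    (.kill 71
                    (.drop 11
                    (.drop 13
                    (.drop 16
                    (.drop 19
                    (.leaf 73)))))))
                    (.drop 7
                    (.kill 71
                    (.drop 5
                    (.drop 8
                    (.drop 16
                    (.drop 14
                    (.leaf 76)))))))))))))))
            (.kill 55
             (.drop 0
              (.drop 1
               (.drop 4
                (.drop 5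
                 (.kill 66
                  (.drop 7
                   (.scale [0, 0, 0, 0, 0, -1]
                    (.drop 10
                    (.scale [0, 0, 0, 0, 0, -1]
                    (.kfix 71 15
                    (.scale [0, 0, 0, 0, 0, -1]
                    (.scale [0, 0, 0, 0, 0, -1]
                    (.drop 20
                    (.leaf 77))
                    (.drop 3
                    (.leaf 78)))
                    (.drop 2
                    (.drop 6
                    (.leaf 79)))))
                    (.kfix 71 15
                    (.scale [-2, 0, -1, 0, -1, 1]
                    (.drop 8
                    (.drop 12
                    (.leaf 80)))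
                    (.drop 2
                    (.drop 6
                    (.leaf 83)))))))
                    (.drop 10
                    (.drop 2
                    (.kfix 71 15
                    (.drop 8
                    (.scale [-1, -1, 0, 0, -1, -3]
                    (.drop 14
                    (.leaf 84))
                    (.drop 3
                    (.leaf 87))))))))))))))))
           (.scale [-1, 0, -1, 0, 0, 0]
            (.drop 0
             (.kill 55
              (.drop 3
               (.scale [-1, 0, -1, 0, 0, 0]
                (.drop 6
                 (.scale [-1, 0, -1, 0, 0, 0]
                  (.scale [-1, 0, -1, 0, 0, 0]
                   (.kill 69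
                    (.drop 11
                    (.kill 70
                    (.scale [-1, 0, -1, 0, 0, 0]
                    (.drop 17
                    (.drop 19
                    (.scale [-1, 0, 0, 0, 1, 0]
                    (.leaf 88)
                    (.leaf 90))))
                    (.drop 1
                    (.drop 5
                    (.drop 9
                    (.leaf 91))))))))
                   (.kill 69
                    (.drop 1
                    (.kill 70
                    (.drop 4
                    (.drop 17
                    (.drop 10
                    (.drop 13
                    (.leaf 92)))))))))
                  (.scale [0, 0, -1, 1, 0, -1]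
                   (.kill 69
                    (.drop 11
                    (.kill 70
                    (.drop 9
                    (.drop 12
                    (.drop 14
                    (.scale [-1, 0, -2, 0, -1, 0]
                    (.leaf 94)
                    (.leaf 97))))))))
                   (.kill 69
                    (.drop 1
                    (.kill 70
                    (.drop 4
                    (.drop 12
                    (.drop 10
                    (.drop 13
                    (.leaf 99)))))))))))
                (.drop 6
                 (.scale [-1, -1, -1, -1, 0, -1]
                  (.kfix 71 2
                   (.kill 69
                    (.drop 5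
                    (.kill 70
                    (.drop 7
                    (.drop 10
                    (.drop 19
                    (.drop 16
                    (.leaf 100)))))))))
                  (.kfix 71 2
                   (.kill 69
                    (.drop 5
                    (.kill 70
                    (.drop 7
                    (.drop 10
                    (.drop 14
                    (.drop 16
                    (.leaf 102)))))))))))))))
            (.drop 0
             (.kill 55
              (.drop 1
               (.drop 4
                (.drop 5
                 (.kill 66
                  (.drop 7
                   (.kill 69
                    (.drop 10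
                    (.kill 70
                    (.kfix 71 15
                    (.drop 17
                    (.drop 19
                    (.drop 20
                    (.leaf 103)))))))))))))))))
          (.scale [0, 0, 0, 0, -1, -1]
           (.kill 54
            (.drop 1
             (.kfix 65 3
              (.kill 55
               (.kill 66
                (.scale [-1, 0, 0, -1, 0, 0]
                 (.drop 4
                  (.drop 9
                   (.scale [-1, 0, 0, -1, 0, 0]
                    (.kfix 70 12
                    (.drop 11
                    (.drop 13
                    (.scale [-1, 0, 0, -1, 0, 0]
                    (.drop 18
                    (.scale [0, 0, 0, 0, -1, -1]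
                    (.leaf 104)
                    (.leaf 105)))
                    (.drop 2
                    (.drop 6
                    (.leaf 106)))))))
                    (.kfix 70 12
                    (.drop 2
                    (.drop 5
                    (.drop 8
                    (.drop 18
                    (.drop 14
                    (.leaf 107))))))))))
                 (.drop 4
                  (.drop 0
                   (.kill 71
                    (.kfix 70 12
                    (.drop 11
                    (.drop 13
                    (.scale [0, 0, -1, -1, 1, 0]
                    (.drop 15
                    (.drop 17
                    (.leaf 108)))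
                    (.drop 2
                    (.drop 6
                    (.leaf 111))))))))))))))))
           (.kill 54
            (.drop 0
             (.kfix 65 3
              (.kill 55
               (.kill 66
                (.drop 6
                 (.drop 4
                  (.drop 9
                   (.kill 69
                    (.drop 11
                    (.kill 70
                    (.drop 13
                    (.drop 17
                    (.drop 18
                    (.scale [-1, -1, 0, 0, 2, 3]
                    (.leaf 112)
                    (.leaf 115))))))))))))))))))
         (.scale [-1, 0, 0, 0, 0, 0]
          (.kill 53
           (.drop 1
            (.kill 54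
             (.drop 4
              (.scale [-1, 0, 0, 0, 0, 0]
               (.scale [0, 0, -1, 0, 0, -1]
                (.drop 8
                 (.kill 65
                  (.drop 10
                   (.scale [-1, 0, 0, 0, 0, 0]
                    (.scale [-1, 0, 0, 0, 0, 0]
                    (.drop 15
                    (.scale [-1, 0, 0, 0, 0, 0]
                    (.kill 71
                    (.scale [0, 0, -1, 0, -1, 0]
                    (.drop 21
                    (.leaf 116))
                    (.drop 3
                    (.leaf 118))))
                    (.kill 71
                    (.drop 5
                    (.drop 9
                    (.leaf 119))))))
                    (.drop 15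
                    (.drop 0
                    (.kill 71
                    (.drop 7
                    (.drop 11
                    (.leaf 120)))))))
                    (.scale [-1, 0, 0, 1, 1, 0]
                    (.drop 2
                    (.drop 5
                    (.kill 71
                    (.scale [-1, 0, -1, 0, 0, -1]
                    (.drop 14
                    (.leaf 122))
                    (.drop 3
                    (.leaf 125))))))
                    (.drop 2
                    (.drop 0
                    (.kill 71
                    (.drop 7
                    (.drop 11
                    (.leaf 127)))))))))))
                (.drop 8
                 (.kill 65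
                  (.drop 10
                   (.drop 0
                    (.drop 5
                    (.drop 15
                    (.drop 7
                    (.kill 71
                    (.scale [0, 0, -2, -2, -1, -3]
                    (.drop 16
                    (.leaf 128))
                    (.drop 3
                    (.leaf 131))))))))))))
               (.drop 0
                (.drop 2
                 (.kill 65
                  (.drop 10
                   (.scale [0, 0, -1, 0, 0, -1]
                    (.drop 7
                    (.drop 15
                    (.scale [-2, 0, 0, 0, -1, 1]
                    (.kill 71
                    (.scale [0, 0, -1, 0, 0, -1]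
                    (.drop 19
                    (.leaf 133))
                    (.drop 3
                    (.leaf 136))))
                    (.kill 71
                    (.drop 5
                    (.drop 9
                    (.leaf 138)))))))
                    (.drop 7
                    (.drop 15
                    (.drop 5
                    (.kill 71
                    (.scale [-2, 0, -3, -1, -1, -3]
                    (.drop 14
                    (.leaf 143))
                    (.drop 3
                    (.leaf 150)))))))))))))))))
          (.kill 53
           (.drop 1
            (.kill 54
             (.drop 4
              (.kill 55
               (.kill 66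
                (.drop 8
                 (.kill 65
                  (.drop 9
                   (.scale [-1, 0, 1, 0, 0, 1]
                    (.kfix 70 12
                    (.drop 11
                    (.drop 13
                    (.kill 71
                    (.drop 18
                    (.drop 21
                    (.leaf 151)))))))
                    (.kfix 70 12
                    (.drop 2
                    (.drop 5
                    (.kill 71
                    (.drop 18
                    (.drop 14
                    (.leaf 154)))))))))))))))))))
        (.scale [0, 0, -1, -1, 0, 0]
         (.drop 0
          (.drop 1
           (.kfix 53 3
            (.drop 4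
             (.kill 54
              (.scale [0, 0, -1, -1, 0, 0]
               (.kill 55
                (.drop 9
                 (.scale [0, 0, 0, 0, -1, -1]
                  (.drop 11
                   (.kill 66
                    (.drop 13
                    (.scale [0, 0, -1, -1, 0, 0]
                    (.kfix 70 17
                    (.scale [0, 0, -1, -1, 0, 0]
                    (.drop 20
                    (.scale [0, 0, 0, 0, -1, -1]
                    (.leaf 155)
                    (.leaf 156)))
                    (.drop 2
                    (.drop 6
                    (.leaf 157)))))
                    (.kfix 70 17
                    (.scale [-1, -1, -1, -1, 1, 0]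
                    (.drop 8
                    (.drop 12
                    (.leaf 158)))
                    (.drop 2
                    (.drop 6
                    (.leaf 161)))))))))
                  (.drop 11
                   (.kill 66
                    (.drop 13
                    (.drop 6
                    (.kfix 70 17
                    (.drop 12
                    (.drop 14
                    (.scale [-1, -1, 0, 0, -2, -3]
                    (.leaf 162)
                    (.leaf 165))))))))))))
               (.kill 55
                (.drop 2
                 (.kill 69
                  (.drop 11
                   (.kill 66
                    (.drop 7
                    (.kill 71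
                    (.kfix 70 17
                    (.drop 15
                    (.drop 20
                    (.drop 19
                    (.leaf 166))))))))))))))))))
         (.drop 0
          (.drop 1
           (.kfix 53 3
            (.drop 4
             (.kill 54
              (.scale [-2, 0, -1, 0, 0, -1]
               (.kill 55
                (.drop 8
                 (.kill 65
                  (.drop 10
                   (.kill 66
                    (.drop 13
                    (.drop 15
                    (.kfix 70 17
                    (.kill 71
                    (.drop 20
                    (.drop 21
                    (.leaf 167))))))))))))
               (.kill 55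
                (.drop 2
                 (.kill 65
                  (.drop 10
                   (.kill 66
                    (.drop 7
                    (.drop 15
                    (.kfix 70 17
                    (.kill 71
                    (.drop 20
                    (.drop 19
                    (.leaf 170))))))))))))))))))))
       (.kill 45
        (.kill 49
         (.kfix 60 2
          (.scale [0, 0, 0, 0, -1, 0]
           (.kill 52
            (.drop 5
             (.kfix 63 6
              (.scale [0, 0, 0, 0, -1, 0]
               (.drop 9
                (.kill 55
                 (.drop 7
                  (.kill 66
                   (.drop 11
                    (.kfix 69 14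
                    (.scale [-1, 0, 1, 0, 0, 0]
                    (.drop 16
                    (.drop 18
                    (.scale [0, 0, 0, 0, -1, 0]
                    (.scale [0, 0, 0, 0, -1, 0]
                    (.leaf 171)
                    (.leaf 172))
                    (.drop 3
                    (.leaf 173)))))
                    (.drop 1
                    (.drop 18
                    (.drop 8
                    (.drop 12
                    (.leaf 174))))))))))))
               (.drop 0
                (.kill 55
                 (.drop 7
                  (.kill 66
                   (.drop 11
                    (.kfix 69 14
                    (.kill 71
                    (.drop 16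
                    (.drop 15
                    (.scale [-1, 0, 1, 0, -2, 0]
                    (.drop 19
                    (.leaf 175))
                    (.drop 3
                    (.leaf 178))))))))))))))))
           (.kill 52
            (.drop 0
             (.kfix 63 6
              (.drop 3
               (.drop 9
                (.kill 55
                 (.drop 7
                  (.kill 66
                   (.drop 11
                    (.kfix 69 14
                    (.kill 70
                    (.drop 16
                    (.drop 17
                    (.drop 19
                    (.scale [-1, 0, 1, 0, 2, 0]
                    (.leaf 179)
                    (.leaf 182)))))))))))))))))))))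
      (.scale [-1, 0, 0, 0, 0, 0]
       (.kill 48
        (.drop 2
         (.kill 49
          (.kill 51
           (.drop 5
            (.kill 52
             (.drop 7
              (.drop 8
               (.drop 10
                (.scale [-1, 0, 0, 0, 0, 0]
                 (.kill 63
                  (.scale [0, 0, -1, 0, 0, 0]
                   (.drop 15
                    (.scale [-1, 0, 0, 0, 0, 0]
                    (.scale [-1, 0, 0, 0, 0, 0]
                    (.scale [-1, 0, 0, 0, 0, 0]
                    (.scale [0, 0, -1, 0, 0, 0]
                    (.kill 71
                    (.drop 22
                    (.leaf 183)))
                    (.kill 71
                    (.drop 6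
                    (.leaf 185))))
                    (.drop 1
                    (.kill 71
                    (.drop 9
                    (.leaf 186)))))
                    (.drop 1
                    (.scale [-1, 0, -1, 0, 0, 0]
                    (.kill 71
                    (.drop 12
                    (.leaf 188)))
                    (.kill 71
                    (.drop 6
                    (.leaf 195))))))
                    (.scale [0, 0, 0, 0, -1, -2]
                    (.drop 0
                    (.drop 4
                    (.kill 71
                    (.drop 11
                    (.leaf 196)))))
                    (.drop 0
                    (.drop 4
                    (.kill 71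
                    (.drop 11
                    (.leaf 198))))))))
                   (.drop 15
                    (.drop 1
                    (.drop 0
                    (.drop 4
                    (.scale [0, 0, -2, -2, -1, -2]
                    (.kill 71
                    (.drop 13
                    (.leaf 199)))
                    (.kill 71
                    (.drop 6
                    (.leaf 202))))))))))
                 (.kill 63
                  (.drop 0
                   (.drop 15
                    (.drop 4
                    (.scale [0, 0, -1, 0, 0, 0]
                    (.scale [-2, 0, 0, 0, -1, -2]
                    (.scale [0, 0, -1, 0, 0, 0]
                    (.kill 71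
                    (.drop 17
                    (.leaf 204)))
                    (.kill 71
                    (.drop 6
                    (.leaf 207))))
                    (.drop 1
                    (.kill 71
                    (.drop 9
                    (.leaf 209)))))
                    (.drop 1
                    (.scale [-2, 0, -3, -1, -1, -2]
                    (.kill 71
                    (.drop 12
                    (.leaf 216)))
                    (.kill 71
                    (.drop 6
                    (.leaf 220))))))))))))))))))))
       (.kill 48
        (.drop 2
         (.kill 49
          (.kill 51
           (.drop 5
            (.kill 52
             (.drop 7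
              (.drop 8
               (.drop 9
                (.kill 55
                 (.kill 63
                  (.kill 66
                   (.drop 11
                    (.kfix 69 14
                    (.scale [-1, 0, 1, 0, 0, 0]
                    (.drop 16
                    (.drop 18
                    (.kill 71
                    (.drop 22
                    (.leaf 221)))))
                    (.drop 1
                    (.drop 18
                    (.kill 71
                    (.drop 12
                    (.leaf 224))))))))))))))))))))))
     (.kill 47
      (.kill 41
       (.drop 1
        (.drop 3
         (.drop 4
          (.scale [-1, 0, 0, 0, 0, 0]
           (.scale [-1, 0, 0, 0, 0, 0]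
            (.scale [0, 0, -2, 0, 0, -1]
             (.scale [-1, 0, 0, 0, 0, 0]
              (.kill 53
               (.kill 54
                (.drop 12
                 (.scale [-1, 0, 0, 0, 0, 0]
                  (.drop 13
                   (.kill 65
                    (.scale [-1, 0, 0, 0, 0, 0]
                    (.drop 17
                    (.scale [-1, 0, 0, 0, 0, 0]
                    (.kill 70
                    (.drop 21
                    (.scale [0, 0, -1, 0, 1, 0]
                    (.leaf 225)
                    (.leaf 227))))
                    (.kill 70
                    (.drop 5
                    (.drop 9
                    (.leaf 228))))))
                    (.drop 17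
                    (.drop 0
                    (.kill 70
                    (.drop 7
                    (.drop 11
                    (.leaf 229)))))))))
                  (.drop 13
                   (.kill 65
                    (.scale [-1, 0, 0, 1, -1, 0]
                    (.drop 6
                    (.drop 9
                    (.kill 70
                    (.drop 14
                    (.scale [-1, 0, 0, 1, -1, 0]
                    (.leaf 231)
                    (.leaf 234))))))
                    (.drop 6
                    (.drop 0
                    (.kill 70
                    (.drop 7
                    (.drop 11
                    (.leaf 236)))))))))))))
              (.kill 53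
               (.kill 54
                (.drop 12
                 (.scale [-1, 0, 1, 0, 1, 1]
                  (.drop 5
                   (.kill 65
                    (.kfix 71 8
                    (.drop 7
                    (.drop 10
                    (.kill 70
                    (.drop 21
                    (.drop 18
                    (.leaf 237)))))))))
                  (.drop 5
                   (.kill 65
                    (.kfix 71 8
                    (.drop 6
                    (.drop 9
                    (.kill 70
                    (.drop 14
                    (.drop 18
                    (.leaf 240))))))))))))))
             (.kill 66
              (.kill 53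
               (.kill 54
                (.drop 12
                 (.drop 0
                  (.drop 13
                   (.kill 65
                    (.drop 9
                    (.drop 17
                    (.drop 11
                    (.kill 70
                    (.drop 16
                    (.scale [0, 0, -2, -2, -2, -3]
                    (.leaf 241)
                    (.leaf 244)))))))))))))))
            (.kill 55
             (.drop 0
              (.kill 53
               (.kill 54
                (.drop 5
                 (.kill 66
                  (.drop 7
                   (.kill 65
                    (.drop 10
                    (.drop 17
                    (.kfix 71 15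
                    (.kill 70
                    (.drop 21
                    (.drop 20
                    (.leaf 245))))))))))))))))
           (.scale [0, 0, -1, 0, -1, -1]
            (.drop 0
             (.kill 55
              (.kill 53
               (.kill 54
                (.drop 6
                 (.scale [0, 0, -1, 0, -1, -1]
                  (.drop 13
                   (.kill 65
                    (.drop 11
                    (.drop 17
                    (.scale [-1, -1, -1, 0, 1, 0]
                    (.kill 70
                    (.drop 19
                    (.scale [0, 0, -1, 0, -1, -1]
                    (.leaf 247)
                    (.leaf 250))))
                    (.kill 70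
                    (.drop 5
                    (.drop 9
                    (.leaf 252)))))))))
                  (.drop 13
                   (.kill 65
                    (.drop 11
                    (.drop 17
                    (.drop 9
                    (.kill 70
                    (.drop 14
                    (.scale [-2, 0, -3, -1, -2, -3]
                    (.leaf 257)
                    (.leaf 264)))))))))))))))
            (.drop 0
             (.kill 55
              (.kill 53
               (.kill 54
                (.drop 5
                 (.kill 66
                  (.drop 7
                   (.kill 65
                    (.drop 10
                    (.drop 17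
                    (.kfix 71 15
                    (.kill 70
                    (.drop 19
                    (.drop 20
                    (.leaf 265)))))))))))))))))))))))
    (.kill 40
     (.scale [0, 0, 0, 0, -1, 0]
      (.drop 0
       (.kfix 44 2
        (.kill 48
         (.kill 45
          (.drop 5
           (.kfix 51 6
            (.drop 7
             (.kill 52
              (.drop 9
               (.drop 11
                (.scale [-2, 0, -1, 0, 0, 0]
                 (.scale [0, 0, 0, 0, -1, 0]
                  (.kill 55
                   (.scale [0, 0, 0, 0, -1, 0]
                    (.drop 16
                    (.kill 66
                    (.kfix 69 19
                    (.drop 20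
                    (.scale [0, 0, 0, 0, -1, 0]
                    (.scale [0, 0, 0, 0, -1, 0]
                    (.leaf 266)
                    (.leaf 267))
                    (.drop 3
                    (.leaf 268)))))))
                    (.drop 16
                    (.kill 66
                    (.kfix 69 19
                    (.drop 8
                    (.scale [-2, 0, -1, 0, 2, 0]
                    (.drop 14
                    (.leaf 269))
                    (.drop 3
                    (.leaf 272)))))))))
                  (.kill 55
                   (.drop 3
                    (.drop 16
                    (.kill 66
                    (.kfix 69 19
                    (.drop 12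
                    (.drop 14
                    (.scale [-2, 0, -1, 0, -2, 0]
                    (.leaf 273)
                    (.leaf 276))))))))))
                 (.kill 70
                  (.kill 55
                   (.kill 71
                    (.drop 4
                    (.kill 66
                    (.kfix 69 19
                    (.drop 20
                    (.drop 15
                    (.drop 17
                    (.leaf 277)))))))))))))))))))))
      (.drop 0
       (.kfix 44 2
        (.kill 48
         (.kill 45
          (.drop 5
           (.kfix 51 6
            (.drop 7
             (.kill 52
              (.drop 8
               (.drop 10
                (.scale [-2, 0, -1, 0, 0, 0]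
                 (.kill 63
                  (.kill 55
                   (.drop 15
                    (.drop 16
                    (.kill 66
                    (.kfix 69 19
                    (.drop 20
                    (.kill 71
                    (.drop 22
                    (.leaf 278))))))))))
                 (.kill 63
                  (.kill 55
                   (.drop 15
                    (.drop 4
                    (.kill 66
                    (.kfix 69 19
                    (.drop 20
                    (.kill 71
                    (.drop 17
                    (.leaf 281))))))))))))))))))))))))
   (.kill 38
    (.scale [0, 0, 0, 0, -1, 0]
     (.scale [0, 0, 0, 0, -1, 0]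
      (.drop 1
       (.kill 41
        (.scale [0, 0, 0, 0, -1, 0]
         (.drop 5
          (.kill 45
           (.kill 49
            (.kfix 60 8
             (.drop 9
              (.kill 52
               (.kfix 63 12
                (.kill 54
                 (.drop 10
                  (.kfix 65 14
                   (.drop 13
                    (.kill 66
                    (.drop 16
                    (.drop 18
                    (.scale [0, 0, 0, 0, 0, -1]
                    (.scale [0, 0, 0, 0, -1, 0]
                    (.scale [0, 0, 0, 0, -1, 0]
                    (.leaf 282)
                    (.leaf 283))
                    (.drop 3
                    (.leaf 284)))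
                    (.drop 2
                    (.drop 6
                    (.leaf 285))))))))))))))))))
         (.drop 5
          (.kill 45
           (.kill 49
            (.kfix 60 8
             (.drop 4
              (.kill 52
               (.kfix 63 12
                (.kill 54
                 (.drop 10
                  (.kfix 65 14
                   (.drop 13
                    (.kill 66
                    (.drop 15
                    (.drop 18
                    (.kill 71
                    (.scale [0, 0, 0, 0, -1, 1]
                    (.drop 21
                    (.leaf 286))
                    (.drop 3
                    (.leaf 289)))))))))))))))))))))
      (.drop 1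
       (.kill 41
        (.drop 2
         (.drop 5
          (.kill 45
           (.kill 49
            (.kfix 60 8
             (.drop 7
              (.kill 52
               (.drop 10
                (.kill 54
                 (.kill 63
                  (.kfix 65 14
                   (.drop 13
                    (.kill 66
                    (.drop 16
                    (.drop 18
                    (.scale [-1, 0, -2, 0, 0, 0]
                    (.kill 71
                    (.drop 22
                    (.leaf 290)))
                    (.kill 71
                    (.drop 6
                    (.leaf 293))))))))))))))))))))))
     (.kill 47
      (.drop 1
       (.kill 41
        (.drop 3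
         (.drop 4
          (.kill 45
           (.kill 49
            (.kfix 60 8
             (.drop 9
              (.kill 52
               (.kfix 63 12
                (.kill 54
                 (.drop 10
                  (.drop 13
                   (.kill 65
                    (.kill 66
                    (.drop 16
                    (.drop 18
                    (.kill 70
                    (.drop 21
                    (.scale [0, 0, 0, 0, -2, -1]
                    (.leaf 294)
                    (.leaf 297)))))))))))))))))))))))))

end Cfsg.Agent.Lie.Chev.E6Tw
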