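import Cfsg.Agent.Lib.Lie.Chev.EvenInv.TwE6Data
import Cfsg.Agent.Lib.Lie.Chev.EvenInv.Rank
import Cfsg.Agent.Lib.Lie.Chev.TwistAut

/-! The three classes of involutions of ²E₆(q), q even. -/

set_option autoImplicit false
set_option maxRecDepth 8000

namespace Cfsg.Agent.Lie.Chev.E6Tw

open Cfsg.Lie

theorem checkTwSearch_ok : checkTwSearch twWords twTree [] 0 = true := by decide +kernel

theorem checkTwWords_ok : checkTwWords 4 twWords twEdges = true := by decide +kernel

/-- The representatives: involutions of different ranks. -/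
def checkTwReps : Bool :=
  (List.range 3).all fun i =>
    let W := twWords.getD i []
    (certFullE6.T.collectOdd (W ++ W)).isEmpty &&
      Nat.beq (certFullE6.T.rankBits W) ([22, 32, 38].getD i 0)

theorem checkTwReps_ok : checkTwReps = true := by decide +kernel

/-- Conjugation by the second orbit moves the fourth word to the second. -/
def checkBridge : Bool :=
  decide (hitsOf [66, 68] 69 1 = [[1], [1]]) &&
    (([66, 68] ++ orootsOf 1).all fun y => (certFullE6.T.oddTerms y 69).isEmpty) &&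
    ((orootsOf 1).all fun y => [66, 68].all fun r =>
      (certFullE6.T.oddTerms y r).all fun x => Nat.beq x.1 69) &&
    decide (twWords.getD 1 [] = [66, 68]) && decide (twWords.getD 3 [] = [66, 68, 69])

theorem checkBridge_ok : checkBridge = true := by decide +kernel

variable {K : Type*} [Field K] [CharP K 2]

theorem twWords_pos {i : ℕ} (hi : i < 3) : ∀ r ∈ twWords.getD i [], certFullE6.Pos r := by
  have hw := checkTwWords_ok
  simp only [checkTwWords, Bool.and_eq_true, List.all_eq_true, Nat.blt_eq, Nat.ble_eq] at hw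
  obtain ⟨⟨hlen, hpos⟩, -⟩ := hw
  intro r hr
  have hl : i < twWords.length := by omega
  rw [List.getD_eq_getElem _ _ hl] at hr
  exact pos_iff.2 (hpos _ (List.getElem_mem hl) r hr)

variable (K) in
/-- A representative. -/
def twRep (i : ℕ) : GL chevE6.Idx K := certFullE6.rootWord K (twWords.getD i [])

theorem twRep_spec {i : ℕ} (hi : i < 3) :
    twRep K i * twRep K i = 1 ∧
      ((twRep K i : Matrix chevE6.Idx chevE6.Idx K) - 1).rank = [22, 32, 38].getD i 0 := by
  have h := checkTwReps_ok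
  simp only [checkTwReps, List.all_eq_true, List.mem_range, Bool.and_eq_true, List.isEmpty_iff,
    Nat.beq_eq] at h
  obtain ⟨h1, h2⟩ := h i hi
  refine ⟨certFullE6.rootWord_sq (twWords_pos hi) h1, ?_⟩
  rw [← h2]
  exact certFullE6.rank_word K _ fun r hr => (twWords_pos hi r hr).2

theorem twRep_ne_one {i : ℕ} (hi : i < 3) : twRep K i ≠ 1 := fun e => by
  have h := (twRep_spec (K := K) hi).2
  rw [e, Units.val_one, sub_self, Matrix.rank_zero] at h
  rcases (show i = 0 ∨ i = 1 ∨ i = 2 by omega) with rfl | rfl | rfl <;> simp at h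

theorem orderOf_twRep {i : ℕ} (hi : i < 3) : orderOf (twRep K i) = 2 :=
  orderOf_eq_prime (by rw [pow_two]; exact (twRep_spec hi).1) (twRep_ne_one hi)

theorem twRep_not_conj {i j : ℕ} (hi : i < 3) (hj : j < 3) {x : GL chevE6.Idx K}
    (h : x * twRep K i * x⁻¹ = twRep K j) : i = j := by
  by_contra hne
  have e : ((twRep K i : Matrix chevE6.Idx chevE6.Idx K) - 1).rank =
      ((twRep K j : Matrix chevE6.Idx chevE6.Idx K) - 1).rank := by
    rw [← h, CertFull.rank_sub_one_conj]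
  rw [(twRep_spec hi).2, (twRep_spec hj).2] at e
  rcases (show i = 0 ∨ i = 1 ∨ i = 2 by omega) with rfl | rfl | rfl <;>
    rcases (show j = 0 ∨ j = 1 ∨ j = 2 by omega) with rfl | rfl | rfl <;> simp at e hne

variable [Fintype K] (f : K →+* K) {q : ℕ} (hf : ∀ t, f t = t ^ q) (hK : Fintype.card K = q ^ 2)

include hf hK

theorem twRep_fix {i : ℕ} (hi : i < 3) : twRep K i ∈ (E6.tw f).fix := by
  have hw : twWords.getD 0 [] = stateWord [23] ∧ twWords.getD 1 [] = stateWord [20] ∧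
      twWords.getD 2 [] = certFullE6.T.collectOdd (stateWord [18, 19]) :=
    ⟨by decide +kernel, by decide +kernel, by decide +kernel⟩
  rcases (show i = 0 ∨ i = 1 ∨ i = 2 by omega) with rfl | rfl | rfl
  · rw [twRep, hw.1]; exact rootWord_state_fix f hf hK (by simp)
  · rw [twRep, hw.2.1]; exact rootWord_state_fix f hf hK (by simp)
  · rw [twRep, hw.2.2,
      (certFullE6.collectOdd_spec (F := K) _ (stateWord_pos (S := [18, 19]) (by simp))).1]
    exact rootWord_state_fix f hf hK (by simp)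

theorem word_three_conj :
    ∃ x ∈ (E6.tw f).fix, x * certFullE6.rootWord K (twWords.getD 1 []) * x⁻¹ =
      certFullE6.rootWord K (twWords.getD 3 []) := by
  have h := checkBridge_ok
  simp only [checkBridge, Bool.and_eq_true, decide_eq_true_eq, List.all_eq_true, List.isEmpty_iff,
    Nat.beq_eq] at h
  obtain ⟨⟨⟨⟨hhit, hk⟩, hterms⟩, e1⟩, e3⟩ := h
  have p69 : certFullE6.Pos 69 := pos_iff.2 (by omega)
  have L : certFullE6.Layer (fun _ => False) 69 := {
    posk := p69
    notk := id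
    closed := fun _ _ _ _ h => h.elim
    normk := fun _ _ h => h.elim }
  have hpair : (orootsOf 1).all (fun r => Nat.ble 36 r && Nat.blt r 72) = true := by decide +kernel
  simp only [List.all_eq_true, Bool.and_eq_true, Nat.ble_eq, Nat.blt_eq] at hpair
  have hpos : ∀ r ∈ [66, 68] ++ orootsOf 1, certFullE6.Pos r := fun r hr => by
    refine pos_iff.2 ?_
    rcases List.mem_append.1 hr with h | h
    · simp only [List.mem_cons, List.not_mem_nil, or_false] at h; omega
    · exact hpair r h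
  have keep : ∀ r ∈ [66, 68] ++ orootsOf 1, certFullE6.Keeps (fun _ => False) 69 r := fun r hr =>
    ⟨hpos r hr, fun q _ hq _ x hx ho => by
      obtain rfl := hq.resolve_left id
      have hmem : x ∈ certFullE6.T.oddTerms r 69 := List.mem_filter.2 ⟨hx, ho⟩
      rw [hk r hr] at hmem
      simp at hmem⟩
  obtain ⟨θ, hθ⟩ := exists_trace_one f hf hK
  obtain ⟨C, ⟨W, hW, hC⟩, eC⟩ := conj_word_prod L [66, 68]
    (fun r hr => keep r (List.mem_append_left _ hr)) (stdList f 1 θ)
    (fun p hp => keep _ (List.mem_append_right _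
      (stdList_roots f 1 θ ▸ List.mem_map_of_mem (f := Prod.fst) hp)))
    fun p hp r hr _ x hx ho => Or.inr (hterms _
      (stdList_roots f 1 θ ▸ List.mem_map_of_mem (f := Prod.fst) hp) r hr x
      (List.mem_filter.2 ⟨hx, ho⟩))
  rw [certFullE6.rootSpan_eq_bot (fun _ _ h => h), Subgroup.mem_bot] at hW
  subst hW
  refine ⟨std f 1 θ, std_fix f hf hK (by omega) (fun h => by simp [orootsOf, e6Orbits] at h), ?_⟩
  rw [e1, e3, std, eC, hC, hitSum_std, hhit]
  simp [hitVal, hθ, CertFull.rootWord, mul_assoc]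

/-- Involutions are conjugate to the representatives. -/
theorem exists_conj_rep {g : GL chevE6.Idx K} (hg : g ∈ twistedE6 K q) (ho : orderOf g = 2) :
    ∃ i < 3, ∃ x ∈ twistedE6 K q, x * g * x⁻¹ = twRep K i := by
  classical
  have hqn : ∃ n, 0 < n ∧ q = 2 ^ n := by
    obtain ⟨⟨n, hn⟩, -, hn'⟩ := FiniteField.card K 2
    rw [hK] at hn'
    obtain ⟨m, -, hm⟩ := (Nat.dvd_prime_pow Nat.prime_two).1
      (show q ∣ 2 ^ n from hn' ▸ Dvd.intro q (sq q).symm)
    refine ⟨m, ?_, hm⟩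
    rcases Nat.eq_zero_or_pos m with h | h
    · exfalso
      have := E6.one_lt_q f hf hK
      rw [hm, h] at this
      omega
    · exact h
  obtain ⟨n, hn, hq⟩ := hqn
  set Y := E6.datum f hf hK
  have : Finite ↥(twistedE6 K q) := Subgroup.instFiniteSubtypeMem _
  haveI : Fact (Nat.Prime 2) := ⟨Nat.prime_two⟩
  set U' := Y.U₁.subgroupOf Y.G₁ with hU'
  set g' : ↥Y.G₁ := ⟨g, hg⟩
  have ho' : orderOf g' = 2 := by rw [← Subgroup.orderOf_coe]; exact ho
  obtain ⟨R, hR⟩ := (IsPGroup.of_card (p := 2) (n := 1) (G := ↥(Subgroup.zpowers g'))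
    (by rw [Nat.card_zpowers, ho', pow_one])).exists_le_sylow
  have hUU : Y.U₁ ≤ Y.G₁ := Y.U₁_le
  have hcU : Nat.card U' = q ^ 36 := by
    rw [hU', Nat.card_congr (Subgroup.subgroupOfEquivOfLe hUU).toEquiv, ← E6.card_U f hf hK]
    refine Nat.card_congr (MulEquiv.subgroupCongr ?_).toEquiv
    show chevE6.posUnipotent K ⊓ (E6.tw f).fix = _
    rw [← Y.eq_fix]
    rfl
  have hPU : IsPGroup 2 U' := IsPGroup.of_card (n := n * 36) (by rw [hcU, hq, pow_mul])
  obtain ⟨Q, hQ⟩ := hPU.exists_le_sylow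
  have hev : ∀ k, k ≠ 0 → Even (q ^ k) := fun k hk =>
    (hq ▸ (even_two).pow_of_ne_zero hn.ne' : Even q).pow_of_ne_zero hk
  have hsub : ∀ k, k ≠ 0 → Odd (q ^ k - 1) := fun k hk => by
    refine Nat.Even.sub_odd (Nat.one_le_pow _ _ ?_) (hev k hk) odd_one
    rw [hq]; positivity
  have hodd : Odd ((q ^ 2 - 1) * (q ^ 5 + 1) * (q ^ 6 - 1) * (q ^ 8 - 1) * (q ^ 9 + 1) *
      (q ^ 12 - 1)) :=
    (((((hsub 2 (by omega)).mul (hev 5 (by omega)).add_one).mul (hsub 6 (by omega))).mul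
      (hsub 8 (by omega))).mul (hev 9 (by omega)).add_one).mul (hsub 12 (by omega))
  have hcQ : Nat.card (Q : Subgroup ↥Y.G₁) = Nat.card U' := by
    refine Nat.dvd_antisymm ?_ (Subgroup.card_dvd_of_le hQ)
    have h : Nat.card (Q : Subgroup ↥Y.G₁) ∣ Nat.gcd 3 (q + 1) * Nat.card ↥(twistedE6 K q) :=
      (Subgroup.card_subgroup_dvd_card (Q : Subgroup ↥Y.G₁)).trans (Dvd.intro_left _ rfl)
    rw [E6.card_group f hf hK] at h
    rw [hcU]
    refine Nat.Coprime.dvd_of_dvd_mul_right ?_ (h.trans (dvd_of_eq (by ring :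
      q ^ 36 * (q ^ 2 - 1) * (q ^ 5 + 1) * (q ^ 6 - 1) * (q ^ 8 - 1) * (q ^ 9 + 1) * (q ^ 12 - 1) =
        q ^ 36 * ((q ^ 2 - 1) * (q ^ 5 + 1) * (q ^ 6 - 1) * (q ^ 8 - 1) * (q ^ 9 + 1) *
          (q ^ 12 - 1)))))
    obtain ⟨k, hk⟩ := IsPGroup.iff_card.1 Q.isPGroup'
    rw [hk]
    exact Nat.Coprime.pow_left _ (Nat.coprime_two_left.2 hodd)
  obtain ⟨x, hx⟩ := Y.exists_conj_U₁ (R : Subgroup ↥Y.G₁) (by
    rw [Sylow.card_eq_multiplicity R, ← Sylow.card_eq_multiplicity Q, hcQ])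
  obtain ⟨hU, hfix⟩ := (hx g').1 (hR (Subgroup.mem_zpowers _))
  set u : GL chevE6.Idx K := ((x * g' * x⁻¹ : ↥Y.G₁) : GL chevE6.Idx K) with hu
  have hu' : u = (x : GL chevE6.Idx K) * g * (x : GL chevE6.Idx K)⁻¹ := rfl
  have h2 : g * g = 1 := by rw [← pow_two, ← ho, pow_orderOf_eq_one]
  have hu2 : u * u = 1 := by
    rw [hu', show (x : GL chevE6.Idx K) * g * (x : GL chevE6.Idx K)⁻¹ *
      ((x : GL chevE6.Idx K) * g * (x : GL chevE6.Idx K)⁻¹) =
      (x : GL chevE6.Idx K) * (g * g) * (x : GL chevE6.Idx K)⁻¹ by group, h2]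
    group
  have hspan : u ∈ certFullE6.rootSpan K (from_ (st 0)) := by
    have hU' : u ∈ chevE6.posUnipotent K := hU
    rw [certFullE6.posUnipotent_eq] at hU'
    refine (Subgroup.closure_le _).2 ?_ hU'
    rintro _ ⟨r, t, hr, -, rfl⟩
    exact certFullE6.xg_mem_rootSpan (E := from_ (st 0)) hr
      (show st 0 ≤ ps r from Nat.zero_le _) t
  rcases tw_search_sound f hf hK twTree [] 0 checkTwSearch_ok (by simp) u u hspan hfix
      (by simp [stateWord, CertFull.rootWord]) hu2 with h | ⟨i, hi, y, hy, e⟩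
  · exfalso
    have : g = 1 := by
      rw [hu'] at h
      rw [show g = (x : GL chevE6.Idx K)⁻¹ * ((x : GL chevE6.Idx K) * g *
        (x : GL chevE6.Idx K)⁻¹) * x by group, h]
      group
    rw [this, orderOf_one] at ho
    omega
  obtain ⟨j, hj, z, hz, ez⟩ := tw_words_conj f hf hK checkTwWords_ok i hi
  obtain ⟨j', hj', w, hw, ew⟩ : ∃ j' < 3, ∃ w ∈ (E6.tw f).fix,
      w * certFullE6.rootWord K (twWords.getD j []) * w⁻¹ = twRep K j' := by
    by_cases h3 : j < 3
    · exact ⟨j, h3, 1, one_mem _, by simp [twRep]⟩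
    obtain ⟨w, hw, ew⟩ := word_three_conj f hf hK
    obtain rfl : j = 3 := by omega
    exact ⟨1, by omega, w⁻¹, inv_mem hw, by rw [twRep, ← ew]; group⟩
  refine ⟨j', hj', w * z * y * x, mul_mem (mul_mem (mul_mem (Y.mem_G₁ hw) (Y.mem_G₁ hz))
    (Y.mem_G₁ hy)) x.2, ?_⟩
  rw [← ew, ← ez, ← e, hu']
  group

/-- ²E₆(q), q even, has three classes of involutions. -/
theorem ncard_classes :
    (ConjClasses.mk '' {g : ↥(twistedE6 K q) | orderOf g = 2}).ncard = 3 := by
  classical
  set a : Fin 3 → ↥(twistedE6 K q) := fun i =>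
    ⟨twRep K i, (E6.datum f hf hK).mem_G₁ (twRep_fix f hf hK i.2)⟩ with ha
  rw [show ConjClasses.mk '' {g : ↥(twistedE6 K q) | orderOf g = 2} =
    Set.range fun i => ConjClasses.mk (a i) from ?_, Set.ncard_range_of_injective,
    Nat.card_eq_fintype_card, Fintype.card_fin]
  · intro i j e
    obtain ⟨x, hx⟩ := isConj_iff.1 (ConjClasses.mk_eq_mk_iff_isConj.1 e)
    exact Fin.ext (twRep_not_conj i.2 j.2 (congrArg Subtype.val hx))
  ext C
  constructor
  · rintro ⟨g, hg, rfl⟩
    obtain ⟨i, hi, x, hx, e⟩ :=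
      exists_conj_rep f hf hK g.2 (by rw [Subgroup.orderOf_coe]; exact hg)
    exact ⟨⟨i, hi⟩, (ConjClasses.mk_eq_mk_iff_isConj.2
      (isConj_iff.2 ⟨⟨x, hx⟩, Subtype.ext (by simpa [ha] using e)⟩)).symm⟩
  · rintro ⟨i, rfl⟩
    exact ⟨a i, by
      show orderOf (a i) = 2
      rw [← Subgroup.orderOf_coe]; exact orderOf_twRep i.2, rfl⟩

end Cfsg.Agent.Lie.Chev.E6Tw
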