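import Cfsg.Agent.Lib.Lie.Chev.EvenInv.TwE6Steps

/-! The certified search for the involutions of ²E₆(q), q even. -/

set_option autoImplicit false
set_option maxRecDepth 8000

namespace Cfsg.Agent.Lie.Chev.E6Tw

open Cfsg.Lie

/-- The search tree. -/
inductive TwTree where
  | leaf (i : ℕ)
  | dead (k n : ℕ)
  | drop (i : ℕ) (next : TwTree)
  | kill (k : ℕ) (next : TwTree)
  | kfix (k i : ℕ) (next : TwTree)
  | scale (e : List ℤ) (next child : TwTree)

/-- A move of a word. -/
inductive TwMove where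
  | weyl (i : ℕ)
  | std (i : ℕ)

/-- The terms of a pair are placed from `n` on. -/
def termsFrom (n a q : ℕ) : Bool :=
  (certFullE6.T.oddTerms a q).all fun x => Nat.ble n (ps x.1)

/-- The root `k` on top of the roots placed from `n` on is a layer kept by the roots in `A`. -/
def checkLayer (n k : ℕ) (A : List ℕ) : Bool :=
  Nat.ble 36 k && Nat.blt k 72 && Nat.ble n (ps k) &&
    ((placed n k).all fun a => (placed n k).all fun q => !(Nat.blt a q) ||
      certFullE6.T.avoids k a q) &&
    (A.all fun a => (placed n k).all fun q => Nat.beq q a || certFullE6.T.avoids k a q)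

/-- The state is contradictory. -/
def checkDeadTw (P : List ℕ) (j k n : ℕ) : Bool :=
  let Q := certFullE6.T.collectOdd (P ++ P)
  Nat.ble n (st j) && checkLayer n k P && Q.all (fun x => Nat.ble n (ps x)) &&
    Nat.beq (Q.filter fun x => Nat.beq x k).length 1

/-- The hits of an orbit on a root. -/
def hitsOf (P : List ℕ) (k i : ℕ) : List (List ℕ) :=
  (orootsOf i).map fun y => certFullE6.T.hitExps k y P

/-- The hit patterns which can be solved, the target being a single root or not. -/
def solvable (single : Bool) : List (List ℕ) → Bool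
  | [[e]] => Nat.beq e 1 && single
  | [[e], []] => Nat.beq e 1
  | [[], [e]] => Nat.beq e 1
  | [[e], [e']] => Nat.beq e 1 && Nat.beq e' 1 && single
  | _ => false

/-- The terms of an orbit with a word are late. -/
def orbitTerms (P : List ℕ) (n i : ℕ) : Bool :=
  (orootsOf i).all fun y => P.all fun r => Nat.beq r y || termsFrom n y r

/-- A removal is possible. -/
def checkDropTw (P : List ℕ) (j i : ℕ) : Bool :=
  Nat.blt i 24 && orbitTerms P (st j) i &&
    solvable (Nat.beq (orootsOf j).length 1) (hitsOf P (e6Ord.getD (st j) 0) i)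

/-- The two equations of an orbit are set up. -/
def checkSquare (P : List ℕ) (j k : ℕ) : Bool :=
  let n := st (j + 1)
  checkLayer n k (P ++ orootsOf j) &&
    (certFullE6.T.collectOdd (P ++ P)).all (fun x => Nat.ble n (ps x)) && orbitTerms P n j

/-- Exactly one hit among lists with linear exponents. -/
def oneLinear : List (List ℕ) → Bool
  | [[e]] => Nat.beq e 1
  | [[e], []] => Nat.beq e 1
  | [[], [e]] => Nat.beq e 1
  | _ => false

/-- The coefficient has to vanish. -/
def checkKillTw (P : List ℕ) (j k : ℕ) : Bool :=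
  checkSquare P j k &&
    Nat.beq ((certFullE6.T.collectOdd (P ++ P)).filter fun x => Nat.beq x k).length 0 &&
    oneLinear (hitsOf P k j)

/-- The coefficient has to be fixed, and then it can be removed. -/
def checkKfixTw (P : List ℕ) (j k i : ℕ) : Bool :=
  checkSquare P j k &&
    Nat.beq ((certFullE6.T.collectOdd (P ++ P)).filter fun x => Nat.beq x k).length 0 &&
    decide (hitsOf P k j = [[1], [1]]) &&
    Nat.blt i 24 && orbitTerms P (st j) i &&
    decide (hitsOf P (e6Ord.getD (st j) 0) i = [[1]])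

/-- The exponents of a fixed torus element on a root. -/
def expA (e : List ℤ) (u : ℕ) : ℤ :=
  let c := fun i => certFullE6.T.cartan i u
  let a := fun i => e.getD i 0
  c 0 * a 0 + c 2 * a 2 + c 4 * a 3 + c 5 * a 1 + c 1 * a 4 + c 3 * a 5

/-- The twisted exponents of a fixed torus element on a root. -/
def expB (e : List ℤ) (u : ℕ) : ℤ :=
  let c := fun i => certFullE6.T.cartan i u
  let a := fun i => e.getD i 0
  c 0 * a 1 + c 2 * a 3 + c 4 * a 2 + c 5 * a 0 + c 1 * a 4 + c 3 * a 5

/-- A small power of two. -/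
def goodAbs (z : ℤ) : Bool := Nat.beq z.natAbs 1 || Nat.beq z.natAbs 2 || Nat.beq z.natAbs 4

/-- A scaling is possible. -/
def checkScaleTw (P : List ℕ) (j : ℕ) (e : List ℤ) : Bool :=
  let a := e6Ord.getD (st j) 0
  (P.all fun u => intZero (expA e u) && intZero (expB e u)) &&
    bif Nat.beq (orootsOf j).length 1 then intBeq (expA e a) (expB e a) && goodAbs (expA e a)
    else (intZero (expB e a) && goodAbs (expA e a)) || (intZero (expA e a) && goodAbs (expB e a))

/-- The search is complete. -/
def checkTwSearch (words : List (List ℕ)) : TwTree → List ℕ → ℕ → Bool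
  | .leaf i, S, j => Nat.beq j 24 &&
      (S.isEmpty || (Nat.blt i words.length &&
        decide (words.getD i [] = certFullE6.T.collectOdd (stateWord S))))
  | .dead k n, S, j => checkDeadTw (stateWord S) j k n
  | .drop i next, S, j => Nat.blt j 24 && checkDropTw (stateWord S) j i &&
      checkTwSearch words next S (j + 1)
  | .kill k next, S, j => Nat.blt j 24 && checkKillTw (stateWord S) j k &&
      checkTwSearch words next S (j + 1)
  | .kfix k i next, S, j => Nat.blt j 24 && checkKfixTw (stateWord S) j k i &&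
      checkTwSearch words next S (j + 1)
  | .scale e next child, S, j => Nat.blt j 24 && checkScaleTw (stateWord S) j e &&
      checkTwSearch words next S (j + 1) && checkTwSearch words child (S ++ [j]) (j + 1)

/-- The result of a move. -/
def twMoveWord (W : List ℕ) : TwMove → Option (List ℕ)
  | .weyl i =>
    let V := W.map fun x => certFullE6.T.wlT (orbitsE6.getD i []) x
    bif Nat.blt i 4 && V.all (fun y => Nat.ble 36 y && Nat.blt y 72)
    then some (certFullE6.T.collectOdd V) else none
  | .std i =>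
    bif Nat.blt i 24 then
      some (certFullE6.T.collectOdd (orootsOf i ++ W ++ (orootsOf i).reverse)) else none

/-- Every listed word is moved to one of the first `nt`. -/
def checkTwWords (nt : ℕ) (words : List (List ℕ)) (edges : List (ℕ × TwMove)) : Bool :=
  Nat.ble nt words.length &&
    (words.all fun W => W.all fun r => Nat.ble 36 r && Nat.blt r 72) &&
    (List.range words.length).all fun i => Nat.blt i nt ||
      let e := edges.getD (i - nt) (i, .std 24)
      Nat.blt e.1 i &&
        match twMoveWord (words.getD e.1 []) e.2 with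
        | some V => decide (V = words.getD i [])
        | none => false

variable {K : Type*} [Field K] [CharP K 2]

theorem layer_of_check {n k : ℕ} {A : List ℕ} (h : checkLayer n k A = true) :
    certFullE6.Layer (without n k) k ∧
      ∀ a ∈ A, certFullE6.Pos a → certFullE6.Keeps (without n k) k a := by
  simp only [checkLayer, Bool.and_eq_true, Nat.ble_eq, Nat.blt_eq, List.all_eq_true,
    Bool.or_eq_true, Nat.beq_eq, Bool.not_eq_true'] at h
  obtain ⟨⟨⟨⟨h1, h2⟩, h3⟩, h4⟩, h5⟩ := h
  have hk : certFullE6.Pos k := pos_iff.2 ⟨h1, h2⟩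
  refine ⟨layer_without hk h3 fun a ha q hq haq => ?_,
    fun a ha hap => keeps_without hk h3 hap fun q hq hne => (h5 a ha q hq).resolve_left hne⟩
  refine (h4 a ha q hq).resolve_left fun e => ?_
  have : Nat.blt a q = true := by rw [Nat.blt_eq]; exact haq
  rw [this] at e
  simp at e

theorem from_sub {n m k : ℕ} (h : n ≤ m) (q : ℕ) (hq : from_ m q) : without n k q ∨ q = k := by
  by_cases e : q = k
  · exact Or.inr e
  · exact Or.inl ⟨h.trans hq, e⟩

theorem stateWord_pos {S : List ℕ} (hS : ∀ j ∈ S, j < 24) :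
    ∀ r ∈ stateWord S, certFullE6.Pos r := by
  intro r hr
  obtain ⟨j, hj, hr⟩ := List.mem_flatMap.1 hr
  exact (oroots_spec (hS j hj) r hr).1

theorem termsFrom_spec {n a q : ℕ} (h : termsFrom n a q = true) :
    ∀ x ∈ certFullE6.T.commTerms a q, isOdd x.2.1 = true → n ≤ ps x.1 := by
  intro x hx ho
  simp only [termsFrom, Tables.oddTerms, List.all_eq_true, List.mem_filter, Nat.ble_eq] at h
  exact h x ⟨hx, ho⟩

theorem count_sum (k : ℕ) : ∀ Q : List ℕ, (Q.map fun x => if x = k then (1 : K) else 0).sum =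
    ((Q.filter fun x => Nat.beq x k).length : K) := by
  intro Q
  induction Q with
  | nil => simp
  | cons x Q ih =>
    by_cases e : x = k
    · subst e; simp [ih, add_comm]
    · have : Nat.beq x k = false := by
        cases h : Nat.beq x k
        · rfl
        · rw [Nat.beq_eq] at h; exact absurd h e
      simp [ih, e, this]

theorem tw_dead {P : List ℕ} {j k n : ℕ} (hP : ∀ r ∈ P, certFullE6.Pos r)
    (hd : checkDeadTw P j k n = true) {R : GL chevE6.Idx K}
    (hR : R ∈ certFullE6.rootSpan K (from_ (st j)))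
    (h2 : certFullE6.rootWord K P * R * (certFullE6.rootWord K P * R) = 1) : False := by
  simp only [checkDeadTw, Bool.and_eq_true, Nat.ble_eq, List.all_eq_true, Nat.beq_eq] at hd
  obtain ⟨⟨⟨hn, hlay⟩, hQ⟩, hcount⟩ := hd
  obtain ⟨L, keep⟩ := layer_of_check hlay
  obtain ⟨b, hb⟩ := exists_inLayer L (fun q _ hq => from_sub hn q hq) hR
  have hSS : ∀ x ∈ P ++ P, certFullE6.Pos x := fun x hx => by
    rcases List.mem_append.1 hx with h | h <;> exact hP x h
  obtain ⟨q1, q2⟩ := certFullE6.collectOdd_spec (F := K) _ hSS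
  have hW := certFullE6.inLayer_word (F := K) L (certFullE6.T.collectOdd (P ++ P))
    fun x hx => ⟨q2 x hx, by
      by_cases e : x = k
      · exact Or.inr e
      · exact Or.inl ⟨hQ x hx, e⟩⟩
  rw [q1, certFullE6.rootWord_append, count_sum, hcount] at hW
  have hb' := certFullE6.inLayer_conj_word L (fun r hr => keep r hr (hP r hr)) hb
  have hall := certFullE6.inLayer_mul L (certFullE6.inLayer_mul L hW hb') hb
  rw [show certFullE6.rootWord K P * certFullE6.rootWord K P *
    ((certFullE6.rootWord K P)⁻¹ * R * certFullE6.rootWord K P) * R = 1 by rw [← h2]; group] at hall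
  have h0 := certFullE6.eq_zero_of_inLayer_one L hall
  rw [add_assoc _ b b, CharTwo.add_self_eq_zero, add_zero, Nat.cast_one] at h0
  exact one_ne_zero h0

theorem orbitTerms_spec {P : List ℕ} {n i : ℕ} (h : orbitTerms P n i = true) {y r : ℕ}
    (hy : y ∈ orootsOf i) (hr : r ∈ P) (hne : r ≠ y) :
    ∀ x ∈ certFullE6.T.commTerms y r, isOdd x.2.1 = true → n ≤ ps x.1 := by
  simp only [orbitTerms, List.all_eq_true, Bool.or_eq_true, Nat.beq_eq] at h
  exact termsFrom_spec ((h y hy r hr).resolve_left hne)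

/-- Regrouping exponents. -/
theorem char_aux {G : Type*} [CommGroup G] (A B : G)
    (a0 a1 a2 a3 a4 a5 c0 c1 c2 c3 c4 c5 : ℤ) :
    (A ^ a0 * B ^ a1) ^ c0 * ((A * B) ^ a4) ^ c1 * (A ^ a2 * B ^ a3) ^ c2 * ((A * B) ^ a5) ^ c3 *
        (B ^ a2 * A ^ a3) ^ c4 * (B ^ a0 * A ^ a1) ^ c5 =
      A ^ (c0 * a0 + c2 * a2 + c4 * a3 + c5 * a1 + c1 * a4 + c3 * a5) *
        B ^ (c0 * a1 + c2 * a3 + c4 * a2 + c5 * a0 + c1 * a4 + c3 * a5) := by
  apply Additive.ofMul.injective
  simp only [ofMul_mul, ofMul_zpow]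
  module

variable (f : K →+* K)

/-- The value of a hit pattern. -/
def hitVal (v : K) : List (List ℕ) → K
  | [] => 0
  | l :: ls => (l.map fun e => v ^ e).sum + (ls.map fun l' => (l'.map fun e => f v ^ e).sum).sum

theorem hitSum_std {P : List ℕ} {k i : ℕ} (v : K) :
    hitSum k P (stdList f i v) = hitVal f v (hitsOf P k i) := by
  unfold hitsOf hitSum stdList
  rcases orootsOf i with _ | ⟨a, l⟩
  · simp [hitVal]
  · simp [hitVal, List.map_map, Function.comp_def]

variable [Fintype K] {q : ℕ} (hf : ∀ t, f t = t ^ q) (hK : Fintype.card K = q ^ 2)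

include hf hK

theorem rootWord_state_fix {S : List ℕ} (hS : ∀ j ∈ S, j < 24) :
    certFullE6.rootWord K (stateWord S) ∈ (E6.tw f).fix := by
  induction S with
  | nil => simp [stateWord, CertFull.rootWord, one_mem]
  | cons j S ih =>
    obtain ⟨hj, hS⟩ := List.forall_mem_cons.1 hS
    rw [stateWord, List.flatMap_cons, certFullE6.rootWord_append, ← std_one f]
    exact mul_mem (std_fix f hf hK hj (adm_one f j)) (ih hS)

/-- An element of trace one. -/
theorem exists_trace_one : ∃ θ : K, θ + f θ = 1 := by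
  obtain ⟨a, ha⟩ : ∃ a, f a ≠ a := by
    by_contra h
    push Not at h
    have hq := E6.one_lt_q f hf hK
    have hsub : (Finset.univ : Finset K).card ≤ q := by
      classical
      refine (Finset.card_le_card (fun x _ => ?_)).trans
        ((Multiset.toFinset_card_le _).trans ((Polynomial.card_roots' (Polynomial.X ^ q -
          Polynomial.X : Polynomial K)).trans (le_of_eq (FiniteField.X_pow_card_sub_X_natDegree_eq K hq))))
      rw [Multiset.mem_toFinset, Polynomial.mem_roots (FiniteField.X_pow_card_sub_X_ne_zero K hq)]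
      simp [← hf, h x]
    rw [Finset.card_univ, hK] at hsub
    have h2 : q * 2 ≤ q ^ 2 := by rw [pow_two]; exact Nat.mul_le_mul_left q hq
    omega
  have hc : a + f a ≠ 0 := fun e => ha (by
    linear_combination e - a * CharTwo.two_eq_zero (R := K))
  refine ⟨a / (a + f a), ?_⟩
  rw [map_div₀, map_add, E6.pow_sq f hf hK, add_comm (f a) a, ← add_div, div_self hc]

/-- The norm onto the fixed units. -/
theorem exists_norm {v : Kˣ} (hv : Units.map (f : K →* K) v = v) :
    ∃ w : Kˣ, w * Units.map (f : K →* K) w = v := by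
  classical
  obtain ⟨g, hg⟩ := IsCyclic.exists_generator (α := Kˣ)
  obtain ⟨k, hk⟩ := Subgroup.mem_zpowers_iff.1 (hg v)
  have hfu : ∀ u : Kˣ, Units.map (f : K →* K) u = u ^ q := fun u => Units.ext (by
    simp [hf])
  have hq := E6.one_lt_q f hf hK
  have hord : orderOf g = q ^ 2 - 1 := by
    rw [orderOf_eq_card_of_forall_mem_zpowers hg, Nat.card_units, Nat.card_eq_fintype_card, hK]
  have h1 : g ^ (k * ((q : ℤ) - 1)) = 1 := by
    rw [_root_.zpow_mul, hk, _root_.zpow_sub, zpow_natCast, zpow_one, ← hfu, hv, mul_inv_cancel]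
  obtain ⟨d, hd⟩ := orderOf_dvd_iff_zpow_eq_one.2 h1
  have hcast : ((orderOf g : ℕ) : ℤ) = ((q : ℤ) + 1) * ((q : ℤ) - 1) := by
    rw [hord, Nat.cast_sub (Nat.one_le_pow _ _ (by omega))]
    push_cast; ring
  have hk' : k = ((q : ℤ) + 1) * d := by
    have : k * ((q : ℤ) - 1) = ((q : ℤ) + 1) * d * ((q : ℤ) - 1) := by rw [hd, hcast]; ring
    exact mul_right_cancel₀ (by omega) this
  refine ⟨g ^ d, ?_⟩
  rw [hfu, ← hk, hk', ← zpow_natCast, ← _root_.zpow_mul, ← _root_.zpow_add]
  congr 1
  ring

theorem tw_drop_core {S : List ℕ} {j i : ℕ} (hj : j < 24) (hi : i < 24) (hS : ∀ x ∈ S, x < 24)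
    (hterms : orbitTerms (stateWord S) (st j) i = true) {t v : K} (hadm : Adm f i v)
    (hv : hitSum (e6Ord.getD (st j) 0) (stateWord S) (stdList f i v) = t) {R : GL chevE6.Idx K}
    (hR : R ∈ certFullE6.rootSpan K (from_ (st j))) (hfix : R ∈ (E6.tw f).fix)
    (hcoef : certFullE6.InLayer (from_ (st j + 1)) (e6Ord.getD (st j) 0) t R) :
    ∃ x ∈ (E6.tw f).fix, ∃ R' ∈ certFullE6.rootSpan K (from_ (st (j + 1))),
      R' ∈ (E6.tw f).fix ∧
      x * (certFullE6.rootWord K (stateWord S) * R) * x⁻¹ =
        certFullE6.rootWord K (stateWord S) * R' := by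
  have hn : st j < 36 := by
    rcases orbit_cases hj with ⟨a, -, h, -⟩ | ⟨a, b, -, h, -⟩ <;> omega
  have L := layer_top hn
  have hP := stateWord_pos hS
  have hX : ∀ p ∈ stdList f i v,
      certFullE6.Keeps (from_ (st j + 1)) (e6Ord.getD (st j) 0) p.1 := fun p hp =>
    keeps_top hn (oroots_spec hi _ (stdList_roots f i v ▸ List.mem_map_of_mem hp)).1
  obtain ⟨C, hC, eC⟩ := conj_word_prod L (stateWord S) (fun r hr => keeps_top hn (hP r hr))
    (stdList f i v) hX fun p hp r hr hne x hx ho => by
      have hp' := stdList_roots f i v ▸ List.mem_map_of_mem (f := Prod.fst) hp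
      have h1 := orbitTerms_spec hterms hp' hr hne x hx ho
      rcases h1.lt_or_eq with h | h
      · exact Or.inl h
      · refine Or.inr (ps_inj ?_ L.posk (by rw [(ord_spec hn).2]; exact h.symm))
        exact (certFullE6.commTerms_gt (oroots_spec hi _ hp').1 (hP r hr) hx).1
  rw [hv] at hC
  have hR' := (inLayer_conj_prod L _ hX hcoef).1
  have h0 := certFullE6.inLayer_mul L hC hR'
  rw [CharTwo.add_self_eq_zero] at h0
  set x := rootProd (stdList f i v) with hx
  set P := certFullE6.rootWord K (stateWord S)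
  have hxfix : x ∈ (E6.tw f).fix := std_fix f hf hK hi hadm
  have e : x * (P * R) * x⁻¹ = P * (C * (x * R * x⁻¹)) := by
    rw [← mul_assoc P, ← eC]; group
  have hRfix : C * (x * R * x⁻¹) ∈ (E6.tw f).fix := by
    have hPf := rootWord_state_fix f hf hK hS
    rw [show C * (x * R * x⁻¹) = P⁻¹ * (x * (P * R) * x⁻¹) by rw [e]; group]
    exact mul_mem (inv_mem hPf) (mul_mem (mul_mem hxfix (mul_mem hPf hfix)) (inv_mem hxfix))
  obtain ⟨t', R'', -, h1, h2, h3, h4⟩ := exists_std f hf hK hj (inLayer_mem_from hn h0) hRfix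
  have ht' : t' = 0 := inLayer_unique L h4 h0
  refine ⟨x, hxfix, _, ?_, hRfix, e⟩
  rw [h3, ht', std_zero, one_mul]
  exact h1

theorem tw_drop {S : List ℕ} {j i : ℕ} (hj : j < 24) (hS : ∀ x ∈ S, x < 24)
    (hd : checkDropTw (stateWord S) j i = true) {t : K} (hadm : Adm f j t) {R : GL chevE6.Idx K}
    (hR : R ∈ certFullE6.rootSpan K (from_ (st j))) (hfix : R ∈ (E6.tw f).fix)
    (hcoef : certFullE6.InLayer (from_ (st j + 1)) (e6Ord.getD (st j) 0) t R) :
    ∃ x ∈ (E6.tw f).fix, ∃ R' ∈ certFullE6.rootSpan K (from_ (st (j + 1))),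
      R' ∈ (E6.tw f).fix ∧
      x * (certFullE6.rootWord K (stateWord S) * R) * x⁻¹ =
        certFullE6.rootWord K (stateWord S) * R' := by
  simp only [checkDropTw, Bool.and_eq_true, Nat.blt_eq] at hd
  obtain ⟨⟨hi, hterms⟩, hsolve⟩ := hd
  have hlen : (hitsOf (stateWord S) (e6Ord.getD (st j) 0) i).length = (orootsOf i).length :=
    List.length_map _
  obtain ⟨v, hv1, hv2⟩ : ∃ v : K, Adm f i v ∧
      hitSum (e6Ord.getD (st j) 0) (stateWord S) (stdList f i v) = t := by
    simp only [hitSum_std]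
    generalize hitsOf (stateWord S) (e6Ord.getD (st j) 0) i = h at hsolve hlen
    have hsingle : Nat.beq (orootsOf j).length 1 = true → f t = t := fun e => hadm (Nat.eq_of_beq_eq_true e)
    rcases h with _ | ⟨h1, _ | ⟨h2, _ | ⟨h3, l⟩⟩⟩
    · simp [solvable] at hsolve
    · rcases h1 with _ | ⟨e, _ | ⟨e', l⟩⟩ <;> simp [solvable] at hsolve
      obtain ⟨rfl, hs⟩ := hsolve
      exact ⟨t, fun _ => hsingle (by simp [hs]), by simp [hitVal]⟩
    · have hA : ∀ v : K, Adm f i v := fun v hl => by
        rw [← hlen] at hl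
        simp at hl
      rcases h1 with _ | ⟨e, _ | ⟨e', l⟩⟩ <;> rcases h2 with _ | ⟨e₁, _ | ⟨e₁', l₁⟩⟩ <;>
        simp [solvable] at hsolve
      · subst hsolve
        exact ⟨f t, hA _, by simp [hitVal, E6.pow_sq f hf hK]⟩
      · subst hsolve
        exact ⟨t, hA _, by simp [hitVal]⟩
      · obtain ⟨⟨rfl, rfl⟩, hs⟩ := hsolve
        obtain ⟨θ, hθ⟩ := exists_trace_one f hf hK
        refine ⟨θ * t, hA _, ?_⟩
        simp [hitVal, map_mul, hsingle (by simp [hs])]
        linear_combination t * hθ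
    · simp [solvable] at hsolve
  exact tw_drop_core f hf hK hj hi hS hterms hv1 hv2 hR hfix hcoef

/-- What squaring to one says about the coefficient of an orbit. -/
theorem tw_square {S : List ℕ} {j k : ℕ} (hj : j < 24) (hS : ∀ x ∈ S, x < 24)
    (hd : checkSquare (stateWord S) j k = true) {t : K} {R : GL chevE6.Idx K}
    (hR : R ∈ certFullE6.rootSpan K (from_ (st (j + 1))))
    (h2 : certFullE6.rootWord K (stateWord S) * std f j t * R *
      (certFullE6.rootWord K (stateWord S) * std f j t * R) = 1) :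
    (((certFullE6.T.collectOdd (stateWord S ++ stateWord S)).filter fun x => Nat.beq x k).length : K) +
      hitSum k (stateWord S) (stdList f j t) = 0 := by
  simp only [checkSquare, Bool.and_eq_true, Nat.ble_eq, List.all_eq_true] at hd
  obtain ⟨⟨hlay, hQ⟩, hterms⟩ := hd
  obtain ⟨L, keep⟩ := layer_of_check hlay
  have hP := stateWord_pos hS
  set P := stateWord S
  have keepP : ∀ r ∈ P, certFullE6.Keeps (without (st (j + 1)) k) k r := fun r hr =>
    keep r (by simp [hr]) (hP r hr)
  have keepX : ∀ p ∈ stdList f j t, certFullE6.Keeps (without (st (j + 1)) k) k p.1 := fun p hp => by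
    have := stdList_roots f j t ▸ List.mem_map_of_mem (f := Prod.fst) hp
    exact keep _ (List.mem_append_right _ this) (oroots_spec hj _ this).1
  obtain ⟨b, hb⟩ := exists_inLayer L (fun q _ hq => from_sub le_rfl q hq) hR
  have hSS : ∀ x ∈ P ++ P, certFullE6.Pos x := fun x hx => by
    rcases List.mem_append.1 hx with h | h <;> exact hP x h
  obtain ⟨q1, q2⟩ := certFullE6.collectOdd_spec (F := K) _ hSS
  have hW := certFullE6.inLayer_word (F := K) L (certFullE6.T.collectOdd (P ++ P))
    fun x hx => ⟨q2 x hx, by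
      by_cases e : x = k
      · exact Or.inr e
      · exact Or.inl ⟨hQ x hx, e⟩⟩
  rw [q1, certFullE6.rootWord_append, count_sum] at hW
  obtain ⟨C, hC, eC⟩ := conj_word_prod L P keepP (stdList f j t) keepX fun p hp r hr hne x hx ho => by
    have hp' := stdList_roots f j t ▸ List.mem_map_of_mem (f := Prod.fst) hp
    by_cases e : x.1 = k
    · exact Or.inr e
    · exact Or.inl ⟨orbitTerms_spec hterms hp' hr hne x hx ho, e⟩
  have hXX : std f j t * std f j t = 1 := by
    rcases orbit_cases hj with ⟨a, e, -⟩ | ⟨a, b, e, -, -, -, -, -, hne, hc, -⟩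
    · simp [std, stdList, e, rootProd, certFullE6.xg_mul_self_char2]
    · have pa := (oroots_spec hj a (by simp [e])).1
      have pb := (oroots_spec hj b (by simp [e])).1
      have hcom : Commute (certFullE6.xg a t) (certFullE6.xg b (f t)) :=
        certFullE6.xg_commute pa.2 pb.2 hne
          (fun e' => ((certFullE6.not_pos_iff pa.2).2 (e' ▸ pb)) pa) hc t (f t)
      rw [show std f j t = certFullE6.xg a t * certFullE6.xg b (f t) by
          simp [std, stdList, e, rootProd],
        mul_assoc, ← mul_assoc (certFullE6.xg b (f t)), ← hcom.eq, mul_assoc,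
        certFullE6.xg_mul_self_char2, mul_one, certFullE6.xg_mul_self_char2]
  have hb' := (inLayer_conj_prod L _ keepX (certFullE6.inLayer_conj_word L keepP hb)).2
  have hall := certFullE6.inLayer_mul L (certFullE6.inLayer_mul L
    (certFullE6.inLayer_mul L hW hC) hb') hb
  have hone : certFullE6.rootWord K P * certFullE6.rootWord K P * C *
      ((rootProd (stdList f j t))⁻¹ * ((certFullE6.rootWord K P)⁻¹ * R * certFullE6.rootWord K P) *
        rootProd (stdList f j t)) * R = 1 := by
    rw [← h2, mul_assoc (certFullE6.rootWord K P) (certFullE6.rootWord K P) C, ← eC]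
    rw [show rootProd (stdList f j t) = std f j t from rfl]
    conv_lhs => rw [show (std f j t)⁻¹ = std f j t from inv_eq_of_mul_eq_one_right hXX]
    simp only [mul_assoc]
    simp only [← mul_assoc (std f j t) (std f j t), hXX, one_mul, mul_inv_cancel_left]
  rw [hone] at hall
  have h0 := certFullE6.eq_zero_of_inLayer_one L hall
  rwa [add_assoc _ b b, CharTwo.add_self_eq_zero, add_zero] at h0

theorem tw_kill {S : List ℕ} {j k : ℕ} (hj : j < 24) (hS : ∀ x ∈ S, x < 24)
    (hd : checkKillTw (stateWord S) j k = true) {t : K} {R : GL chevE6.Idx K}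
    (hR : R ∈ certFullE6.rootSpan K (from_ (st (j + 1))))
    (h2 : certFullE6.rootWord K (stateWord S) * std f j t * R *
      (certFullE6.rootWord K (stateWord S) * std f j t * R) = 1) : t = 0 := by
  simp only [checkKillTw, Bool.and_eq_true, Nat.beq_eq] at hd
  obtain ⟨⟨hsq, hcount⟩, hone⟩ := hd
  have h0 := tw_square f hf hK hj hS hsq hR h2
  rw [hcount, Nat.cast_zero, zero_add, hitSum_std] at h0
  generalize hitsOf (stateWord S) k j = h at hone h0
  rcases h with _ | ⟨h1, _ | ⟨h2, _ | ⟨h3, l⟩⟩⟩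
  · simp [oneLinear] at hone
  · rcases h1 with _ | ⟨e, _ | ⟨e', l⟩⟩ <;> simp [oneLinear] at hone
    subst hone
    simpa [hitVal] using h0
  · rcases h1 with _ | ⟨e, _ | ⟨e', l⟩⟩ <;> rcases h2 with _ | ⟨e₁, _ | ⟨e₁', l₁⟩⟩ <;>
      simp [oneLinear] at hone <;> subst hone <;> simpa [hitVal] using h0
  · simp [oneLinear] at hone

theorem tw_kfix {S : List ℕ} {j k i : ℕ} (hj : j < 24) (hS : ∀ x ∈ S, x < 24)
    (hd : checkKfixTw (stateWord S) j k i = true) {t : K} {R : GL chevE6.Idx K}
    (hR : R ∈ certFullE6.rootSpan K (from_ (st j))) (hfix : R ∈ (E6.tw f).fix)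
    (hcoef : certFullE6.InLayer (from_ (st j + 1)) (e6Ord.getD (st j) 0) t R)
    {R1 : GL chevE6.Idx K} (hR1 : R1 ∈ certFullE6.rootSpan K (from_ (st (j + 1))))
    (eR : R = std f j t * R1)
    (h2 : certFullE6.rootWord K (stateWord S) * R * (certFullE6.rootWord K (stateWord S) * R) = 1) :
    ∃ x ∈ (E6.tw f).fix, ∃ R' ∈ certFullE6.rootSpan K (from_ (st (j + 1))),
      R' ∈ (E6.tw f).fix ∧
      x * (certFullE6.rootWord K (stateWord S) * R) * x⁻¹ =
        certFullE6.rootWord K (stateWord S) * R' := by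
  simp only [checkKfixTw, Bool.and_eq_true, Nat.beq_eq, Nat.blt_eq, decide_eq_true_eq] at hd
  obtain ⟨⟨⟨⟨⟨hsq, hcount⟩, hpat⟩, hi⟩, hterms⟩, hhit⟩ := hd
  have h0 := tw_square f hf hK hj hS hsq hR1 (t := t) (by
    rw [mul_assoc _ (std f j t) R1, ← eR]; exact h2)
  rw [hcount, Nat.cast_zero, zero_add, hitSum_std, hpat] at h0
  have ht : f t = t := by
    simp [hitVal] at h0
    linear_combination h0 - t * CharTwo.two_eq_zero (R := K)
  exact tw_drop_core f hf hK hj hi hS hterms (v := t) (fun _ => ht)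
    (by rw [hitSum_std, hhit]; simp [hitVal]) hR hfix hcoef

omit hf hK [Fintype K] [CharP K 2] in
theorem goodAbs_spec {z : ℤ} (h : goodAbs z = true) : ∃ i, z.natAbs = 2 ^ i := by
  simp only [goodAbs, Bool.or_eq_true, Nat.beq_eq] at h
  rcases h with (h | h) | h
  exacts [⟨0, h⟩, ⟨1, h⟩, ⟨2, h⟩]

omit hf hK in
theorem exists_unit_root {z : ℤ} {i : ℕ} (hz : z.natAbs = 2 ^ i) (u : Kˣ) :
    ∃ w : Kˣ, w ^ z = u := by
  obtain ⟨v, hv⟩ := CertFull.exists_root_two_pow i (u : K)
  have hv0 : v ≠ 0 := fun h => u.ne_zero (by rw [← hv, h, zero_pow (by simp)])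
  rcases Int.natAbs_eq z with e | e
  · exact ⟨Units.mk0 v hv0, Units.ext (by rw [e, hz, zpow_natCast]; simpa using hv)⟩
  · refine ⟨(Units.mk0 v hv0)⁻¹, Units.ext ?_⟩
    rw [e, hz, _root_.zpow_neg, zpow_natCast, inv_pow, inv_inv]
    simpa using hv

theorem tw_scale {S : List ℕ} {j : ℕ} {e : List ℤ} (hj : j < 24) (hS : ∀ x ∈ S, x < 24)
    (hd : checkScaleTw (stateWord S) j e = true) {t : K} (ht : t ≠ 0) (hadm : Adm f j t)
    {R : GL chevE6.Idx K} (hR : R ∈ certFullE6.rootSpan K (from_ (st j)))
    (hfix : R ∈ (E6.tw f).fix)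
    (hcoef : certFullE6.InLayer (from_ (st j + 1)) (e6Ord.getD (st j) 0) t R) :
    ∃ x ∈ (E6.tw f).fix, ∃ R' ∈ certFullE6.rootSpan K (from_ (st (j + 1))),
      R' ∈ (E6.tw f).fix ∧
      x * (certFullE6.rootWord K (stateWord S) * R) * x⁻¹ =
        certFullE6.rootWord K (stateWord (S ++ [j])) * R' := by
  simp only [checkScaleTw, Bool.and_eq_true, List.all_eq_true, intZero_iff] at hd
  obtain ⟨hzero, htop⟩ := hd
  set a := e6Ord.getD (st j) 0 with ha
  set g : Kˣ →* Kˣ := Units.map (f : K →* K) with hg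
  have hgg : ∀ w : Kˣ, g (g w) = w := fun w => Units.ext (by
    simp [hg, E6.pow_sq f hf hK])
  set u : Kˣ := Units.mk0 t ht
  obtain ⟨w, hw⟩ : ∃ w : Kˣ, w ^ expA e a * g w ^ expB e a = u⁻¹ := by
    cases hl : Nat.beq (orootsOf j).length 1 <;> rw [hl] at htop <;>
      simp only [cond_true, cond_false, Bool.and_eq_true, Bool.or_eq_true, intZero_iff] at htop
    · rcases htop with ⟨hb, hgood⟩ | ⟨ha', hgood⟩
      · obtain ⟨i, hi⟩ := goodAbs_spec hgood
        obtain ⟨w, hw⟩ := exists_unit_root hi u⁻¹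
        exact ⟨w, by rw [hb, zpow_zero, mul_one, hw]⟩
      · obtain ⟨i, hi⟩ := goodAbs_spec hgood
        obtain ⟨w, hw⟩ := exists_unit_root hi u⁻¹
        exact ⟨g w, by rw [ha', zpow_zero, one_mul, hgg, hw]⟩
    · obtain ⟨hab, hgood⟩ := htop
      obtain ⟨i, hi⟩ := goodAbs_spec hgood
      obtain ⟨v, hv⟩ := exists_unit_root hi u⁻¹
      have hu : g u = u := Units.ext (by
        simp only [hg, Units.coe_map, MonoidHom.coe_coe, u, Units.val_mk0]
        exact hadm (Nat.eq_of_beq_eq_true hl))
      have hv' : g v = v := by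
        have h1 : g v ^ expA e a = v ^ expA e a := by rw [← map_zpow, hv, map_inv, hu]
        have h2 : g v ^ (expA e a).natAbs = v ^ (expA e a).natAbs := by
          rcases Int.natAbs_eq (expA e a) with h | h <;> rw [h] at h1
          · exact_mod_cast h1
          · rwa [_root_.zpow_neg, _root_.zpow_neg, zpow_natCast, zpow_natCast, inv_inj] at h1
        rw [hi] at h2
        refine Units.ext ?_
        exact (iterateFrobenius K 2 i).injective (by
          simpa [iterateFrobenius_def] using congrArg Units.val h2)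
      obtain ⟨w, hw⟩ := exists_norm f hf hK hv'
      refine ⟨w, ?_⟩
      rw [← CertFull.intBeq_imp_eq hab, ← mul_zpow, hw, hv]
  set x4 : Kˣ × Kˣ × ↥(E6.fixU f) × ↥(E6.fixU f) :=
    (w ^ e.getD 0 0 * g w ^ e.getD 1 0, w ^ e.getD 2 0 * g w ^ e.getD 3 0,
      ⟨(w * g w) ^ e.getD 4 0, (E6.mem_fixU f).2 (congrArg Units.val (show g ((w * g w) ^ e.getD 4 0) =
        (w * g w) ^ e.getD 4 0 by rw [map_zpow, map_mul, hgg, mul_comm]))⟩,
      ⟨(w * g w) ^ e.getD 5 0, (E6.mem_fixU f).2 (congrArg Units.val (show g ((w * g w) ^ e.getD 5 0) =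
        (w * g w) ^ e.getD 5 0 by rw [map_zpow, map_mul, hgg, mul_comm]))⟩) with hx4
  set z := E6.zOf f (x4.1, x4.2.1, (x4.2.2.1 : Kˣ), (x4.2.2.2 : Kˣ)) with hz
  have hchar : ∀ r : ℕ, certFullE6.tchar z r = w ^ expA e r * g w ^ expB e r := by
    intro r
    obtain ⟨z0, z1, z2, z3, z4, z5⟩ := E6.zOf_apply f (x4.1, x4.2.1, (x4.2.2.1 : Kˣ), (x4.2.2.2 : Kˣ))
    rw [Cert.tchar, show chevE6.rank = 6 from E6.simple_values.2.2.2.2.2.2.1,
      Finset.prod_range_succ, Finset.prod_range_succ, Finset.prod_range_succ,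
      Finset.prod_range_succ, Finset.prod_range_succ, Finset.prod_range_one, hz, z0, z1, z2, z3,
      z4, z5, ← hg, hx4]
    simp only [map_mul, map_zpow, hgg, expA, expB]
    exact char_aux _ _ _ _ _ _ _ _ _ _ _ _ _ _
  set x := certFullE6.torus z with hx
  have hxfix : x ∈ (E6.tw f).fix := E6.param_fix f hf hK x4
  have hconj : ∀ {n : ℕ} {y : GL chevE6.Idx K}, y ∈ certFullE6.rootSpan K (from_ n) →
      x * y * x⁻¹ ∈ certFullE6.rootSpan K (from_ n) := by
    intro n y hy
    induction hy using Subgroup.closure_induction with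
    | mem y hy =>
      obtain ⟨q, v, hq, hP, rfl⟩ := hy
      rw [hx, certFullE6.torus_conj_xg z hq.2]
      exact certFullE6.xg_mem_rootSpan hq hP _
    | one => simp [one_mem]
    | mul a b _ _ ha hb =>
      rw [show x * (a * b) * x⁻¹ = x * a * x⁻¹ * (x * b * x⁻¹) by group]
      exact mul_mem ha hb
    | inv a _ ha =>
      rw [show x * a⁻¹ * x⁻¹ = (x * a * x⁻¹)⁻¹ by group]
      exact inv_mem ha
  have hfixP : x * certFullE6.rootWord K (stateWord S) * x⁻¹ =
      certFullE6.rootWord K (stateWord S) := by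
    have em := map_list_prod (MulAut.conj x) ((stateWord S).map fun u => certFullE6.xg u (1 : K))
    rw [MulAut.conj_apply] at em
    rw [CertFull.rootWord, em, List.map_map]
    refine congrArg List.prod (List.map_congr_left fun u hu => ?_)
    simp only [Function.comp_apply, MulAut.conj_apply, hx,
      certFullE6.torus_conj_xg z (stateWord_pos hS u hu).2, hchar]
    simp [(hzero u hu).1, (hzero u hu).2]
  have hn : st j < 36 := by
    rcases orbit_cases hj with ⟨a, -, h, -⟩ | ⟨a, b, -, h, -⟩ <;> omega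
  have L := layer_top hn
  rw [← ha] at L
  have hnew : certFullE6.InLayer (from_ (st j + 1)) a (1 : K) (x * R * x⁻¹) := by
    obtain ⟨W, hW, rfl⟩ := hcoef
    refine ⟨x * W * x⁻¹, hconj hW, ?_⟩
    rw [show x * (certFullE6.xg a t * W) * x⁻¹ = x * certFullE6.xg a t * x⁻¹ * (x * W * x⁻¹) by group,
      hx, certFullE6.torus_conj_xg z L.posk.2, hchar, hw]
    simp [u, inv_mul_cancel₀ ht]
  obtain ⟨t', R', -, h1, h2, h3, h4⟩ := exists_std f hf hK hj (hconj hR)
    (mul_mem (mul_mem hxfix hfix) (inv_mem hxfix))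
  rw [← ha] at h4
  have ht' : t' = 1 := inLayer_unique L h4 hnew
  refine ⟨x, hxfix, R', h1, h2, ?_⟩
  rw [show x * (certFullE6.rootWord K (stateWord S) * R) * x⁻¹ =
    x * certFullE6.rootWord K (stateWord S) * x⁻¹ * (x * R * x⁻¹) by group, hfixP, h3, ht',
    std_one, stateWord, stateWord, List.flatMap_append, certFullE6.rootWord_append]
  simp [mul_assoc]

/-- An element is trivial or conjugate to a listed word. -/
def TwReaches (words : List (List ℕ)) (g : GL chevE6.Idx K) : Prop :=
  g = 1 ∨ ∃ i < words.length, ∃ x ∈ (E6.tw f).fix,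
    x * g * x⁻¹ = certFullE6.rootWord K (words.getD i [])

omit hf hK [Fintype K] in
theorem TwReaches.of_conj {words : List (List ℕ)} {g x : GL chevE6.Idx K}
    (hx : x ∈ (E6.tw f).fix) (h : TwReaches f words (x * g * x⁻¹)) : TwReaches f words g := by
  rcases h with h | ⟨i, hi, y, hy, e⟩
  · left
    rw [show g = x⁻¹ * (x * g * x⁻¹) * x by group, h]; group
  · exact Or.inr ⟨i, hi, y * x, mul_mem hy hx, by rw [← e]; group⟩

theorem tw_search_sound {words : List (List ℕ)} : ∀ (tr : TwTree) (S : List ℕ) (j : ℕ),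
    checkTwSearch words tr S j = true → (∀ x ∈ S, x < 24) →
    ∀ g R : GL chevE6.Idx K, R ∈ certFullE6.rootSpan K (from_ (st j)) → R ∈ (E6.tw f).fix →
      g = certFullE6.rootWord K (stateWord S) * R → g * g = 1 → TwReaches f words g := by
  intro tr
  induction tr with
  | leaf i =>
    intro S j hc hS g R hR _ e h2
    simp only [checkTwSearch, Bool.and_eq_true, Nat.beq_eq, Bool.or_eq_true, Nat.blt_eq,
      decide_eq_true_eq] at hc
    rw [certFullE6.rootSpan_eq_bot (fun q hq h => by
      have := (ps_spec hq).1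
      have h24 : st 24 = 36 := by decide +kernel
      simp only [from_, hc.1, h24] at h
      omega), Subgroup.mem_bot] at hR
    subst hR
    rw [mul_one] at e
    rcases hc.2 with h | ⟨hi, hw⟩
    · left
      obtain rfl : S = [] := by simpa [List.isEmpty_iff] using h
      simpa [stateWord, CertFull.rootWord] using e
    · exact Or.inr ⟨i, hi, 1, one_mem _, by
        rw [e, hw, (certFullE6.collectOdd_spec (F := K) _ (stateWord_pos hS)).1]; group⟩
  | dead k n =>
    intro S j hc hS g R hR _ e h2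
    exact (tw_dead (stateWord_pos hS) hc hR (e ▸ h2)).elim
  | drop i next ih =>
    intro S j hc hS g R hR hfix e h2
    simp only [checkTwSearch, Bool.and_eq_true, Nat.blt_eq] at hc
    obtain ⟨⟨hj, hdrop⟩, hnext⟩ := hc
    obtain ⟨t, R1, hadm, h1, h1f, eR, hcoef⟩ := exists_std f hf hK hj hR hfix
    obtain ⟨x, hx, R2, hR2, hR2f, e2⟩ := tw_drop f hf hK hj hS hdrop hadm hR hfix hcoef
    refine TwReaches.of_conj f hx (ih S (j + 1) hnext hS _ R2 hR2 hR2f (e ▸ e2) ?_)
    rw [show x * g * x⁻¹ * (x * g * x⁻¹) = x * (g * g) * x⁻¹ by group, h2]; group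
  | kill k next ih =>
    intro S j hc hS g R hR hfix e h2
    simp only [checkTwSearch, Bool.and_eq_true, Nat.blt_eq] at hc
    obtain ⟨⟨hj, hkill⟩, hnext⟩ := hc
    obtain ⟨t, R1, -, h1, h1f, rfl, -⟩ := exists_std f hf hK hj hR hfix
    rw [← mul_assoc] at e
    have ht := tw_kill f hf hK hj hS hkill h1 (e ▸ h2)
    refine ih S (j + 1) hnext hS g R1 h1 h1f ?_ h2
    rw [e, ht, std_zero, mul_one]
  | kfix k i next ih =>
    intro S j hc hS g R hR hfix e h2
    simp only [checkTwSearch, Bool.and_eq_true, Nat.blt_eq] at hc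
    obtain ⟨⟨hj, hkf⟩, hnext⟩ := hc
    obtain ⟨t, R1, -, h1, -, eR, hcoef⟩ := exists_std f hf hK hj hR hfix
    obtain ⟨x, hx, R2, hR2, hR2f, e2⟩ :=
      tw_kfix f hf hK hj hS hkf hR hfix hcoef h1 eR (e ▸ h2)
    refine TwReaches.of_conj f hx (ih S (j + 1) hnext hS _ R2 hR2 hR2f (e ▸ e2) ?_)
    rw [show x * g * x⁻¹ * (x * g * x⁻¹) = x * (g * g) * x⁻¹ by group, h2]; group
  | scale l next child ih1 ih2 =>
    intro S j hc hS g R hR hfix e h2
    simp only [checkTwSearch, Bool.and_eq_true, Nat.blt_eq] at hc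
    obtain ⟨⟨⟨hj, hsc⟩, hnext⟩, hchild⟩ := hc
    obtain ⟨t, R1, hadm, h1, h1f, eR, hcoef⟩ := exists_std f hf hK hj hR hfix
    by_cases ht : t = 0
    · refine ih1 S (j + 1) hnext hS g R1 h1 h1f ?_ h2
      rw [e, eR, ht, std_zero, one_mul]
    obtain ⟨x, hx, R2, hR2, hR2f, e2⟩ := tw_scale f hf hK hj hS hsc ht hadm hR hfix hcoef
    refine TwReaches.of_conj f hx
      (ih2 (S ++ [j]) (j + 1) hchild ?_ _ R2 hR2 hR2f (e ▸ e2) ?_)
    · intro y hy
      rcases List.mem_append.1 hy with h | h
      · exact hS y h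
      · rw [List.mem_singleton.1 h]; exact hj
    · rw [show x * g * x⁻¹ * (x * g * x⁻¹) = x * (g * g) * x⁻¹ by group, h2]; group

theorem tw_move {W V : List ℕ} (hW : ∀ r ∈ W, certFullE6.Pos r) {mv : TwMove}
    (h : twMoveWord W mv = some V) :
    ∃ x ∈ (E6.tw f).fix,
      x * certFullE6.rootWord K W * x⁻¹ = certFullE6.rootWord K V := by
  cases mv with
  | weyl i =>
    rw [twMoveWord] at h
    cases hb : Nat.blt i 4 && (W.map fun x => certFullE6.T.wlT (orbitsE6.getD i []) x).all
        (fun y => Nat.ble 36 y && Nat.blt y 72)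
    · rw [hb] at h; simp at h
    rw [hb, cond_true, Option.some.injEq] at h
    simp only [List.all_eq_true, Bool.and_eq_true, Nat.blt_eq, Nat.ble_eq] at hb
    obtain ⟨hi, himg⟩ := hb
    set J := orbitsE6.getD i [] with hJd
    have hJ : J ∈ orbitsE6 := by
      rw [hJd, List.getD_eq_getElem _ _ (show i < orbitsE6.length from hi)]
      exact List.getElem_mem _
    have hL : ∀ q ∈ J, q < chevE6.rank := fun q hq => by
      rw [E6.simple_values.2.2.2.2.2.2.1]
      simp only [orbitsE6, List.mem_cons, List.not_mem_nil, or_false] at hJ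
      rcases hJ with h | h | h | h <;> rw [h] at hq <;> simp at hq <;> omega
    refine ⟨certFullE6.nw K J, (E6.tw f).mem_fix.2
      ⟨certFullE6.N_le_group (certFullE6.nw_mem_N hL), E6.nw_fix f hf hK J hJ⟩, ?_⟩
    have em := map_list_prod (MulAut.conj (certFullE6.nw K J))
      (W.map fun u => certFullE6.xg u (1 : K))
    rw [MulAut.conj_apply] at em
    rw [← h, (certFullE6.collectOdd_spec (F := K) _ fun y hy => pos_iff.2 (himg y hy)).1,
      CertFull.rootWord, em, CertFull.rootWord, List.map_map, List.map_map]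
    refine congrArg List.prod (List.map_congr_left fun u hu => ?_)
    have hwsign : (certFullE6.wsign J u : K) = 1 := by
      have h2 : ((certFullE6.wsign J u : K) - 1) * ((certFullE6.wsign J u : K) - 1) = 0 := by
        linear_combination certFullE6.wsign_sq (F := K) J u +
          (1 - (certFullE6.wsign J u : K)) * CharTwo.two_eq_zero (R := K)
      exact sub_eq_zero.1 (mul_self_eq_zero.1 h2)
    simp only [Function.comp_apply, MulAut.conj_apply]
    rw [certFullE6.nw_mul_xg hL (hW u hu).2, hwsign, one_mul, mul_inv_cancel_right,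
      certFullE6.wlT_eq]
  | std i =>
    rw [twMoveWord] at h
    cases hb : Nat.blt i 24
    · rw [hb] at h; simp at h
    rw [hb, cond_true, Option.some.injEq] at h
    rw [Nat.blt_eq] at hb
    have hpos := oroots_spec hb
    refine ⟨std f i 1, std_fix f hf hK hb (adm_one f i), ?_⟩
    have hrev : ∀ A : List ℕ, certFullE6.rootWord K A.reverse = (certFullE6.rootWord K A)⁻¹ := by
      intro A
      induction A with
      | nil => simp [CertFull.rootWord]
      | cons a A ih =>
        rw [List.reverse_cons, certFullE6.rootWord_append, ih]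
        simp [CertFull.rootWord, certFullE6.xg_inv_char2]
    rw [← h, (certFullE6.collectOdd_spec (F := K) _ fun y hy => ?_).1,
      certFullE6.rootWord_append, certFullE6.rootWord_append, hrev, std_one]
    simp only [List.mem_append, List.mem_reverse] at hy
    rcases hy with (h | h) | h
    exacts [(hpos y h).1, hW y h, (hpos y h).1]

theorem tw_words_conj {nt : ℕ} {words : List (List ℕ)} {edges : List (ℕ × TwMove)}
    (hc : checkTwWords nt words edges = true) :
    ∀ i < words.length, ∃ j < nt, ∃ x ∈ (E6.tw f).fix,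
      x * certFullE6.rootWord K (words.getD i []) * x⁻¹ =
        certFullE6.rootWord K (words.getD j []) := by
  simp only [checkTwWords, Bool.and_eq_true, List.all_eq_true, Bool.or_eq_true, Nat.blt_eq,
    Nat.ble_eq, List.mem_range] at hc
  obtain ⟨⟨-, hpos⟩, hedge⟩ := hc
  intro i
  induction i using Nat.strong_induction_on with
  | _ i ih =>
    intro hi
    rcases hedge i hi with h | ⟨hlt, hm⟩
    · exact ⟨i, h, 1, one_mem _, by group⟩
    set e := edges.getD (i - nt) (i, TwMove.std 24) with he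
    obtain ⟨j, hj, x, hx, ex⟩ := ih e.1 hlt (by omega)
    rcases hV : twMoveWord (words.getD e.1 []) e.2 with _ | V
    · rw [hV] at hm; simp at hm
    rw [hV] at hm
    simp only [decide_eq_true_eq] at hm
    have hW : ∀ r ∈ words.getD e.1 [], certFullE6.Pos r := by
      intro r hr
      have hl : e.1 < words.length := by omega
      rw [List.getD_eq_getElem _ _ hl] at hr
      exact pos_iff.2 (hpos _ (List.getElem_mem hl) r hr)
    obtain ⟨y, hy, ey⟩ := tw_move f hf hK hW hV
    refine ⟨j, hj, x * y⁻¹, mul_mem hx (inv_mem hy), ?_⟩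
    rw [← hm, ← ey, ← ex]; group

end Cfsg.Agent.Lie.Chev.E6Tw
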