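import Cfsg.Agent.Lib.Lie.Chev.EvenInv.Search
import Cfsg.Agent.Lib.Lie.Chev.TwistE6

/-! Steps of the normal form search for the unipotent involutions of ²E₆(q), q even: the
positive roots of E6 in the order of the twenty-four orbits. -/

set_option autoImplicit false
set_option maxRecDepth 8000

namespace Cfsg.Agent.Lie.Chev.E6Tw

open Cfsg.Lie

/-- The orbits of positive roots, by height. -/
def e6Orbits : List (List ℕ) :=
  [[36, 56], [37, 42], [39], [46], [38, 57], [40, 43], [47], [41, 58], [44], [48, 50], [45, 59],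
    [49, 61], [51], [52, 62], [53], [60], [54, 64], [63], [55, 67], [65], [66, 68], [69], [70], [71]]

/-- The positive roots by orbits. -/
def e6Ord : List ℕ :=
  [36, 56, 37, 42, 39, 46, 38, 57, 40, 43, 47, 41, 58, 44, 48, 50, 45, 59, 49, 61, 51, 52, 62, 53,
    60, 54, 64, 63, 55, 67, 65, 66, 68, 69, 70, 71]

/-- The place of a positive root. -/
def e6PosList : List ℕ :=
  [0, 2, 6, 4, 8, 11, 3, 9, 13, 16, 5, 10, 14, 18, 15, 20, 21, 23, 25, 28, 1, 7, 12, 17, 24, 19,
    22, 27, 26, 30, 31, 29, 32, 33, 34, 35]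

/-- The place of a root. -/
def ps (r : ℕ) : ℕ := e6PosList.getD (r - 36) 0

/-- The roots of an orbit. -/
def orootsOf (j : ℕ) : List ℕ := e6Orbits.getD j []

/-- The first place of an orbit. -/
def st (j : ℕ) : ℕ := ((e6Orbits.take j).map List.length).sum

/-- The roots of a word of orbits. -/
def stateWord (S : List ℕ) : List ℕ := S.flatMap orootsOf

/-- The roots placed from `n` on, other than `k`. -/
def placed (n k : ℕ) : List ℕ :=
  e6Ord.filter fun q => Nat.ble n (ps q) && !(Nat.beq q k)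

/-- The order is compatible with the commutators. -/
def checkE6Order : Bool :=
  let T := certFullE6.T
  (List.range' 36 36).all (fun r =>
    Nat.blt (ps r) 36 && Nat.beq (e6Ord.getD (ps r) 0) r &&
      Nat.beq ((graphE6.ε r).natAbs) 1 && Nat.blt (graphE6.ρ r) 72 && Nat.ble 36 (graphE6.ρ r) &&
      (List.range' 36 36).all fun q => Nat.beq q r || (T.oddTerms r q).all fun x =>
        Nat.blt (ps r) (ps x.1) && Nat.blt (ps q) (ps x.1)) &&
  (List.range 36).all (fun n =>
    Nat.ble 36 (e6Ord.getD n 0) && Nat.blt (e6Ord.getD n 0) 72 && Nat.beq (ps (e6Ord.getD n 0)) n)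

theorem checkE6Order_ok : checkE6Order = true := by decide +kernel

/-- The shape of an orbit, and the places after it are stable. -/
def checkOrbit (j : ℕ) : Bool :=
  ((List.range' 36 36).all fun r =>
    !(Nat.ble (st (j + 1)) (ps r)) || Nat.ble (st (j + 1)) (ps (graphE6.ρ r))) &&
  match orootsOf j with
  | [a] => Nat.beq (graphE6.ρ a) a && Nat.beq (e6Ord.getD (st j) 0) a &&
      Nat.beq (st (j + 1)) (st j + 1) && Nat.blt (st j) 36
  | [a, b] => Nat.beq (graphE6.ρ a) b && Nat.beq (graphE6.ρ b) a && !(Nat.beq b a) &&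
      (certFullE6.T.commTerms a b).isEmpty &&
      Nat.beq (e6Ord.getD (st j) 0) a && Nat.beq (e6Ord.getD (st j + 1) 0) b &&
      Nat.beq (st (j + 1)) (st j + 2) && Nat.blt (st j + 1) 36
  | _ => false

theorem checkOrbit_ok : (List.range 24).all checkOrbit = true := by decide +kernel

theorem nroots_E6 : chevE6.nroots = 72 := E6.simple_values.2.2.2.2.2.2.2.1

theorem h_E6 : certFullE6.T.h = 36 := by decide +kernel

theorem pos_iff {r : ℕ} : certFullE6.Pos r ↔ 36 ≤ r ∧ r < 72 := by
  show certFullE6.T.h ≤ r ∧ r < chevE6.nroots ↔ _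
  rw [h_E6, nroots_E6]

theorem ps_spec {r : ℕ} (hr : certFullE6.Pos r) :
    ps r < 36 ∧ e6Ord.getD (ps r) 0 = r ∧
      ((graphE6.ε r).natAbs = 1 ∧ certFullE6.Pos (graphE6.ρ r)) ∧
      ∀ q, certFullE6.Pos q → q ≠ r → ∀ x ∈ certFullE6.T.commTerms r q, isOdd x.2.1 = true →
        ps r < ps x.1 ∧ ps q < ps x.1 := by
  have h := checkE6Order_ok
  simp only [checkE6Order, Bool.and_eq_true, List.all_eq_true, List.mem_range'_1, Nat.blt_eq,
    Nat.beq_eq, Bool.or_eq_true, Tables.oddTerms, List.mem_filter] at h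
  obtain ⟨hr1, hr2⟩ := pos_iff.1 hr
  simp only [Nat.ble_eq] at h
  obtain ⟨⟨⟨⟨⟨h1, h2⟩, h3⟩, h3a⟩, h3b⟩, h4⟩ := h.1 r ⟨hr1, by omega⟩
  refine ⟨h1, h2, ⟨h3, pos_iff.2 ⟨h3b, h3a⟩⟩, fun q hq hne x hx ho => ?_⟩
  obtain ⟨hq1, hq2⟩ := pos_iff.1 hq
  exact (h4 q ⟨hq1, by omega⟩).resolve_left hne x ⟨hx, ho⟩

theorem ord_spec {n : ℕ} (hn : n < 36) :
    certFullE6.Pos (e6Ord.getD n 0) ∧ ps (e6Ord.getD n 0) = n := by
  have h := checkE6Order_ok
  simp only [checkE6Order, Bool.and_eq_true, List.all_eq_true, List.mem_range, Nat.blt_eq,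
    Nat.beq_eq, Nat.ble_eq] at h
  obtain ⟨⟨h1, h2⟩, h3⟩ := h.2 n hn
  exact ⟨pos_iff.2 ⟨h1, h2⟩, h3⟩

theorem ps_inj {r q : ℕ} (hr : certFullE6.Pos r) (hq : certFullE6.Pos q) (h : ps r = ps q) :
    r = q := by
  rw [← (ps_spec hr).2.1, h, (ps_spec hq).2.1]

theorem mem_placed {n k q : ℕ} (hq : certFullE6.Pos q) (h1 : n ≤ ps q) (h2 : q ≠ k) :
    q ∈ placed n k := by
  refine List.mem_filter.2 ⟨?_, ?_⟩
  · have hlt := (ps_spec hq).1
    have e := (ps_spec hq).2.1
    have hl : ps q < e6Ord.length := hlt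
    rw [List.getD_eq_getElem _ _ hl] at e
    exact e ▸ List.getElem_mem hl
  · simp only [Bool.and_eq_true, Nat.ble_eq, Bool.not_eq_true']
    refine ⟨h1, ?_⟩
    cases h : Nat.beq q k
    · rfl
    · rw [Nat.beq_eq] at h; exact absurd h h2

variable {K : Type*} [Field K] [CharP K 2]

/-- The roots placed from `n` on. -/
def from_ (n : ℕ) : ℕ → Prop := fun q => n ≤ ps q

/-- The roots placed from `n` on, other than `k`. -/
def without (n k : ℕ) : ℕ → Prop := fun q => n ≤ ps q ∧ q ≠ k

theorem layer_top {n : ℕ} (hn : n < 36) :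
    certFullE6.Layer (from_ (n + 1)) (e6Ord.getD n 0) := by
  obtain ⟨h1, h2⟩ := ord_spec hn
  exact {
    posk := h1
    notk := fun h => by simp only [from_, h2] at h; omega
    closed := fun a q ha hq hEa _ hne x hx ho => by
      have := ((ps_spec ha).2.2.2 q hq hne.ne' x hx ho).1
      simp only [from_] at hEa ⊢
      omega
    normk := fun q hq hE hne x hx ho => by
      have := ((ps_spec h1).2.2.2 q hq hne x hx ho).2
      simp only [from_] at hE ⊢
      omega }

theorem keeps_top {n a : ℕ} (hn : n < 36) (ha : certFullE6.Pos a) :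
    certFullE6.Keeps (from_ (n + 1)) (e6Ord.getD n 0) a := by
  refine ⟨ha, fun q hq hq' hne x hx ho => ?_⟩
  have h := ((ps_spec ha).2.2.2 q hq hne x hx ho).2
  simp only [from_] at hq' ⊢
  rcases hq' with h' | rfl
  · omega
  · rw [(ord_spec hn).2] at h; omega

/-- No odd term gives `k`. -/
theorem layer_without {n k : ℕ} (hk : certFullE6.Pos k) (hnk : n ≤ ps k)
    (hcl : ∀ a ∈ placed n k, ∀ q ∈ placed n k, a < q → certFullE6.T.avoids k a q = true) :
    certFullE6.Layer (without n k) k := by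
  exact {
    posk := hk
    notk := fun h => h.2 rfl
    closed := fun a q ha hq hEa hEq hne x hx ho => by
      refine ⟨(((ps_spec ha).2.2.2 q hq hne.ne' x hx ho).1).le.trans' hEa.1, fun e => ?_⟩
      have := hcl a (mem_placed ha hEa.1 hEa.2) q (mem_placed hq hEq.1 hEq.2) hne
      simp only [Tables.avoids, Tables.oddTerms, List.all_eq_true, List.mem_filter,
        Bool.not_eq_true'] at this
      have := this x ⟨hx, ho⟩
      rw [e, Nat.beq_refl] at this
      simp at this
    normk := fun q hq hE hne x hx ho => by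
      obtain ⟨h1, h2⟩ := (ps_spec hk).2.2.2 q hq hne x hx ho
      refine ⟨by omega, fun e => ?_⟩
      rw [e] at h1
      exact lt_irrefl _ h1 }

theorem keeps_without {n k a : ℕ} (hk : certFullE6.Pos k) (hnk : n ≤ ps k) (ha : certFullE6.Pos a)
    (h : ∀ q ∈ placed n k, q ≠ a → certFullE6.T.avoids k a q = true) :
    certFullE6.Keeps (without n k) k a := by
  refine ⟨ha, fun q hq hq' hne x hx ho => ?_⟩
  obtain ⟨h1, h2⟩ := (ps_spec ha).2.2.2 q hq hne x hx ho
  rcases hq' with hq' | rfl
  · refine ⟨h2.le.trans' hq'.1, fun e => ?_⟩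
    have := h q (mem_placed hq hq'.1 hq'.2) hne
    simp only [Tables.avoids, Tables.oddTerms, List.all_eq_true, List.mem_filter,
      Bool.not_eq_true'] at this
    have := this x ⟨hx, ho⟩
    rw [e, Nat.beq_refl] at this
    simp at this
  · refine ⟨by omega, fun e => ?_⟩
    rw [e] at h2
    exact lt_irrefl _ h2

/-- A span inside a layer. -/
theorem exists_inLayer {P E : ℕ → Prop} {k : ℕ} (L : certFullE6.Layer E k)
    (h : ∀ q, certFullE6.Pos q → P q → E q ∨ q = k) {g : GL chevE6.Idx K}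
    (hg : g ∈ certFullE6.rootSpan K P) : ∃ b, certFullE6.InLayer E k b g := by
  induction hg using Subgroup.closure_induction with
  | mem g hg =>
    obtain ⟨q, u, hq, hP, rfl⟩ := hg
    rcases h q hq hP with hE | rfl
    · exact ⟨0, certFullE6.inLayer_of_mem L (certFullE6.xg_mem_rootSpan hq hE u)⟩
    · exact ⟨u, certFullE6.inLayer_xg_top L u⟩
  | one => exact ⟨0, certFullE6.inLayer_one L⟩
  | mul a b _ _ ha hb =>
    obtain ⟨x, hx⟩ := ha
    obtain ⟨y, hy⟩ := hb
    exact ⟨x + y, certFullE6.inLayer_mul L hx hy⟩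
  | inv a _ ha =>
    obtain ⟨x, hx⟩ := ha
    exact ⟨x, certFullE6.inLayer_inv L hx⟩

theorem inLayer_unique {E : ℕ → Prop} {k : ℕ} (L : certFullE6.Layer E k) {a b : K}
    {g : GL chevE6.Idx K} (ha : certFullE6.InLayer E k a g) (hb : certFullE6.InLayer E k b g) :
    a = b := by
  have h := certFullE6.inLayer_mul L (certFullE6.inLayer_inv L ha) hb
  rw [inv_mul_cancel] at h
  have := certFullE6.eq_zero_of_inLayer_one L h
  linear_combination this - b * CharTwo.two_eq_zero (R := K)

theorem inLayer_mem_from {n : ℕ} (hn : n < 36) {a : K} {g : GL chevE6.Idx K}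
    (h : certFullE6.InLayer (from_ (n + 1)) (e6Ord.getD n 0) a g) :
    g ∈ certFullE6.rootSpan K (from_ n) := by
  obtain ⟨W, hW, rfl⟩ := h
  obtain ⟨h1, h2⟩ := ord_spec hn
  exact mul_mem (certFullE6.xg_mem_rootSpan (E := from_ n) h1 (show n ≤ ps _ from h2.ge) a)
    (certFullE6.rootSpan_mono (fun q _ hq => by simp only [from_] at hq ⊢; omega) hW)

theorem mem_from_succ {n : ℕ} {a : K} {g : GL chevE6.Idx K}
    (h : certFullE6.InLayer (from_ (n + 1)) (e6Ord.getD n 0) a g) (ha : a = 0) :
    g ∈ certFullE6.rootSpan K (from_ (n + 1)) := by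
  obtain ⟨W, hW, rfl⟩ := h
  rwa [ha, certFullE6.xg_zero, one_mul]

theorem from_le_group (P : ℕ → Prop) : certFullE6.rootSpan K P ≤ chevE6.group K :=
  (Subgroup.closure_le _).2 fun _ ⟨r, t, hr, _, e⟩ => e ▸ certFullE6.xg_mem_group hr.2 t

/-- A product of root elements with coefficients. -/
def rootProd (L : List (ℕ × K)) : GL chevE6.Idx K :=
  (L.map fun p => certFullE6.xg p.1 p.2).prod

theorem rootProd_cons (p : ℕ × K) (L : List (ℕ × K)) :
    rootProd (p :: L) = certFullE6.xg p.1 p.2 * rootProd L := by simp [rootProd]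

theorem inLayer_conj_prod {E : ℕ → Prop} {k : ℕ} (L : certFullE6.Layer E k) :
    ∀ l : List (ℕ × K), (∀ p ∈ l, certFullE6.Keeps E k p.1) → ∀ {a : K} {g : GL chevE6.Idx K},
      certFullE6.InLayer E k a g →
        certFullE6.InLayer E k a (rootProd l * g * (rootProd l)⁻¹) ∧
          certFullE6.InLayer E k a ((rootProd l)⁻¹ * g * rootProd l)
  | [], _, a, g, hg => by simp [rootProd, hg]
  | p :: l, hl, a, g, hg => by
    obtain ⟨h1, h2⟩ := List.forall_mem_cons.1 hl
    refine ⟨?_, ?_⟩
    · have := certFullE6.inLayer_conj L h1 p.2 (inLayer_conj_prod L l h2 hg).1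
      simpa only [rootProd_cons, _root_.mul_inv_rev, certFullE6.xg_inv_char2, mul_assoc] using this
    · have := (inLayer_conj_prod L l h2 (certFullE6.inLayer_conj L h1 p.2 hg)).2
      simpa only [rootProd_cons, _root_.mul_inv_rev, certFullE6.xg_inv_char2, mul_assoc] using this

/-- The sum of the coefficients met on conjugating a word. -/
def hitSum (k : ℕ) (S : List ℕ) (l : List (ℕ × K)) : K :=
  (l.map fun p => ((certFullE6.T.hitExps k p.1 S).map fun i => p.2 ^ i).sum).sum

/-- Conjugating a word by a product. -/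
theorem conj_word_prod {E : ℕ → Prop} {k : ℕ} (L : certFullE6.Layer E k) (S : List ℕ)
    (hS : ∀ r ∈ S, certFullE6.Keeps E k r) : ∀ l : List (ℕ × K),
    (∀ p ∈ l, certFullE6.Keeps E k p.1) →
    (∀ p ∈ l, ∀ r ∈ S, r ≠ p.1 → certFullE6.OddTermsIn (fun y => E y ∨ y = k) p.1 r) →
    ∃ C, certFullE6.InLayer E k (hitSum k S l) C ∧
      rootProd l * certFullE6.rootWord K S * (rootProd l)⁻¹ = certFullE6.rootWord K S * C
  | [], _, _ => ⟨1, by simpa [hitSum] using certFullE6.inLayer_one (F := K) L,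
      by simp [rootProd]⟩
  | p :: l, hl, hh => by
    obtain ⟨h1, h2⟩ := List.forall_mem_cons.1 hl
    obtain ⟨g1, g2⟩ := List.forall_mem_cons.1 hh
    obtain ⟨C, hC, e⟩ := conj_word_prod L S hS l h2 g2
    obtain ⟨C', hC', e'⟩ := certFullE6.conj_word L h1.1 p.2 S hS g1
    rw [certFullE6.sum_hitExps] at hC'
    refine ⟨C' * (certFullE6.xg p.1 p.2 * C * certFullE6.xg p.1 p.2), ?_, ?_⟩
    · rw [hitSum, List.map_cons, List.sum_cons]
      exact certFullE6.inLayer_mul L hC' (certFullE6.inLayer_conj L h1 p.2 hC)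
    · rw [← mul_assoc (certFullE6.rootWord K S), ← e']
      calc rootProd (p :: l) * certFullE6.rootWord K S * (rootProd (p :: l))⁻¹
          = certFullE6.xg p.1 p.2 *
              (rootProd l * certFullE6.rootWord K S * (rootProd l)⁻¹) *
              certFullE6.xg p.1 p.2 := by
            simp only [rootProd_cons, _root_.mul_inv_rev, certFullE6.xg_inv_char2, mul_assoc]
        _ = _ := by
            rw [e]
            simp only [mul_assoc, ← mul_assoc (certFullE6.xg p.1 p.2) (certFullE6.xg p.1 p.2),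
              certFullE6.xg_mul_self_char2, one_mul]

variable (f : K →+* K)

/-- The coefficients of the standard element of an orbit. -/
def stdList (j : ℕ) (t : K) : List (ℕ × K) :=
  match orootsOf j with
  | [] => []
  | a :: l => (a, t) :: l.map fun c => (c, f t)

/-- The standard element of an orbit. -/
def std (j : ℕ) (t : K) : GL chevE6.Idx K := rootProd (stdList f j t)

/-- An admissible parameter of an orbit: fixed, when the orbit is a single root. -/
def Adm (j : ℕ) (t : K) : Prop := (orootsOf j).length = 1 → f t = t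

theorem stdList_roots (j : ℕ) (t : K) : (stdList f j t).map Prod.fst = orootsOf j := by
  unfold stdList
  rcases orootsOf j with _ | ⟨a, l⟩ <;> simp [List.map_map, Function.comp_def]

theorem std_one (j : ℕ) : std f j 1 = certFullE6.rootWord K (orootsOf j) := by
  unfold std stdList
  rcases orootsOf j with _ | ⟨a, l⟩ <;>
    simp [rootProd, CertFull.rootWord, List.map_map, Function.comp_def]

theorem std_zero (j : ℕ) : std f j (0 : K) = 1 := by
  unfold std stdList
  rcases orootsOf j with _ | ⟨a, l⟩ <;>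
    simp [rootProd, List.map_map, Function.comp_def, certFullE6.xg_zero]

theorem adm_one (j : ℕ) : Adm f j 1 := fun _ => map_one f

theorem adm_zero (j : ℕ) : Adm f j 0 := fun _ => map_zero f

/-- The two shapes of an orbit. -/
theorem orbit_cases {j : ℕ} (hj : j < 24) :
    (∃ a, orootsOf j = [a] ∧ st j < 36 ∧ e6Ord.getD (st j) 0 = a ∧ graphE6.ρ a = a ∧
      st (j + 1) = st j + 1) ∨
    (∃ a b, orootsOf j = [a, b] ∧ st j + 1 < 36 ∧ e6Ord.getD (st j) 0 = a ∧
      e6Ord.getD (st j + 1) 0 = b ∧ graphE6.ρ a = b ∧ graphE6.ρ b = a ∧ b ≠ a ∧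
      certFullE6.T.commTerms a b = [] ∧ st (j + 1) = st j + 2) := by
  have h := checkOrbit_ok
  simp only [List.all_eq_true, List.mem_range] at h
  have h := h j hj
  simp only [checkOrbit, Bool.and_eq_true] at h
  replace h := h.2
  rcases ho : orootsOf j with _ | ⟨a, _ | ⟨b, _ | ⟨c, l⟩⟩⟩
  · simp [ho] at h
  · simp only [ho, Bool.and_eq_true, Nat.beq_eq, Nat.blt_eq] at h
    exact Or.inl ⟨a, rfl, h.2, h.1.1.2, h.1.1.1, h.1.2⟩
  · simp only [ho, Bool.and_eq_true, Nat.beq_eq, Nat.blt_eq, List.isEmpty_iff,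
      Bool.not_eq_true'] at h
    obtain ⟨⟨⟨⟨⟨⟨⟨h1, h2⟩, h3⟩, h4⟩, h5⟩, h6⟩, h7⟩, h8⟩ := h
    refine Or.inr ⟨a, b, rfl, h8, h5, h6, h1, h2, fun e => ?_, h4, h7⟩
    rw [e, Nat.beq_refl] at h3
    simp at h3
  · simp [ho] at h

theorem st_stable {j : ℕ} (hj : j < 24) {r : ℕ} (hr : certFullE6.Pos r)
    (h : st (j + 1) ≤ ps r) : st (j + 1) ≤ ps (graphE6.ρ r) := by
  have hc := checkOrbit_ok
  simp only [List.all_eq_true, List.mem_range] at hc
  have hc := hc j hj
  simp only [checkOrbit, Bool.and_eq_true, List.all_eq_true, List.mem_range'_1, Bool.or_eq_true,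
    Bool.not_eq_true', Nat.ble_eq] at hc
  obtain ⟨hr1, hr2⟩ := pos_iff.1 hr
  refine (hc.1 r ⟨hr1, by omega⟩).resolve_left fun e => ?_
  rw [Nat.ble_eq_true_of_le h] at e
  simp at e

theorem oroots_spec {j : ℕ} (hj : j < 24) :
    ∀ r ∈ orootsOf j, certFullE6.Pos r ∧ st j ≤ ps r := by
  intro r hr
  rcases orbit_cases hj with ⟨a, e, h1, h2, -, -⟩ | ⟨a, b, e, h1, h2, h3, -, -, -, -, -⟩ <;>
    rw [e] at hr <;> simp only [List.mem_cons, List.not_mem_nil, or_false] at hr
  · subst hr
    obtain ⟨p1, p2⟩ := ord_spec h1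
    rw [h2] at p1 p2
    exact ⟨p1, p2.ge⟩
  · rcases hr with rfl | rfl
    · obtain ⟨p1, p2⟩ := ord_spec (show st j < 36 by omega)
      rw [h2] at p1 p2
      exact ⟨p1, p2.ge⟩
    · obtain ⟨p1, p2⟩ := ord_spec h1
      rw [h3] at p1 p2
      exact ⟨p1, by omega⟩

theorem std_mem_from {j : ℕ} (hj : j < 24) (t : K) :
    std f j t ∈ certFullE6.rootSpan K (from_ (st j)) := by
  refine list_prod_mem fun g hg => ?_
  obtain ⟨p, hp, rfl⟩ := List.mem_map.1 hg
  have hp' : p.1 ∈ orootsOf j := stdList_roots f j t ▸ List.mem_map_of_mem hp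
  exact certFullE6.xg_mem_rootSpan (oroots_spec hj _ hp').1 (oroots_spec hj _ hp').2 _

theorem act_root {r : ℕ} (hr : certFullE6.Pos r) (t : K) :
    (E6.tw f).act (certFullE6.xg r t) = certFullE6.xg (graphE6.ρ r) (f t) := by
  rw [(E6.tw f).act_xg hr.2]
  show certFullE6.xg (graphE6.ρ r) ((graphE6.ε r : K) * f t) = _
  rcases Int.natAbs_eq (graphE6.ε r) with e | e <;> rw [e, (ps_spec hr).2.2.1.1] <;>
    simp [CharTwo.neg_eq]

theorem act_mem_after {j : ℕ} (hj : j < 24) {g : GL chevE6.Idx K}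
    (hg : g ∈ certFullE6.rootSpan K (from_ (st (j + 1)))) :
    (E6.tw f).act g ∈ certFullE6.rootSpan K (from_ (st (j + 1))) := by
  induction hg using Subgroup.closure_induction with
  | mem g hg =>
    obtain ⟨q, u, hq, hP, rfl⟩ := hg
    rw [act_root f hq]
    exact certFullE6.xg_mem_rootSpan (ps_spec hq).2.2.1.2 (st_stable hj hq hP) _
  | one => rw [(E6.tw f).act_one]; exact one_mem _
  | mul a b ha hb iha ihb =>
    rw [(E6.tw f).act_mul (from_le_group _ ha) (from_le_group _ hb)]
    exact mul_mem iha ihb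
  | inv a ha iha =>
    rw [(E6.tw f).act_inv (from_le_group _ ha)]
    exact inv_mem iha

variable [Fintype K] {q : ℕ} (hf : ∀ t, f t = t ^ q) (hK : Fintype.card K = q ^ 2)

include hf hK

theorem std_fix {j : ℕ} (hj : j < 24) {t : K} (ht : Adm f j t) :
    std f j t ∈ (E6.tw f).fix := by
  have hg : std f j t ∈ chevE6.group K := from_le_group _ (std_mem_from f hj t)
  refine (E6.tw f).mem_fix.2 ⟨hg, ?_⟩
  rcases orbit_cases hj with ⟨a, e, -, -, ra, -⟩ | ⟨a, b, e, -, -, -, ra, rb, hne, hc, -⟩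
  · have pa := (oroots_spec hj a (by simp [e])).1
    rw [show std f j t = certFullE6.xg a t by simp [std, stdList, e, rootProd],
      act_root f pa, ra, ht (by simp [e])]
  · have pa := (oroots_spec hj a (by simp [e])).1
    have pb := (oroots_spec hj b (by simp [e])).1
    rw [show std f j t = certFullE6.xg a t * certFullE6.xg b (f t) by
        simp [std, stdList, e, rootProd],
      (E6.tw f).act_mul (certFullE6.xg_mem_group pa.2 _) (certFullE6.xg_mem_group pb.2 _),
      act_root f pa, act_root f pb, ra, rb, E6.pow_sq f hf hK]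
    exact (certFullE6.xg_commute pa.2 pb.2 hne
      (fun e' => ((certFullE6.not_pos_iff pa.2).2 (e' ▸ pb)) pa) hc t (f t)).eq.symm

/-- A fixed element of a span starts with a standard element. -/
theorem exists_std {j : ℕ} (hj : j < 24) {R : GL chevE6.Idx K}
    (hR : R ∈ certFullE6.rootSpan K (from_ (st j))) (hfix : R ∈ (E6.tw f).fix) :
    ∃ t R', Adm f j t ∧ R' ∈ certFullE6.rootSpan K (from_ (st (j + 1))) ∧
      R' ∈ (E6.tw f).fix ∧ R = std f j t * R' ∧
      certFullE6.InLayer (from_ (st j + 1)) (e6Ord.getD (st j) 0) t R := by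
  have hact := ((E6.tw f).mem_fix.1 hfix).2
  have hxg : ∀ {r : ℕ}, certFullE6.Pos r → ∀ v : K, certFullE6.xg r v ∈ chevE6.group K :=
    fun hr v => certFullE6.xg_mem_group hr.2 v
  have sub : ∀ {n : ℕ} (hn : n < 36) (q : ℕ), certFullE6.Pos q → from_ n q →
      from_ (n + 1) q ∨ q = e6Ord.getD n 0 := by
    intro n hn q hq hP
    simp only [from_] at hP ⊢
    rcases hP.lt_or_eq with h | h
    · exact Or.inl h
    · exact Or.inr (ps_inj hq (ord_spec hn).1 (by rw [(ord_spec hn).2]; exact h.symm))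
  rcases orbit_cases hj with ⟨a, e, hlt, ea, ra, hn⟩ | ⟨a, b, e, hlt, ea, eb, ra, rb, hne, hc, hn⟩
  · have La := layer_top hlt
    obtain ⟨u, W, hW, rfl⟩ := exists_inLayer La (sub hlt) hR
    rw [ea] at La hact ⊢
    have pa : certFullE6.Pos a := La.posk
    rw [← hn] at hW
    have hWg := from_le_group (K := K) _ hW
    rw [(E6.tw f).act_mul (hxg pa _) hWg, act_root f pa, ra] at hact
    have hW0 := certFullE6.inLayer_mul La (certFullE6.inLayer_xg_top La (f u))
      (certFullE6.inLayer_of_mem La (hn ▸ act_mem_after f hj hW))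
    rw [hact, add_zero] at hW0
    have hu : f u = u := inLayer_unique La hW0 ⟨_, hn ▸ hW, rfl⟩
    have hadm : Adm f j u := fun _ => hu
    rw [ea] at hfix
    refine ⟨u, W, hadm, hW, ?_, ?_, ⟨_, hn ▸ hW, rfl⟩⟩
    · have hs := std_fix f hf hK hj hadm
      have : W = (std f j u)⁻¹ * (certFullE6.xg a u * W) := by
        simp [std, stdList, e, rootProd]
      rw [this]
      exact mul_mem (inv_mem hs) hfix
    · simp [std, stdList, e, rootProd]
  · have La := layer_top (show st j < 36 by omega)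
    have Lb := layer_top hlt
    obtain ⟨u, W, hW, rfl⟩ := exists_inLayer La (sub (show st j < 36 by omega)) hR
    obtain ⟨w, W', hW', rfl⟩ := exists_inLayer Lb (sub hlt) hW
    rw [ea] at La hact hfix ⊢
    rw [eb] at Lb hact hfix hW ⊢
    have pa : certFullE6.Pos a := La.posk
    have pb : certFullE6.Pos b := Lb.posk
    rw [show st j + 1 + 1 = st (j + 1) by omega] at hW'
    have hWg := from_le_group (K := K) _ hW'
    rw [(E6.tw f).act_mul (hxg pa _) (mul_mem (hxg pb _) hWg),
      (E6.tw f).act_mul (hxg pb _) hWg, act_root f pa, act_root f pb, ra, rb] at hact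
    have hb0 : certFullE6.InLayer (from_ (st j + 1)) a (0 : K) (certFullE6.xg b (f u)) :=
      certFullE6.inLayer_of_mem La (certFullE6.xg_mem_rootSpan pb (by
        have := (ord_spec hlt).2
        rw [eb] at this
        simp only [from_]; omega) _)
    have hW0 : certFullE6.InLayer (from_ (st j + 1)) a (0 : K) ((E6.tw f).act W') :=
      certFullE6.inLayer_of_mem La (certFullE6.rootSpan_mono
        (fun q _ hq => by simp only [from_] at hq ⊢; omega) (act_mem_after f hj hW'))
    have h1 := certFullE6.inLayer_mul La hb0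
      (certFullE6.inLayer_mul La (certFullE6.inLayer_xg_top La (f w)) hW0)
    rw [hact, zero_add, add_zero] at h1
    have hu : f w = u := inLayer_unique La h1 ⟨_, hW, rfl⟩
    have hw : f u = w := by rw [← hu, E6.pow_sq f hf hK]
    have hadm : Adm f j u := fun hl => by simp [e] at hl
    have estd : certFullE6.xg a u * (certFullE6.xg b w * W') = std f j u * W' := by
      simp [std, stdList, e, rootProd, hw, mul_assoc]
    refine ⟨u, W', hadm, hW', ?_, estd, ⟨_, hW, rfl⟩⟩
    rw [show W' = (std f j u)⁻¹ * (std f j u * W') by group, ← estd]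
    exact mul_mem (inv_mem (std_fix f hf hK hj hadm)) hfix

end Cfsg.Agent.Lie.Chev.E6Tw
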